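import Groth.Agent.AlgSt.K734.FibFp
/-!
K734.FibFp2 : more equivalences between 2-fibre products (namespace `K734.Fib`), any universes.

* `fpComp z g f : fp (fpSnd z g) f ⥤ᵇ fp z (f ⋙ g)` : the 2-fibre product with a composite.
* `fpOne G : 𝒴 ⟶ fp (id) G`.
-/

set_option autoImplicit false
set_option backward.isDefEq.respectTransparency false
set_option backward.isDefEq.respectTransparency.types false

universe v₇ u₇ v₆ u₆ v₅ u₅ v₄ u₄ v₃ u₃ v₂ u₂ v u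

open CategoryTheory CategoryTheory.Limits

namespace K734.Fib

variable {C : Type u} [Category.{v} C]

variable {𝒳 : BasedCategory.{v₂, u₂} C} {𝒴 : BasedCategory.{v₃, u₃} C} {𝒮 : BasedCategory.{v₄, u₄} C}
variable {𝒲 : BasedCategory.{v₅, u₅} C} {𝒯 : BasedCategory.{v₆, u₆} C}

/-- Fibre product with a composite `f ⋙ g`. -/
def fpComp (z : 𝒲 ⥤ᵇ 𝒮) (g : 𝒴 ⥤ᵇ 𝒮) (f : 𝒳 ⥤ᵇ 𝒴) :
    FibCat.fp (FibCat.fpSnd z g) f ⥤ᵇ FibCat.fp z (BasedFunctor.comp f g) :=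
  FibCat.fpLift (BasedFunctor.comp (FibCat.fpFst (FibCat.fpSnd z g) f) (FibCat.fpFst z g))
    (FibCat.fpSnd (FibCat.fpSnd z g) f)
    (wl (FibCat.fpFst (FibCat.fpSnd z g) f) (FibCat.fpIso z g) ≪≫
      wr (FibCat.fpIso (FibCat.fpSnd z g) f) g)

theorem fpComp_fst' (z : 𝒲 ⥤ᵇ 𝒮) (g : 𝒴 ⥤ᵇ 𝒮) (f : 𝒳 ⥤ᵇ 𝒴) :
    BasedFunctor.comp (fpComp z g f) (FibCat.fpFst z (BasedFunctor.comp f g)) =
      BasedFunctor.comp (FibCat.fpFst (FibCat.fpSnd z g) f) (FibCat.fpFst z g) := rfl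

theorem fpComp_snd' (z : 𝒲 ⥤ᵇ 𝒮) (g : 𝒴 ⥤ᵇ 𝒮) (f : 𝒳 ⥤ᵇ 𝒴) :
    BasedFunctor.comp (fpComp z g f) (FibCat.fpSnd z (BasedFunctor.comp f g)) =
      FibCat.fpSnd (FibCat.fpSnd z g) f := rfl

theorem fpComp_iso (z : 𝒲 ⥤ᵇ 𝒮) (g : 𝒴 ⥤ᵇ 𝒮) (f : 𝒳 ⥤ᵇ 𝒴) (w : (FibCat.fp (FibCat.fpSnd z g) f).obj) :
    (app (wl (FibCat.fpFst (FibCat.fpSnd z g) f) (FibCat.fpIso z g) ≪≫
      wr (FibCat.fpIso (FibCat.fpSnd z g) f) g) w).hom = w.obj.fst.obj.iso.hom ≫ g.map w.obj.iso.hom := rfl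

theorem isEquivOver_fpComp (z : 𝒲 ⥤ᵇ 𝒮) (g : 𝒴 ⥤ᵇ 𝒮) (f : 𝒳 ⥤ᵇ 𝒴) :
    FibCat.IsEquivOver (fpComp z g f) := by
  refine isTwoCart_of _ _ _ ?_ ?_ ?_
  · intro w w' p q h
    -- w = ((w₁, y, φ), x, ψ : y ≅ f x)
    rw [fpComp_iso, fpComp_iso] at h
    have h' : z.map p ≫ w'.obj.fst.obj.iso.hom ≫ g.map w'.obj.iso.hom =
        (w.obj.fst.obj.iso.hom ≫ g.map w.obj.iso.hom) ≫ g.map (f.map q) := h
    let r : w.obj.fst.obj.snd ⟶ w'.obj.fst.obj.snd := w.obj.iso.hom ≫ f.map q ≫ w'.obj.iso.inv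
    have hr : z.map p ≫ w'.obj.fst.obj.iso.hom = w.obj.fst.obj.iso.hom ≫ g.map r := by
      have : g.map r = g.map w.obj.iso.hom ≫ g.map (f.map q) ≫ g.map w'.obj.iso.inv := by
        simp only [r]
        rw [Functor.map_comp, Functor.map_comp]
      rw [this, ← Category.assoc, ← Category.assoc, ← h', Category.assoc, Category.assoc, ← Functor.map_comp,
        Iso.hom_inv_id, Functor.map_id, Category.comp_id]
    refine ⟨mkHomFp (mkHomFp p r hr) q ?_, rfl, rfl⟩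
    show r ≫ w'.obj.iso.hom = w.obj.iso.hom ≫ f.map q
    simp [r]
  · intro w w' h h' e1 e2
    have e1' : h.hom.fst.hom.fst = h'.hom.fst.hom.fst := e1
    have e2' : h.hom.snd = h'.hom.snd := e2
    have e3 : h.hom.fst.hom.snd = h'.hom.fst.hom.snd := by
      have h1 := homFp_w h
      have h2 := homFp_w h'
      rw [e2', ← h2] at h1
      exact (cancel_mono _).1 h1
    exact homFp_ext (homFp_ext e1' e3) e2'
  · intro x y φ hφ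
    refine ⟨mkObj (mkObj x (f.obj y) φ hφ) y (Iso.refl _) (IsVert.id _), Iso.refl _, Iso.refl _, IsVert.id _, ?_⟩
    show z.map (𝟙 x) ≫ φ.hom = (φ.hom ≫ g.map (𝟙 (f.obj y))) ≫ g.map (f.map (𝟙 y))
    have h1 : z.map (𝟙 x) = 𝟙 _ := z.map_id x
    have h2 : g.map (𝟙 (f.obj y)) = 𝟙 _ := g.map_id _
    have h3 : g.map (f.map (𝟙 y)) = 𝟙 _ := (congrArg g.map (f.map_id y)).trans h2
    rw [h1, h2, h3]
    exact (Category.id_comp _).trans ((Category.comp_id _).symm.trans (Category.comp_id _).symm)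

/-- If the second functor is an identity, `fpFst` is an equivalence. -/
theorem isEquivOver_fpFst_id (F : 𝒳 ⥤ᵇ 𝒮) : FibCat.IsEquivOver (FibCat.fpFst F (BasedFunctor.id 𝒮)) :=
  isEquivOver_fpFst F _ (isEquivOver_refl _)

theorem isEquivOver_fpSnd_id (F : 𝒳 ⥤ᵇ 𝒮) : FibCat.IsEquivOver (FibCat.fpSnd (BasedFunctor.id 𝒮) F) :=
  isEquivOver_fpSnd _ F (isEquivOver_refl _)

end K734.Fib
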