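import Groth.Agent.AlgSt.K734.Rep
import Groth.Agent.AlgSt.K734.FibFp2
import Groth.Agent.S9874
import Groth.Agent.S10091
import Groth.Agent.AlgSp.K609.Points
import Groth.Agent.AlgSp.K597.LocP
import Groth.Prelude.Def_AlgSp4
import Groth.Prelude.Def_AlgSpCov
/-!
K734.RepSp : fibre products `fp y f` for `y : ofSp G ⥤ᵇ 𝒴`, `G` a sheaf or an algebraic space.

* `IsRep f y π` (`π : F ⟶ G`) : `ofSp F ≃ fp y f` over `ofSp G`.
* `IsRep.unique`, `IsRep.baseChange`, `IsRep.congr`.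
* `exists_isRep` : existence for `G` an algebraic space, `f` representable.
* `repBySpWith_of_isRep`, `prop_of_isRep` : `π` has `P` when `f` does (`P` stable under base change and local).
-/

set_option autoImplicit false
set_option backward.isDefEq.respectTransparency false
set_option backward.isDefEq.respectTransparency.types false

universe w v₇ u₇ v₆ u₆ v₅ u₅ v₄ u₄ v₃ u₃ v₂ u₂ v u

open CategoryTheory CategoryTheory.Limits Opposite AlgebraicGeometry K734.Fib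

namespace K734.Rep

variable {S : Scheme.{u}}

section IsRep

variable {𝒳 : BasedCategory.{v₂, u₂} (Over S)} {𝒴 : BasedCategory.{v₃, u₃} (Over S)}

/-- `ofSp F ≃ fp y f` compatibly with `π : F ⟶ G`. -/
def IsRep (f : 𝒳 ⥤ᵇ 𝒴) {F G : AlgSp.Sp S} (y : AlgSt.ofSp G ⥤ᵇ 𝒴) (π : F ⟶ G) : Prop :=
  ∃ e : AlgSt.ofSp F ⥤ᵇ FibCat.fp y f, FibCat.IsEquivOver e ∧
    Nonempty (BasedFunctor.comp e (FibCat.fpFst y f) ≅ AlgSt.ofSpMap π)

variable {f : 𝒳 ⥤ᵇ 𝒴} {F F' G G' : AlgSp.Sp S} {y : AlgSt.ofSp G ⥤ᵇ 𝒴}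

theorem ofSpMap_comp {F G H : AlgSp.Sp S} (a : F ⟶ G) (b : G ⟶ H) :
    BasedFunctor.comp (AlgSt.ofSpMap a) (AlgSt.ofSpMap b) = AlgSt.ofSpMap (a ≫ b) := rfl

theorem ofSpMap_inj {F G : AlgSp.Sp S} {a b : F ⟶ G} (e : AlgSt.ofSpMap a ≅ AlgSt.ofSpMap b) : a = b :=
  ObjectProperty.hom_ext _ (eq_of_ofPshMap_iso e)

/-- Every functor between categories of sheaves comes from a map. -/
theorem exists_ofSpMap {F G : AlgSp.Sp S} (Φ : AlgSt.ofSp F ⥤ᵇ AlgSt.ofSp G) :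
    ∃ a : F ⟶ G, Nonempty (Φ ≅ AlgSt.ofSpMap a) := by
  obtain ⟨i⟩ := nonempty_iso_ofPshMap Φ
  exact ⟨ObjectProperty.homMk (pshHom Φ), ⟨i⟩⟩

theorem isEquivOver_ofSpMap_iff {F G : AlgSp.Sp S} (a : F ⟶ G) :
    FibCat.IsEquivOver (AlgSt.ofSpMap a) ↔ IsIso a := by
  rw [isEquivOver_ofPshMap_iff]
  constructor
  · intro h
    have h' : IsIso ((sheafToPresheaf (AlgSp.J S) (Type (u + 1))).map a) := h
    exact isIso_of_reflects_iso a (sheafToPresheaf (AlgSp.J S) (Type (u + 1)))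
  · intro h
    exact inferInstanceAs (IsIso ((sheafToPresheaf (AlgSp.J S) (Type (u + 1))).map a))

theorem IsRep.unique {π : F ⟶ G} {π' : F' ⟶ G} (h : IsRep f y π) (h' : IsRep f y π') :
    ∃ i : F ≅ F', i.hom ≫ π' = π := by
  obtain ⟨e, he, ⟨α⟩⟩ := h
  obtain ⟨e', he', ⟨α'⟩⟩ := h'
  obtain ⟨k, hk, -, ⟨β⟩⟩ := exists_inverse he'
  obtain ⟨a, ⟨j⟩⟩ := exists_ofSpMap (BasedFunctor.comp e k)
  have ha : IsIso a := (isEquivOver_ofSpMap_iff a).1 (isEquivOver_of_iso j (isEquivOver_comp he hk))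
  refine ⟨asIso a, ?_⟩
  apply ofSpMap_inj
  -- ofSpMap a ⋙ ofSpMap π' ≅ e ⋙ k ⋙ e' ⋙ fst ≅ e ⋙ fst ≅ ofSpMap π
  have i1 : BasedFunctor.comp (AlgSt.ofSpMap a) (AlgSt.ofSpMap π') ≅
      BasedFunctor.comp (BasedFunctor.comp e k) (BasedFunctor.comp e' (FibCat.fpFst y f)) :=
    wr j.symm (AlgSt.ofSpMap π') ≪≫ wl (BasedFunctor.comp e k) α'.symm
  have i2 : BasedFunctor.comp (BasedFunctor.comp e k) (BasedFunctor.comp e' (FibCat.fpFst y f)) ≅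
      BasedFunctor.comp e (FibCat.fpFst y f) :=
    wr (wl e β) (FibCat.fpFst y f)
  exact i1 ≪≫ i2 ≪≫ α

theorem IsRep.of_iso {π : F ⟶ G} (h : IsRep f y π) (i : F' ≅ F) : IsRep f y (i.hom ≫ π) := by
  obtain ⟨e, he, ⟨α⟩⟩ := h
  exact ⟨BasedFunctor.comp (AlgSt.ofSpMap i.hom) e,
    isEquivOver_comp ((isEquivOver_ofSpMap_iff i.hom).2 inferInstance) he, ⟨wl (AlgSt.ofSpMap i.hom) α⟩⟩

theorem IsRep.congr {π : F ⟶ G} (h : IsRep f y π) {y' : AlgSt.ofSp G ⥤ᵇ 𝒴} (i : y ≅ y') : IsRep f y' π := by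
  obtain ⟨e, he, ⟨α⟩⟩ := h
  exact ⟨BasedFunctor.comp e (fpCongrL i.symm f), isEquivOver_comp he (isEquivOver_fpCongrL i.symm f), ⟨α⟩⟩

theorem IsRep.congrR {π : F ⟶ G} (h : IsRep f y π) {f' : 𝒳 ⥤ᵇ 𝒴} (i : f ≅ f') : IsRep f' y π := by
  obtain ⟨e, he, ⟨α⟩⟩ := h
  exact ⟨BasedFunctor.comp e (fpCongrR y i.symm), isEquivOver_comp he (isEquivOver_fpCongrR y i.symm), ⟨α⟩⟩

/-- A pullback square of sheaves is 2-cartesian. -/
theorem isRep_ofSpMap {F G H F' : AlgSp.Sp S} {a : F ⟶ G} {b : H ⟶ G} {fst : F' ⟶ F} {snd : F' ⟶ H}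
    (sq : IsPullback fst snd a b) : IsRep (AlgSt.ofSpMap a) (AlgSt.ofSpMap b) snd := by
  have sq' := sq.flip.map (sheafToPresheaf (AlgSp.J S) (Type (u + 1)))
  exact ⟨_, isEquivOver_fp_ofPsh sq' (eqToIso (congrArg Stk.ofPshMap sq'.w)), ⟨Iso.refl _⟩⟩

/-- Base change of representing sheaves. -/
theorem IsRep.baseChange {π : F ⟶ G} (h : IsRep f y π) {a : G' ⟶ G} {fst : F' ⟶ F} {snd : F' ⟶ G'}
    (sq : IsPullback fst snd π a) : IsRep f (BasedFunctor.comp (AlgSt.ofSpMap a) y) snd := by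
  obtain ⟨e, he, ⟨α⟩⟩ := h
  obtain ⟨e₁, he₁, ⟨α₁⟩⟩ := isRep_ofSpMap sq
  -- fp (ofSpMap a) (ofSpMap π) ≃ fp (ofSpMap a) (e ⋙ fst) ≃ fp (ofSpMap a) (fst) ≃ fp (ofSpMap a ⋙ y) f
  have h2 := isEquivOver_fpCongrR (AlgSt.ofSpMap a) α
  have h3 := isEquivOver_fpPreR (AlgSt.ofSpMap a) e he (FibCat.fpFst y f)
  obtain ⟨k, hk, -, ⟨β⟩⟩ := exists_inverse (isEquivOver_fpPaste (AlgSt.ofSpMap a) y f)
  have γ : BasedFunctor.comp k (FibCat.fpFst (BasedFunctor.comp (AlgSt.ofSpMap a) y) f) ≅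
      FibCat.fpFst (AlgSt.ofSpMap a) (FibCat.fpFst y f) :=
    wr β (FibCat.fpFst (AlgSt.ofSpMap a) (FibCat.fpFst y f))
  refine ⟨BasedFunctor.comp (BasedFunctor.comp (BasedFunctor.comp e₁ (fpCongrR (AlgSt.ofSpMap a) α))
    (fpPreR (AlgSt.ofSpMap a) e (FibCat.fpFst y f))) k,
    isEquivOver_comp (isEquivOver_comp (isEquivOver_comp he₁ h2) h3) hk, ⟨?_⟩⟩
  exact wl (BasedFunctor.comp (BasedFunctor.comp e₁ (fpCongrR (AlgSt.ofSpMap a) α))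
    (fpPreR (AlgSt.ofSpMap a) e (FibCat.fpFst y f))) γ ≪≫ α₁

/-- The definition of `RepByAlgSpWith` in terms of `IsRep`. -/
theorem repByAlgSpWith_iff (P : MorphismProperty (AlgSp.Sp S)) (f : 𝒳 ⥤ᵇ 𝒴) :
    AlgSt.RepByAlgSpWith P f ↔ ∀ (U : Over S) (y : AlgSt.ofSp ((AlgSp.yon S).obj U) ⥤ᵇ 𝒴),
      ∃ (F : AlgSp.Sp S) (π : F ⟶ (AlgSp.yon S).obj U), AlgSp.IsAlgSpace F ∧ IsRep f y π ∧ P π := by
  constructor
  · intro h U y
    obtain ⟨F, e, he, hP⟩ := h U (BasedFunctor.comp (AlgSt.ofOverCat U) y)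
    obtain ⟨α⟩ := K735.Rep.exists_iso_spMapOfOver (BasedFunctor.comp e (FibCat.fpFst _ f))
    refine ⟨F.obj, _, F.property, ⟨BasedFunctor.comp e (fpPreL (AlgSt.ofOverCat U) y f),
      isEquivOver_comp he (isEquivOver_fpPreL _ (K735.Rep.isEquivOver_ofOverCat U) y f), ?_⟩, hP⟩
    exact ⟨wr α (AlgSt.ofOverCat U)⟩
  · intro h U y
    obtain ⟨F, π, hF, ⟨e, he, ⟨α⟩⟩, hP⟩ := h U (BasedFunctor.comp (AlgSt.toOverCat U) y)
    refine ⟨⟨F, hF⟩, BasedFunctor.comp e (fpPreL (AlgSt.toOverCat U) y f),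
      isEquivOver_comp he (isEquivOver_fpPreL _ (K735.Rep.isEquivOver_toOverCat U) y f), ?_⟩
    have h1 := K735.Rep.spMapOfOver_eq_of_iso (wr α (AlgSt.toOverCat U))
    have h2 := K735.Rep.spMapOfOver_ofSpMap_toOverCat π
    have h3 : AlgSt.spMapOfOver (BasedFunctor.comp (BasedFunctor.comp e (fpPreL (AlgSt.toOverCat U) y f))
        (FibCat.fpFst y f)) = π := h1.trans h2
    rw [h3]
    exact hP

theorem repByAlgSp1_iff (f : 𝒳 ⥤ᵇ 𝒴) :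
    AlgSt.RepByAlgSp1 f ↔ ∀ (U : Over S) (y : AlgSt.ofSp ((AlgSp.yon S).obj U) ⥤ᵇ 𝒴),
      ∃ (F : AlgSp.Sp S) (π : F ⟶ (AlgSp.yon S).obj U), AlgSp.IsAlgSpace F ∧ IsRep f y π := by
  rw [K735.Rep.repByAlgSp1_iff_top, repByAlgSpWith_iff]
  constructor
  · intro h U y
    obtain ⟨F, π, h1, h2, -⟩ := h U y
    exact ⟨F, π, h1, h2⟩
  · intro h U y
    obtain ⟨F, π, h1, h2⟩ := h U y
    exact ⟨F, π, h1, h2, trivial⟩

/-- All base changes of `π` to schemes have `P` when `f` has. -/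
theorem IsRep.repBySpWith {P : MorphismProperty (AlgSp.Sp S)} [P.RespectsIso] (hf : AlgSt.RepByAlgSpWith P f)
    {π : F ⟶ G} (h : IsRep f y π) : AlgSp.RepBySpWith P π.hom := by
  rw [AlgSp.repBySpWith_hom_iff]
  intro U ξ F' fst snd sq
  have h1 := h.baseChange sq
  obtain ⟨F₀, π₀, hF₀, h₀, hP₀⟩ := (repByAlgSpWith_iff P f).1 hf U (BasedFunctor.comp (AlgSt.ofSpMap ξ) y)
  obtain ⟨i, hi⟩ := h₀.unique h1
  refine ⟨hF₀.of_iso i, ?_⟩
  rw [← hi] at hP₀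
  exact (MorphismProperty.cancel_left_of_respectsIso P i.hom snd).1 hP₀

theorem IsRep.repBySp (hf : AlgSt.RepByAlgSp1 f) {π : F ⟶ G} (h : IsRep f y π) : AlgSp.RepBySp π.hom := by
  rw [K735.Rep.repByAlgSp1_iff_top] at hf
  exact (h.repBySpWith hf).repBySp

theorem IsRep.isAlgSpace (hf : AlgSt.RepByAlgSp1 f) (hG : AlgSp.IsAlgSpace G) {π : F ⟶ G}
    (h : IsRep f y π) : AlgSp.IsAlgSpace F :=
  (AlgSp.isAlgSpaceP_obj_iff F).1
    (Groth.Agent.S10091.result S F.obj G.obj π.hom (h.repBySp hf) ((AlgSp.isAlgSpaceP_obj_iff G).2 hG))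

end IsRep

section Cat

variable {𝒳 𝒴 : AlgSt.Cat S} {f : 𝒳 ⥤ᵇ 𝒴}

/-- Existence of the representing algebraic space over an algebraic space. -/
theorem exists_isRep (h𝒳 : FibCat.IsFibGrpd 𝒳.p) (h𝒴 : FibCat.IsFibGrpd 𝒴.p) (hf : AlgSt.RepByAlgSp1 f)
    {G : AlgSp.Sp S} (hG : AlgSp.IsAlgSpace G) (y : AlgSt.ofSp G ⥤ᵇ 𝒴) :
    ∃ (F : AlgSp.Sp S) (π : F ⟶ G), AlgSp.IsAlgSpace F ∧ IsRep f y π := by
  have hfp := isFibGrpd_fp y f (isFibGrpd_ofPsh' G.obj) h𝒳 h𝒴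
  have hs : FibCat.IsFibSetoid (FibCat.fp y f).p :=
    isFibSetoid_of_faithful (faithful_fpFst y f (faithful_of_repByAlgSp1 h𝒳 h𝒴 f hf)) hfp
      (isFibSetoid_ofPsh G.obj)
  have heq := isEquivOver_toPsh hfp hs
  let π : isoPsh hfp ⟶ G.obj := descPsh hfp (FibCat.fpFst y f)
  obtain ⟨α⟩ := nonempty_toPsh_descPsh hfp (FibCat.fpFst y f)
  obtain ⟨k, hk, -, ⟨β⟩⟩ := exists_inverse heq
  -- `π` is representable by algebraic spaces
  have γ : BasedFunctor.comp k (FibCat.fpFst y f) ≅ Stk.ofPshMap π :=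
    wl k α.symm ≪≫ wr β (Stk.ofPshMap π)
  have h1 : AlgSt.RepByAlgSp1 (Stk.ofPshMap π) := by
    have h2 : AlgSt.RepByAlgSpWith ⊤ (FibCat.fpFst y f) :=
      (K735.Rep.repByAlgSp1_iff_top _).1 (repByAlgSp1_fpFst f y hf)
    exact (K735.Rep.repByAlgSp1_iff_top _).2 (K735.Rep.repByAlgSpWith_of_sq ⊤ (FibCat.fpFst y f) (Stk.ofPshMap π) k
      (BasedFunctor.id _) hk (isEquivOver_refl _) γ.symm h2)
  have h3 : AlgSp.RepBySp π := (repBySp_iff π).2 h1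
  obtain ⟨hsh, hA⟩ := Groth.Agent.S10091.result S (isoPsh hfp) G.obj π h3 ((AlgSp.isAlgSpaceP_obj_iff G).2 hG)
  exact ⟨⟨isoPsh hfp, hsh⟩, ObjectProperty.homMk π, hA, k, hk, ⟨γ⟩⟩

/-- S12766. -/
theorem repByAlgSp_fp {𝒵 : AlgSt.Cat S} (h𝒳 : FibCat.IsFibGrpd 𝒳.p) (h𝒴 : FibCat.IsFibGrpd 𝒴.p)
    (g : 𝒵 ⥤ᵇ 𝒴) (hf : AlgSt.RepByAlgSp1 f) (hZ : AlgSt.RepByAlgSp 𝒵) :
    AlgSt.RepByAlgSp (FibCat.fp g f) := by
  obtain ⟨G, e, he⟩ := hZ
  obtain ⟨F, π, hF, e', he', -⟩ := exists_isRep h𝒳 h𝒴 hf G.property (BasedFunctor.comp e g)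
  exact ⟨⟨F, hF⟩, BasedFunctor.comp e' (fpPreL e g f), isEquivOver_comp he' (isEquivOver_fpPreL e he g f)⟩

end Cat

section LocProp

/-- The property `P` restricted to morphisms of algebraic spaces. -/
def algP (P : MorphismProperty (AlgSp.Sp S)) : MorphismProperty (AlgSp.Sp S) :=
  fun X Y a => AlgSp.IsAlgSpace X ∧ AlgSp.IsAlgSpace Y ∧ P a

/-- Stability under base change along squares with algebraic corners. -/
def StableBC (P : MorphismProperty (AlgSp.Sp S)) : Prop :=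
  ∀ ⦃X₁ Y₁ X₂ Y₂ : AlgSp.Sp S⦄, AlgSp.IsAlgSpace X₁ → AlgSp.IsAlgSpace Y₁ → AlgSp.IsAlgSpace X₂ →
      AlgSp.IsAlgSpace Y₂ → ∀ (a : X₁ ⟶ Y₁) (b : Y₂ ⟶ Y₁) (a' : X₂ ⟶ Y₂) (b' : X₂ ⟶ X₁),
      IsPullback b' a' a b → P a → P a'

theorem StableBC.respectsIso {P : MorphismProperty (AlgSp.Sp S)} (hP : StableBC P) : (algP P).RespectsIso := by
  apply MorphismProperty.RespectsIso.mk
  · intro X Y Z e f ⟨hY, hZ, hf⟩
    have hX : AlgSp.IsAlgSpace X := hY.of_iso e.symm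
    exact ⟨hX, hZ, hP hY hZ hX hZ f (𝟙 Z) (e.hom ≫ f) e.hom (IsPullback.of_horiz_isIso ⟨by simp⟩) hf⟩
  · intro X Y Z e f ⟨hX, hY, hf⟩
    have hZ : AlgSp.IsAlgSpace Z := hY.of_iso e
    exact ⟨hX, hZ, hP hX hY hX hZ f e.inv (f ≫ e.hom) (𝟙 X) (IsPullback.of_horiz_isIso ⟨by simp⟩) hf⟩

variable {𝒳 : BasedCategory.{v₂, u₂} (Over S)} {𝒴 : BasedCategory.{v₃, u₃} (Over S)} {f : 𝒳 ⥤ᵇ 𝒴}

theorem repByAlgSpWith_algP_iff (P : MorphismProperty (AlgSp.Sp S)) :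
    AlgSt.RepByAlgSpWith (algP P) f ↔ AlgSt.RepByAlgSpWith P f := by
  constructor
  · intro h U y
    obtain ⟨F, e, he, -, -, hP⟩ := h U y
    exact ⟨F, e, he, hP⟩
  · intro h U y
    obtain ⟨F, e, he, hP⟩ := h U y
    exact ⟨F, e, he, F.property, AlgSp.IsAlgSpace.yon_obj U, hP⟩

/-- A surjective etale map from a scheme is an fppf covering. -/
theorem isFppfCover_chart {G : AlgSp.Sp S} {U : Over S} {p : (AlgSp.yon S).obj U ⟶ G}
    (hp : AlgSp.RepWith @Etale p) (hp' : AlgSp.RepWith @Surjective p) :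
    AlgSp.IsFppfCover (fun _ : PUnit.{u + 1} => (AlgSp.yon S).obj U) (fun _ => p) := by
  refine ⟨fun _ => ⟨?_, ?_⟩, fun x => ?_⟩
  · refine K597.locP_of_repWith (P := @Flat) (fun A B C e f he hf => ?_) ⟨hp.1, fun U V g fst snd sq => ?_⟩
    · have := he
      have := hf
      exact MorphismProperty.comp_mem _ _ _ (inferInstanceAs (Flat e)) hf
    · have : Etale snd.left := hp.2 g fst snd sq
      exact inferInstanceAs (Flat snd.left)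
  · refine K597.locP_of_repWith (P := @LocallyOfFinitePresentation) (fun A B C e f he hf => ?_)
      ⟨hp.1, fun U V g fst snd sq => ?_⟩
    · have := he
      have := hf
      exact MorphismProperty.comp_mem _ _ _ (inferInstanceAs (LocallyOfFinitePresentation e)) hf
    · have : Etale snd.left := hp.2 g fst snd sq
      exact inferInstanceAs (LocallyOfFinitePresentation snd.left)
  · exact ⟨PUnit.unit, K609.Points.surjective_map_of_repWith_surjective hp' x⟩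

/-- The representing map has `P` when `f` has `P`, for `P` stable under base change and fppf local. -/
theorem IsRep.prop {P : MorphismProperty (AlgSp.Sp S)} (hPb : StableBC P)
    (hP : AlgSp.IsLocalOnBase AlgSp.IsFppfCover P) (hf : AlgSt.RepByAlgSpWith P f) {F G : AlgSp.Sp S}
    (hG : AlgSp.IsAlgSpace G) {y : AlgSt.ofSp G ⥤ᵇ 𝒴} {π : F ⟶ G} (h : IsRep f y π) : P π := by
  have hR := hPb.respectsIso
  have h1 := h.repBySpWith ((repByAlgSpWith_algP_iff P).2 hf)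
  rw [AlgSp.repBySpWith_hom_iff] at h1
  obtain ⟨U, p, hp, hp'⟩ := hG.atlas
  have hF := h.isAlgSpace (K735.Rep.repByAlgSp1_of_with hf) hG
  have h2 := h1 p _ _ (IsPullback.of_hasPullback π p)
  exact (hP (fun _ : PUnit.{u + 1} => (AlgSp.yon S).obj U) (fun _ => p) hG
    (fun _ => AlgSp.IsAlgSpace.yon_obj U) (isFppfCover_chart hp hp') π hF (fun _ => pullback π p)
    (fun _ => pullback.snd π p) (fun _ => pullback.fst π p) (fun _ => h2.1)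
    (fun _ => IsPullback.of_hasPullback π p)).2 (fun _ => h2.2.2.2)

end LocProp

end K734.Rep
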