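import Groth.Prelude.Def_FibCat2
/-!
K734.Fib : calculus of functors over a base category `C` (namespace `K734.Fib`).

* `IsVert 𝒳 φ` : the morphism `φ` of `𝒳` lies over an identity.
* `app e x` : component at `x` of a 2-isomorphism `e`, `mkIso` : a 2-isomorphism from components.
* `isEquivOver_iff` : `IsEquivOver F` iff fully faithful and every object is vertically isomorphic to an image
  (all universes); `IsEquivOver.refl/comp/inv/of_iso/of_comp_left/of_comp_right`.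
* whiskering `wl`, `wr`.
-/

set_option autoImplicit false
set_option backward.isDefEq.respectTransparency false
set_option backward.isDefEq.respectTransparency.types false

universe v₇ u₇ v₆ u₆ v₅ u₅ v₄ u₄ v₃ u₃ v₂ u₂ v u

open CategoryTheory CategoryTheory.Limits

namespace K734.Fib

variable {C : Type u} [Category.{v} C]

section Vert

/-- `φ` lies over an identity of the base. -/
def IsVert (𝒳 : BasedCategory.{v₂, u₂} C) {a b : 𝒳.obj} (φ : a ⟶ b) : Prop :=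
  𝒳.p.IsHomLift (𝟙 (𝒳.p.obj a)) φ

variable {𝒳 : BasedCategory.{v₂, u₂} C} {𝒴 : BasedCategory.{v₃, u₃} C}

theorem IsVert.of_lift {a b : 𝒳.obj} {φ : a ⟶ b} {R : C} (h : 𝒳.p.IsHomLift (𝟙 R) φ) :
    IsVert 𝒳 φ := by
  have := IsHomLift.domain_eq 𝒳.p (𝟙 R) φ
  subst this
  exact h

theorem IsVert.lift {a b : 𝒳.obj} {φ : a ⟶ b} (h : IsVert 𝒳 φ) {R : C} (hR : 𝒳.p.obj a = R) :
    𝒳.p.IsHomLift (𝟙 R) φ := by
  subst hR; exact h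

theorem IsVert.obj_eq {a b : 𝒳.obj} {φ : a ⟶ b} (h : IsVert 𝒳 φ) : 𝒳.p.obj a = 𝒳.p.obj b := by
  have : 𝒳.p.IsHomLift (𝟙 (𝒳.p.obj a)) φ := h
  exact (IsHomLift.codomain_eq 𝒳.p (𝟙 (𝒳.p.obj a)) φ).symm

theorem IsVert.lift' {a b : 𝒳.obj} {φ : a ⟶ b} (h : IsVert 𝒳 φ) {R : C} (hR : 𝒳.p.obj b = R) :
    𝒳.p.IsHomLift (𝟙 R) φ := h.lift (h.obj_eq.trans hR)

theorem isVert_iff {a b : 𝒳.obj} {φ : a ⟶ b} :
    IsVert 𝒳 φ ↔ ∃ h : 𝒳.p.obj a = 𝒳.p.obj b, 𝒳.p.map φ = eqToHom h := by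
  constructor
  · intro h
    refine ⟨h.obj_eq, ?_⟩
    have : 𝒳.p.IsHomLift (𝟙 (𝒳.p.obj a)) φ := h
    have := IsHomLift.fac' 𝒳.p (𝟙 (𝒳.p.obj a)) φ
    simpa using this
  · rintro ⟨h, h'⟩
    refine IsHomLift.of_fac' 𝒳.p _ φ rfl h.symm ?_
    simp [h']

theorem IsVert.map_eq {a b : 𝒳.obj} {φ : a ⟶ b} (h : IsVert 𝒳 φ) :
    𝒳.p.map φ = eqToHom h.obj_eq := (isVert_iff.1 h).2

theorem IsVert.id (a : 𝒳.obj) : IsVert 𝒳 (𝟙 a) := by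
  unfold IsVert; infer_instance

theorem IsVert.eqToHom {a b : 𝒳.obj} (h : a = b) : IsVert 𝒳 (eqToHom h) := by
  subst h; exact IsVert.id _

theorem IsVert.comp {a b c : 𝒳.obj} {φ : a ⟶ b} {ψ : b ⟶ c} (h : IsVert 𝒳 φ) (h' : IsVert 𝒳 ψ) :
    IsVert 𝒳 (φ ≫ ψ) := by
  rw [isVert_iff]
  exact ⟨h.obj_eq.trans h'.obj_eq, by simp [h.map_eq, h'.map_eq]⟩

theorem IsVert.inv {a b : 𝒳.obj} {e : a ≅ b} (h : IsVert 𝒳 e.hom) : IsVert 𝒳 e.inv := by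
  rw [isVert_iff]
  refine ⟨h.obj_eq.symm, ?_⟩
  have h1 : 𝒳.p.map e.inv ≫ 𝒳.p.map e.hom = 𝟙 _ := by simp [← Functor.map_comp]
  rw [h.map_eq] at h1
  rw [← cancel_mono (CategoryTheory.eqToHom h.obj_eq), h1]
  simp

theorem IsVert.of_inv {a b : 𝒳.obj} {e : a ≅ b} (h : IsVert 𝒳 e.inv) : IsVert 𝒳 e.hom :=
  IsVert.inv (e := e.symm) h

theorem IsVert.isIso_inv {a b : 𝒳.obj} {φ : a ⟶ b} [IsIso φ] (h : IsVert 𝒳 φ) : IsVert 𝒳 (CategoryTheory.inv φ) :=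
  IsVert.inv (e := asIso φ) h

theorem IsVert.map (F : 𝒳 ⥤ᵇ 𝒴) {a b : 𝒳.obj} {φ : a ⟶ b} (h : IsVert 𝒳 φ) :
    IsVert 𝒴 (F.map φ) := by
  have : 𝒳.p.IsHomLift (𝟙 (𝒳.p.obj a)) φ := h
  exact IsVert.of_lift (R := 𝒳.p.obj a) inferInstance

theorem IsVert.of_map (F : 𝒳 ⥤ᵇ 𝒴) {a b : 𝒳.obj} {φ : a ⟶ b} (h : IsVert 𝒴 (F.map φ)) :
    IsVert 𝒳 φ := by
  have : 𝒴.p.IsHomLift (𝟙 (𝒳.p.obj a)) (F.map φ) := h.lift (F.w_obj a)
  exact BasedFunctor.isHomLift_map F (𝟙 (𝒳.p.obj a)) φ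

theorem isVert_map_iff (F : 𝒳 ⥤ᵇ 𝒴) {a b : 𝒳.obj} {φ : a ⟶ b} :
    IsVert 𝒴 (F.map φ) ↔ IsVert 𝒳 φ := ⟨IsVert.of_map F, IsVert.map F⟩

theorem IsVert.of_comp_left {a b c : 𝒳.obj} {φ : a ⟶ b} {ψ : b ⟶ c} (h : IsVert 𝒳 (φ ≫ ψ))
    (h' : IsVert 𝒳 ψ) : IsVert 𝒳 φ := by
  rw [isVert_iff]
  refine ⟨h.obj_eq.trans h'.obj_eq.symm, ?_⟩
  have := h.map_eq
  rw [Functor.map_comp, h'.map_eq] at this
  rw [← cancel_mono (CategoryTheory.eqToHom h'.obj_eq), this]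
  simp

theorem IsVert.of_comp_right {a b c : 𝒳.obj} {φ : a ⟶ b} {ψ : b ⟶ c} (h : IsVert 𝒳 (φ ≫ ψ))
    (h' : IsVert 𝒳 φ) : IsVert 𝒳 ψ := by
  rw [isVert_iff]
  refine ⟨h'.obj_eq.symm.trans h.obj_eq, ?_⟩
  have := h.map_eq
  rw [Functor.map_comp, h'.map_eq] at this
  rw [← cancel_epi (CategoryTheory.eqToHom h'.obj_eq), this]
  simp

end Vert

section TwoIso

variable {𝒳 : BasedCategory.{v₂, u₂} C} {𝒴 : BasedCategory.{v₃, u₃} C} {𝒵 : BasedCategory.{v₄, u₄} C}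

/-- Component of a 2-isomorphism. -/
abbrev app {F G : 𝒳 ⥤ᵇ 𝒴} (e : F ≅ G) (x : 𝒳.obj) : F.obj x ≅ G.obj x :=
  ((BasedNatTrans.forgetful _ _).mapIso e).app x

theorem app_hom {F G : 𝒳 ⥤ᵇ 𝒴} (e : F ≅ G) (x : 𝒳.obj) : (app e x).hom = e.hom.toNatTrans.app x := rfl

theorem app_inv {F G : 𝒳 ⥤ᵇ 𝒴} (e : F ≅ G) (x : 𝒳.obj) : (app e x).inv = e.inv.toNatTrans.app x := rfl

theorem hom_vert {F G : 𝒳 ⥤ᵇ 𝒴} (e : F ⟶ G) (x : 𝒳.obj) : IsVert 𝒴 (e.toNatTrans.app x) :=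
  IsVert.of_lift (e.isHomLift' x)

theorem app_vert {F G : 𝒳 ⥤ᵇ 𝒴} (e : F ≅ G) (x : 𝒳.obj) : IsVert 𝒴 (app e x).hom :=
  hom_vert e.hom x

theorem app_nat {F G : 𝒳 ⥤ᵇ 𝒴} (e : F ≅ G) {x y : 𝒳.obj} (f : x ⟶ y) :
    F.map f ≫ (app e y).hom = (app e x).hom ≫ G.map f :=
  e.hom.toNatTrans.naturality f

theorem app_nat_inv {F G : 𝒳 ⥤ᵇ 𝒴} (e : F ≅ G) {x y : 𝒳.obj} (f : x ⟶ y) :
    G.map f ≫ (app e y).inv = (app e x).inv ≫ F.map f :=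
  e.inv.toNatTrans.naturality f

theorem map_eq_conj {F G : 𝒳 ⥤ᵇ 𝒴} (e : F ≅ G) {x y : 𝒳.obj} (f : x ⟶ y) :
    F.map f = (app e x).hom ≫ G.map f ≫ (app e y).inv := by
  rw [← Category.assoc, ← app_nat, Category.assoc, Iso.hom_inv_id, Category.comp_id]

/-- A 2-morphism from components. -/
def mkHom {F G : 𝒳 ⥤ᵇ 𝒴} (c : ∀ x, F.obj x ⟶ G.obj x) (hv : ∀ x, IsVert 𝒴 (c x))
    (hn : ∀ {x y : 𝒳.obj} (f : x ⟶ y), F.map f ≫ c y = c x ≫ G.map f) : F ⟶ G :=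
  { toNatTrans := { app := c, naturality := fun _ _ f => hn f }
    isHomLift' := fun x => (hv x).lift (F.w_obj x) }

@[simp] theorem mkHom_app {F G : 𝒳 ⥤ᵇ 𝒴} (c : ∀ x, F.obj x ⟶ G.obj x) (hv : ∀ x, IsVert 𝒴 (c x))
    (hn : ∀ {x y : 𝒳.obj} (f : x ⟶ y), F.map f ≫ c y = c x ≫ G.map f) (x : 𝒳.obj) :
    (mkHom c hv hn).toNatTrans.app x = c x := rfl

/-- A 2-isomorphism from components. -/
def mkIso {F G : 𝒳 ⥤ᵇ 𝒴} (c : ∀ x, F.obj x ≅ G.obj x) (hv : ∀ x, IsVert 𝒴 (c x).hom)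
    (hn : ∀ {x y : 𝒳.obj} (f : x ⟶ y), F.map f ≫ (c y).hom = (c x).hom ≫ G.map f) : F ≅ G :=
  BasedNatIso.mkNatIso (NatIso.ofComponents c (fun f => hn f)) (fun x => (hv x).lift (F.w_obj x))

@[simp] theorem mkIso_app {F G : 𝒳 ⥤ᵇ 𝒴} (c : ∀ x, F.obj x ≅ G.obj x) (hv : ∀ x, IsVert 𝒴 (c x).hom)
    (hn : ∀ {x y : 𝒳.obj} (f : x ⟶ y), F.map f ≫ (c y).hom = (c x).hom ≫ G.map f) (x : 𝒳.obj) :
    app (mkIso c hv hn) x = c x := by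
  ext; rfl

theorem hom_ext₂ {F G : 𝒳 ⥤ᵇ 𝒴} {α β : F ⟶ G} (h : ∀ x, α.toNatTrans.app x = β.toNatTrans.app x) :
    α = β := by
  apply BasedNatTrans.homCategory.ext
  ext x
  exact h x

theorem iso_ext₂ {F G : 𝒳 ⥤ᵇ 𝒴} {α β : F ≅ G} (h : ∀ x, (app α x).hom = (app β x).hom) : α = β := by
  apply Iso.ext
  exact hom_ext₂ h

/-- A vertical natural transformation with invertible components is a 2-isomorphism. -/
noncomputable def isoOfHom {F G : 𝒳 ⥤ᵇ 𝒴} (α : F ⟶ G) (h : ∀ x, IsIso (α.toNatTrans.app x)) : F ≅ G :=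
  mkIso (fun x => asIso (α.toNatTrans.app x)) (fun x => hom_vert α x) (fun f => α.toNatTrans.naturality f)

/-- Left whiskering of a 2-isomorphism. -/
def wl {F G : 𝒴 ⥤ᵇ 𝒵} (H : 𝒳 ⥤ᵇ 𝒴) (e : F ≅ G) : BasedFunctor.comp H F ≅ BasedFunctor.comp H G :=
  mkIso (fun x => app e (H.obj x)) (fun x => app_vert e _) (fun f => app_nat e (H.map f))

@[simp] theorem wl_app {F G : 𝒴 ⥤ᵇ 𝒵} (H : 𝒳 ⥤ᵇ 𝒴) (e : F ≅ G) (x : 𝒳.obj) :
    app (wl H e) x = app e (H.obj x) := by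
  ext; rfl

/-- Right whiskering of a 2-isomorphism. -/
def wr {F G : 𝒳 ⥤ᵇ 𝒴} (e : F ≅ G) (H : 𝒴 ⥤ᵇ 𝒵) : BasedFunctor.comp F H ≅ BasedFunctor.comp G H :=
  mkIso (fun x => H.mapIso (app e x)) (fun x => (app_vert e x).map H)
    (fun {x y} f => by
      show H.map (F.map f) ≫ H.map (app e y).hom = H.map (app e x).hom ≫ H.map (G.map f)
      rw [← Functor.map_comp, ← Functor.map_comp, app_nat])

@[simp] theorem wr_app {F G : 𝒳 ⥤ᵇ 𝒴} (e : F ≅ G) (H : 𝒴 ⥤ᵇ 𝒵) (x : 𝒳.obj) :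
    app (wr e H) x = H.mapIso (app e x) := by
  ext; rfl

theorem trans_app {F G H : 𝒳 ⥤ᵇ 𝒴} (e : F ≅ G) (e' : G ≅ H) (x : 𝒳.obj) :
    app (e ≪≫ e') x = app e x ≪≫ app e' x := by ext; rfl

theorem symm_app {F G : 𝒳 ⥤ᵇ 𝒴} (e : F ≅ G) (x : 𝒳.obj) :
    app e.symm x = (app e x).symm := by ext; rfl

theorem refl_app (F : 𝒳 ⥤ᵇ 𝒴) (x : 𝒳.obj) : app (Iso.refl F) x = Iso.refl (F.obj x) := by ext; rfl

end TwoIso

section Equiv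

variable {𝒳 : BasedCategory.{v₂, u₂} C} {𝒴 : BasedCategory.{v₃, u₃} C} {𝒵 : BasedCategory.{v₄, u₄} C}

/-- Every object is vertically isomorphic to an object of the image. -/
def EssSurjOver (F : 𝒳 ⥤ᵇ 𝒴) : Prop :=
  ∀ y : 𝒴.obj, ∃ (x : 𝒳.obj) (e : F.obj x ≅ y), IsVert 𝒴 e.hom

theorem isEquivOver_of {F : 𝒳 ⥤ᵇ 𝒴} (hf : F.toFunctor.Full) (hF : F.toFunctor.Faithful)
    (hs : EssSurjOver F) : FibCat.IsEquivOver F := by
  choose ξ e he using hs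
  have hmap : ∀ {y y' : 𝒴.obj} (ψ : y ⟶ y'),
      F.map (F.toFunctor.preimage ((e y).hom ≫ ψ ≫ (e y').inv)) = (e y).hom ≫ ψ ≫ (e y').inv :=
    fun ψ => Functor.map_preimage _ _
  have hobj : ∀ y, 𝒳.p.obj (ξ y) = 𝒴.p.obj y := fun y => by
    rw [← F.w_obj (ξ y)]; exact (he y).obj_eq
  let G0 : 𝒴.obj ⥤ 𝒳.obj :=
    { obj := ξ
      map := fun {y y'} ψ => F.toFunctor.preimage ((e y).hom ≫ ψ ≫ (e y').inv)
      map_id := fun y => F.toFunctor.map_injective (by rw [hmap]; simp)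
      map_comp := fun {y y' y''} ψ ψ' => F.toFunctor.map_injective (by
        rw [hmap, Functor.map_comp, hmap, hmap]; simp) }
  have hG : ∀ {y y' : 𝒴.obj} (ψ : y ⟶ y'),
      𝒳.p.map (G0.map ψ) = eqToHom (hobj y) ≫ 𝒴.p.map ψ ≫ eqToHom (hobj y').symm := by
    intro y y' ψ
    have h1 : 𝒴.p.map (F.map (G0.map ψ)) = 𝒴.p.map ((e y).hom ≫ ψ ≫ (e y').inv) := by rw [hmap]
    have h2 := Functor.congr_hom F.w (G0.map ψ)
    simp only [Functor.comp_map] at h2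
    rw [h2] at h1
    rw [Functor.map_comp, Functor.map_comp, (he y).map_eq, (he y').inv.map_eq] at h1
    have h3 : 𝒳.p.map (G0.map ψ) = eqToHom (F.w_obj (ξ y)).symm ≫
      (eqToHom (he y).obj_eq ≫ 𝒴.p.map ψ ≫ eqToHom (he y').inv.obj_eq) ≫ eqToHom (F.w_obj (ξ y')) := by
      rw [← h1]; simp
    rw [h3]; simp
  let G : 𝒴 ⥤ᵇ 𝒳 :=
    { toFunctor := G0
      w := CategoryTheory.Functor.ext hobj (fun y y' ψ => hG ψ) }
  refine ⟨G, ⟨mkIso (fun x => F.toFunctor.preimageIso (e (F.obj x))) ?_ ?_⟩, ⟨mkIso (fun y => e y) he ?_⟩⟩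
  · intro x
    refine IsVert.of_map F ?_
    show IsVert 𝒴 (F.map (F.toFunctor.preimage (e (F.obj x)).hom))
    have : F.map (F.toFunctor.preimage (e (F.obj x)).hom) = (e (F.obj x)).hom :=
      Functor.map_preimage _ _
    rw [this]; exact he _
  · intro x y f
    apply F.toFunctor.map_injective
    show F.map (F.toFunctor.preimage ((e _).hom ≫ F.map f ≫ (e _).inv) ≫
      F.toFunctor.preimage (e (F.obj y)).hom) = F.map (F.toFunctor.preimage (e (F.obj x)).hom ≫ f)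
    rw [Functor.map_comp, hmap, Functor.map_comp, Functor.map_preimage, Functor.map_preimage]
    simp
  · intro x y f
    show F.map (F.toFunctor.preimage ((e _).hom ≫ f ≫ (e _).inv)) ≫ (e y).hom = (e x).hom ≫ f
    rw [hmap]; simp

theorem isEquivalence_of {F : 𝒳 ⥤ᵇ 𝒴} (h : FibCat.IsEquivOver F) : F.toFunctor.IsEquivalence := by
  obtain ⟨G, ⟨α⟩, ⟨β⟩⟩ := h
  exact (CategoryTheory.Equivalence.mk F.toFunctor G.toFunctor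
    ((BasedNatTrans.forgetful _ _).mapIso α).symm ((BasedNatTrans.forgetful _ _).mapIso β)).isEquivalence_functor

theorem full_of {F : 𝒳 ⥤ᵇ 𝒴} (h : FibCat.IsEquivOver F) : F.toFunctor.Full :=
  have := isEquivalence_of h; inferInstance

theorem faithful_of {F : 𝒳 ⥤ᵇ 𝒴} (h : FibCat.IsEquivOver F) : F.toFunctor.Faithful :=
  have := isEquivalence_of h; inferInstance

theorem essSurjOver_of {F : 𝒳 ⥤ᵇ 𝒴} (h : FibCat.IsEquivOver F) : EssSurjOver F := by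
  obtain ⟨G, ⟨α⟩, ⟨β⟩⟩ := h
  exact fun y => ⟨G.obj y, app β y, app_vert β y⟩

theorem isEquivOver_iff {F : 𝒳 ⥤ᵇ 𝒴} :
    FibCat.IsEquivOver F ↔ F.toFunctor.Full ∧ F.toFunctor.Faithful ∧ EssSurjOver F :=
  ⟨fun h => ⟨full_of h, faithful_of h, essSurjOver_of h⟩, fun h => isEquivOver_of h.1 h.2.1 h.2.2⟩

theorem isEquivOver_refl (𝒳 : BasedCategory.{v₂, u₂} C) : FibCat.IsEquivOver (BasedFunctor.id 𝒳) :=
  ⟨BasedFunctor.id 𝒳, ⟨Iso.refl _⟩, ⟨Iso.refl _⟩⟩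

theorem isEquivOver_of_inverse {F : 𝒳 ⥤ᵇ 𝒴} (G : 𝒴 ⥤ᵇ 𝒳) (α : BasedFunctor.comp F G ≅ BasedFunctor.id 𝒳)
    (β : BasedFunctor.comp G F ≅ BasedFunctor.id 𝒴) : FibCat.IsEquivOver F := ⟨G, ⟨α⟩, ⟨β⟩⟩

theorem exists_inverse {F : 𝒳 ⥤ᵇ 𝒴} (h : FibCat.IsEquivOver F) :
    ∃ G : 𝒴 ⥤ᵇ 𝒳, FibCat.IsEquivOver G ∧ Nonempty (BasedFunctor.comp F G ≅ BasedFunctor.id 𝒳) ∧
      Nonempty (BasedFunctor.comp G F ≅ BasedFunctor.id 𝒴) := by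
  obtain ⟨G, α, β⟩ := h
  exact ⟨G, ⟨F, β, α⟩, α, β⟩

theorem faithful_of_iso {F G : 𝒳 ⥤ᵇ 𝒴} (e : F ≅ G) (h : F.toFunctor.Faithful) : G.toFunctor.Faithful :=
  have : F.toFunctor.Faithful := h
  have i : F.toFunctor ≅ G.toFunctor := (BasedNatTrans.forgetful _ _).mapIso e
  Functor.Faithful.of_iso i

theorem full_of_iso {F G : 𝒳 ⥤ᵇ 𝒴} (e : F ≅ G) (h : F.toFunctor.Full) : G.toFunctor.Full :=
  have : F.toFunctor.Full := h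
  have i : F.toFunctor ≅ G.toFunctor := (BasedNatTrans.forgetful _ _).mapIso e
  Functor.Full.of_iso i

theorem essSurjOver_of_iso {F G : 𝒳 ⥤ᵇ 𝒴} (e : F ≅ G) (h : EssSurjOver F) : EssSurjOver G := by
  intro y
  obtain ⟨x, f, hf⟩ := h y
  exact ⟨x, (app e x).symm ≪≫ f, (app_vert e x).inv.comp hf⟩

theorem isEquivOver_of_iso {F G : 𝒳 ⥤ᵇ 𝒴} (e : F ≅ G) (h : FibCat.IsEquivOver F) : FibCat.IsEquivOver G :=
  isEquivOver_of (full_of_iso e (full_of h)) (faithful_of_iso e (faithful_of h))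
    (essSurjOver_of_iso e (essSurjOver_of h))

theorem isEquivOver_iff_of_iso {F G : 𝒳 ⥤ᵇ 𝒴} (e : F ≅ G) : FibCat.IsEquivOver F ↔ FibCat.IsEquivOver G :=
  ⟨isEquivOver_of_iso e, isEquivOver_of_iso e.symm⟩

theorem isEquivOver_comp {F : 𝒳 ⥤ᵇ 𝒴} {G : 𝒴 ⥤ᵇ 𝒵} (hF : FibCat.IsEquivOver F) (hG : FibCat.IsEquivOver G) :
    FibCat.IsEquivOver (BasedFunctor.comp F G) := by
  have := isEquivalence_of hF
  have := isEquivalence_of hG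
  refine isEquivOver_of (F := BasedFunctor.comp F G)
    (inferInstanceAs (F.toFunctor ⋙ G.toFunctor).Full) (inferInstanceAs (F.toFunctor ⋙ G.toFunctor).Faithful) ?_
  intro z
  obtain ⟨y, e, he⟩ := essSurjOver_of hG z
  obtain ⟨x, e', he'⟩ := essSurjOver_of hF y
  exact ⟨x, G.mapIso e' ≪≫ e, (he'.map G).comp he⟩

/-- 2 out of 3: cancel an equivalence on the left. -/
theorem isEquivOver_of_comp_left {F : 𝒳 ⥤ᵇ 𝒴} {G : 𝒴 ⥤ᵇ 𝒵} (hF : FibCat.IsEquivOver F)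
    (h : FibCat.IsEquivOver (BasedFunctor.comp F G)) : FibCat.IsEquivOver G := by
  obtain ⟨F', hF', -, ⟨β⟩⟩ := exists_inverse hF
  have h1 : FibCat.IsEquivOver (BasedFunctor.comp (BasedFunctor.comp F' F) G) :=
    isEquivOver_comp (F := F') (G := BasedFunctor.comp F G) hF' h
  exact isEquivOver_of_iso (wr β G) h1

/-- 2 out of 3: cancel an equivalence on the right. -/
theorem isEquivOver_of_comp_right {F : 𝒳 ⥤ᵇ 𝒴} {G : 𝒴 ⥤ᵇ 𝒵} (hG : FibCat.IsEquivOver G)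
    (h : FibCat.IsEquivOver (BasedFunctor.comp F G)) : FibCat.IsEquivOver F := by
  obtain ⟨G', hG', ⟨α⟩, -⟩ := exists_inverse hG
  have h1 : FibCat.IsEquivOver (BasedFunctor.comp F (BasedFunctor.comp G G')) :=
    isEquivOver_comp (F := BasedFunctor.comp F G) (G := G') h hG'
  exact isEquivOver_of_iso (wl F α) h1

end Equiv

end K734.Fib
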