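import Groth.Agent.AlgSt.K734.Fib
/-!
K734.FibFp : calculus of 2-fibre products over a base category (namespace `K734.Fib`).

* `mkObj`, `mkHomFp`, `mkIsoFp` : objects, morphisms, isomorphisms of `fp F G`.
* `isTwoCart_of` : criterion for `fpLift a b e` to be an equivalence over `C`.
* `liftExt` : 2-isomorphisms into `fp F G` from compatible 2-isomorphisms of the components.
* `fpMap a b c α β` : functoriality; `isEquivOver_fpMap` (a, b equivalences, c fully faithful).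
* `fpCongrL/fpCongrR` : change of `F`/`G` by 2-isomorphisms.
* `fpSwap` : symmetry, `fpPaste` : `fp (z ⋙ g) f ≃ fp z (fpFst g f)`.
* `isEquivOver_fpFst`, `isEquivOver_fpSnd` : base change of equivalences; full/faithful base change.
-/

set_option autoImplicit false
set_option backward.isDefEq.respectTransparency false
set_option backward.isDefEq.respectTransparency.types false

universe v₇ u₇ v₆ u₆ v₅ u₅ v₄ u₄ v₃ u₃ v₂ u₂ v u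

open CategoryTheory CategoryTheory.Limits

namespace K734.Fib

variable {C : Type u} [Category.{v} C]

section Fp

variable {𝒳 : BasedCategory.{v₂, u₂} C} {𝒴 : BasedCategory.{v₃, u₃} C} {𝒮 : BasedCategory.{v₄, u₄} C}
variable {F : 𝒳 ⥤ᵇ 𝒮} {G : 𝒴 ⥤ᵇ 𝒮}

/-- Objects of the 2-fibre product. -/
def mkObj (x : 𝒳.obj) (y : 𝒴.obj) (e : F.obj x ≅ G.obj y) (h : IsVert 𝒮 e.hom) :
    (FibCat.fp F G).obj :=
  ⟨⟨x, y, e⟩, h.lift (F.w_obj x)⟩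

@[simp] theorem mkObj_fst (x : 𝒳.obj) (y : 𝒴.obj) (e : F.obj x ≅ G.obj y) (h : IsVert 𝒮 e.hom) :
    (mkObj x y e h).obj.fst = x := rfl
@[simp] theorem mkObj_snd (x : 𝒳.obj) (y : 𝒴.obj) (e : F.obj x ≅ G.obj y) (h : IsVert 𝒮 e.hom) :
    (mkObj x y e h).obj.snd = y := rfl
@[simp] theorem mkObj_iso (x : 𝒳.obj) (y : 𝒴.obj) (e : F.obj x ≅ G.obj y) (h : IsVert 𝒮 e.hom) :
    (mkObj x y e h).obj.iso = e := rfl

theorem iso_vert (a : (FibCat.fp F G).obj) : IsVert 𝒮 a.obj.iso.hom :=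
  IsVert.of_lift a.property

/-- Morphisms of the 2-fibre product. -/
def mkHomFp {a b : (FibCat.fp F G).obj} (f : a.obj.fst ⟶ b.obj.fst) (g : a.obj.snd ⟶ b.obj.snd)
    (w : F.map f ≫ b.obj.iso.hom = a.obj.iso.hom ≫ G.map g) : a ⟶ b :=
  ObjectProperty.homMk ⟨f, g, w⟩

@[simp] theorem mkHomFp_fst {a b : (FibCat.fp F G).obj} (f : a.obj.fst ⟶ b.obj.fst)
    (g : a.obj.snd ⟶ b.obj.snd)
    (w : F.map f ≫ b.obj.iso.hom = a.obj.iso.hom ≫ G.map g) : (mkHomFp f g w).hom.fst = f := rfl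
@[simp] theorem mkHomFp_snd {a b : (FibCat.fp F G).obj} (f : a.obj.fst ⟶ b.obj.fst)
    (g : a.obj.snd ⟶ b.obj.snd)
    (w : F.map f ≫ b.obj.iso.hom = a.obj.iso.hom ≫ G.map g) : (mkHomFp f g w).hom.snd = g := rfl

theorem homFp_w {a b : (FibCat.fp F G).obj} (f : a ⟶ b) :
    F.map f.hom.fst ≫ b.obj.iso.hom = a.obj.iso.hom ≫ G.map f.hom.snd := f.hom.w

theorem homFp_ext {a b : (FibCat.fp F G).obj} {f g : a ⟶ b} (h1 : f.hom.fst = g.hom.fst)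
    (h2 : f.hom.snd = g.hom.snd) : f = g :=
  ObjectProperty.hom_ext _ (CategoricalPullback.hom_ext h1 h2)

@[simp] theorem fpId_fst (a : (FibCat.fp F G).obj) : (𝟙 a : a ⟶ a).hom.fst = 𝟙 a.obj.fst := rfl
@[simp] theorem fpId_snd (a : (FibCat.fp F G).obj) : (𝟙 a : a ⟶ a).hom.snd = 𝟙 a.obj.snd := rfl
@[simp] theorem fpComp_fst {a b c : (FibCat.fp F G).obj} (f : a ⟶ b) (g : b ⟶ c) :
    (f ≫ g).hom.fst = f.hom.fst ≫ g.hom.fst := rfl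
@[simp] theorem fpComp_snd {a b c : (FibCat.fp F G).obj} (f : a ⟶ b) (g : b ⟶ c) :
    (f ≫ g).hom.snd = f.hom.snd ≫ g.hom.snd := rfl

/-- Isomorphisms of the 2-fibre product. -/
def mkIsoFp {a b : (FibCat.fp F G).obj} (f : a.obj.fst ≅ b.obj.fst) (g : a.obj.snd ≅ b.obj.snd)
    (w : F.map f.hom ≫ b.obj.iso.hom = a.obj.iso.hom ≫ G.map g.hom) : a ≅ b where
  hom := mkHomFp f.hom g.hom w
  inv := mkHomFp f.inv g.inv (by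
    have h1 : F.map f.inv ≫ F.map f.hom = 𝟙 _ := by rw [← F.map_comp]; simp
    have h2 : G.map g.hom ≫ G.map g.inv = 𝟙 _ := by rw [← G.map_comp]; simp
    calc F.map f.inv ≫ a.obj.iso.hom = F.map f.inv ≫ (a.obj.iso.hom ≫ G.map g.hom) ≫ G.map g.inv := by
          rw [Category.assoc, h2, Category.comp_id]
      _ = F.map f.inv ≫ (F.map f.hom ≫ b.obj.iso.hom) ≫ G.map g.inv := by rw [w]
      _ = b.obj.iso.hom ≫ G.map g.inv := by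
          rw [Category.assoc, ← Category.assoc (F.map f.inv), h1, Category.id_comp])
  hom_inv_id := homFp_ext (by simp) (by simp)
  inv_hom_id := homFp_ext (by simp) (by simp)

@[simp] theorem mkIsoFp_hom {a b : (FibCat.fp F G).obj} (f : a.obj.fst ≅ b.obj.fst)
    (g : a.obj.snd ≅ b.obj.snd) (w : F.map f.hom ≫ b.obj.iso.hom = a.obj.iso.hom ≫ G.map g.hom) :
    (mkIsoFp f g w).hom = mkHomFp f.hom g.hom w := rfl

theorem vert_fp_iff_fst {a b : (FibCat.fp F G).obj} {f : a ⟶ b} :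
    IsVert (FibCat.fp F G) f ↔ IsVert 𝒳 f.hom.fst :=
  (isVert_map_iff (FibCat.fpFst F G) (φ := f)).symm

theorem vert_fp_iff_snd {a b : (FibCat.fp F G).obj} {f : a ⟶ b} :
    IsVert (FibCat.fp F G) f ↔ IsVert 𝒴 f.hom.snd :=
  (isVert_map_iff (FibCat.fpSnd F G) (φ := f)).symm

variable {𝒲 : BasedCategory.{v₅, u₅} C}

theorem fpLift_fst (a : 𝒲 ⥤ᵇ 𝒳) (b : 𝒲 ⥤ᵇ 𝒴) (e : BasedFunctor.comp a F ≅ BasedFunctor.comp b G) :
    BasedFunctor.comp (FibCat.fpLift a b e) (FibCat.fpFst F G) = a := rfl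

theorem fpLift_snd (a : 𝒲 ⥤ᵇ 𝒳) (b : 𝒲 ⥤ᵇ 𝒴) (e : BasedFunctor.comp a F ≅ BasedFunctor.comp b G) :
    BasedFunctor.comp (FibCat.fpLift a b e) (FibCat.fpSnd F G) = b := rfl

@[simp] theorem fpLift_obj_fst (a : 𝒲 ⥤ᵇ 𝒳) (b : 𝒲 ⥤ᵇ 𝒴) (e : BasedFunctor.comp a F ≅ BasedFunctor.comp b G)
    (w : 𝒲.obj) : ((FibCat.fpLift a b e).obj w).obj.fst = a.obj w := rfl
@[simp] theorem fpLift_obj_snd (a : 𝒲 ⥤ᵇ 𝒳) (b : 𝒲 ⥤ᵇ 𝒴) (e : BasedFunctor.comp a F ≅ BasedFunctor.comp b G)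
    (w : 𝒲.obj) : ((FibCat.fpLift a b e).obj w).obj.snd = b.obj w := rfl
@[simp] theorem fpLift_obj_iso (a : 𝒲 ⥤ᵇ 𝒳) (b : 𝒲 ⥤ᵇ 𝒴) (e : BasedFunctor.comp a F ≅ BasedFunctor.comp b G)
    (w : 𝒲.obj) : ((FibCat.fpLift a b e).obj w).obj.iso = app e w := rfl
@[simp] theorem fpLift_map_fst (a : 𝒲 ⥤ᵇ 𝒳) (b : 𝒲 ⥤ᵇ 𝒴) (e : BasedFunctor.comp a F ≅ BasedFunctor.comp b G)
    {w w' : 𝒲.obj} (f : w ⟶ w') : ((FibCat.fpLift a b e).map f).hom.fst = a.map f := rfl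
@[simp] theorem fpLift_map_snd (a : 𝒲 ⥤ᵇ 𝒳) (b : 𝒲 ⥤ᵇ 𝒴) (e : BasedFunctor.comp a F ≅ BasedFunctor.comp b G)
    {w w' : 𝒲.obj} (f : w ⟶ w') : ((FibCat.fpLift a b e).map f).hom.snd = b.map f := rfl

/-- 2-isomorphisms into a 2-fibre product. -/
def liftExt {H K : 𝒲 ⥤ᵇ FibCat.fp F G}
    (α : BasedFunctor.comp H (FibCat.fpFst F G) ≅ BasedFunctor.comp K (FibCat.fpFst F G))
    (β : BasedFunctor.comp H (FibCat.fpSnd F G) ≅ BasedFunctor.comp K (FibCat.fpSnd F G))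
    (w : ∀ x, F.map (app α x).hom ≫ (K.obj x).obj.iso.hom = (H.obj x).obj.iso.hom ≫ G.map (app β x).hom) :
    H ≅ K :=
  mkIso (fun x => mkIsoFp (app α x) (app β x) (w x))
    (fun x => vert_fp_iff_fst.2 (app_vert α x))
    (fun {x y} f => homFp_ext (app_nat α f) (app_nat β f))

theorem liftExt_fst {H K : 𝒲 ⥤ᵇ FibCat.fp F G}
    (α : BasedFunctor.comp H (FibCat.fpFst F G) ≅ BasedFunctor.comp K (FibCat.fpFst F G))
    (β : BasedFunctor.comp H (FibCat.fpSnd F G) ≅ BasedFunctor.comp K (FibCat.fpSnd F G))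
    (w : ∀ x, F.map (app α x).hom ≫ (K.obj x).obj.iso.hom = (H.obj x).obj.iso.hom ≫ G.map (app β x).hom) :
    wr (liftExt α β w) (FibCat.fpFst F G) = α := by
  apply iso_ext₂; intro x; rfl

/-- Every functor into `fp F G` is a `fpLift`. -/
def liftSelf (H : 𝒲 ⥤ᵇ FibCat.fp F G) :
    H ≅ FibCat.fpLift (BasedFunctor.comp H (FibCat.fpFst F G)) (BasedFunctor.comp H (FibCat.fpSnd F G))
      (wl H (FibCat.fpIso F G)) :=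
  liftExt (Iso.refl _) (Iso.refl _) (fun x => by
    simp only [refl_app, Iso.refl_hom, fpLift_obj_iso, wl_app]
    erw [F.map_id, G.map_id]
    simp only [Category.id_comp, Category.comp_id]
    rfl)

/-- Criterion for a square to be 2-cartesian over `C`. -/
theorem isTwoCart_of (a : 𝒲 ⥤ᵇ 𝒳) (b : 𝒲 ⥤ᵇ 𝒴) (e : BasedFunctor.comp a F ≅ BasedFunctor.comp b G)
    (h1 : ∀ {w w' : 𝒲.obj} (f : a.obj w ⟶ a.obj w') (g : b.obj w ⟶ b.obj w'),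
      F.map f ≫ (app e w').hom = (app e w).hom ≫ G.map g → ∃ h : w ⟶ w', a.map h = f ∧ b.map h = g)
    (h2 : ∀ {w w' : 𝒲.obj} (h h' : w ⟶ w'), a.map h = a.map h' → b.map h = b.map h' → h = h')
    (h3 : ∀ (x : 𝒳.obj) (y : 𝒴.obj) (φ : F.obj x ≅ G.obj y), IsVert 𝒮 φ.hom →
      ∃ (w : 𝒲.obj) (α : a.obj w ≅ x) (β : b.obj w ≅ y), IsVert 𝒳 α.hom ∧
        F.map α.hom ≫ φ.hom = (app e w).hom ≫ G.map β.hom) :
    FibCat.IsEquivOver (FibCat.fpLift a b e) := by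
  refine isEquivOver_of ⟨fun {w w'} f => ?_⟩ ⟨fun {w w'} f g hfg => ?_⟩ ?_
  · obtain ⟨h, ha, hb⟩ := h1 f.hom.fst f.hom.snd f.hom.w
    exact ⟨h, homFp_ext ha hb⟩
  · have ha := congrArg (fun k => k.hom.fst) hfg
    have hb := congrArg (fun k => k.hom.snd) hfg
    exact h2 f g ha hb
  · intro z
    obtain ⟨w, α, β, hα, hw⟩ := h3 z.obj.fst z.obj.snd z.obj.iso (iso_vert z)
    exact ⟨w, mkIsoFp α β hw, vert_fp_iff_fst.2 hα⟩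

end Fp

section FpMap

variable {𝒳 : BasedCategory.{v₂, u₂} C} {𝒴 : BasedCategory.{v₃, u₃} C} {𝒮 : BasedCategory.{v₄, u₄} C}
variable {𝒳' : BasedCategory.{v₅, u₅} C} {𝒴' : BasedCategory.{v₆, u₆} C} {𝒮' : BasedCategory.{v₇, u₇} C}
variable {F : 𝒳 ⥤ᵇ 𝒮} {G : 𝒴 ⥤ᵇ 𝒮} {F' : 𝒳' ⥤ᵇ 𝒮'} {G' : 𝒴' ⥤ᵇ 𝒮'}

/-- Functoriality of the 2-fibre product. -/
def fpMap (a : 𝒳' ⥤ᵇ 𝒳) (b : 𝒴' ⥤ᵇ 𝒴) (c : 𝒮' ⥤ᵇ 𝒮)
    (α : BasedFunctor.comp a F ≅ BasedFunctor.comp F' c) (β : BasedFunctor.comp b G ≅ BasedFunctor.comp G' c) :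
    FibCat.fp F' G' ⥤ᵇ FibCat.fp F G :=
  FibCat.fpLift (BasedFunctor.comp (FibCat.fpFst F' G') a) (BasedFunctor.comp (FibCat.fpSnd F' G') b)
    (wl (FibCat.fpFst F' G') α ≪≫ wr (FibCat.fpIso F' G') c ≪≫ (wl (FibCat.fpSnd F' G') β).symm)

theorem fpMap_fst (a : 𝒳' ⥤ᵇ 𝒳) (b : 𝒴' ⥤ᵇ 𝒴) (c : 𝒮' ⥤ᵇ 𝒮)
    (α : BasedFunctor.comp a F ≅ BasedFunctor.comp F' c) (β : BasedFunctor.comp b G ≅ BasedFunctor.comp G' c) :
    BasedFunctor.comp (fpMap a b c α β) (FibCat.fpFst F G) = BasedFunctor.comp (FibCat.fpFst F' G') a := rfl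

theorem fpMap_snd (a : 𝒳' ⥤ᵇ 𝒳) (b : 𝒴' ⥤ᵇ 𝒴) (c : 𝒮' ⥤ᵇ 𝒮)
    (α : BasedFunctor.comp a F ≅ BasedFunctor.comp F' c) (β : BasedFunctor.comp b G ≅ BasedFunctor.comp G' c) :
    BasedFunctor.comp (fpMap a b c α β) (FibCat.fpSnd F G) = BasedFunctor.comp (FibCat.fpSnd F' G') b := rfl

theorem fpMap_obj_iso (a : 𝒳' ⥤ᵇ 𝒳) (b : 𝒴' ⥤ᵇ 𝒴) (c : 𝒮' ⥤ᵇ 𝒮)
    (α : BasedFunctor.comp a F ≅ BasedFunctor.comp F' c) (β : BasedFunctor.comp b G ≅ BasedFunctor.comp G' c)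
    (z : (FibCat.fp F' G').obj) :
    ((fpMap a b c α β).obj z).obj.iso =
      app α z.obj.fst ≪≫ c.mapIso z.obj.iso ≪≫ (app β z.obj.snd).symm := by
  ext; rfl

theorem faithful_fpMap (a : 𝒳' ⥤ᵇ 𝒳) (b : 𝒴' ⥤ᵇ 𝒴) (c : 𝒮' ⥤ᵇ 𝒮)
    (α : BasedFunctor.comp a F ≅ BasedFunctor.comp F' c) (β : BasedFunctor.comp b G ≅ BasedFunctor.comp G' c)
    (ha : a.toFunctor.Faithful) (hb : b.toFunctor.Faithful) : (fpMap a b c α β).toFunctor.Faithful := by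
  constructor
  intro x y f g hfg
  have h1 := congrArg (fun k => k.hom.fst) hfg
  have h2 := congrArg (fun k => k.hom.snd) hfg
  exact homFp_ext (a.toFunctor.map_injective h1) (b.toFunctor.map_injective h2)

theorem full_fpMap (a : 𝒳' ⥤ᵇ 𝒳) (b : 𝒴' ⥤ᵇ 𝒴) (c : 𝒮' ⥤ᵇ 𝒮)
    (α : BasedFunctor.comp a F ≅ BasedFunctor.comp F' c) (β : BasedFunctor.comp b G ≅ BasedFunctor.comp G' c)
    (ha : a.toFunctor.Full) (hb : b.toFunctor.Full) (hc : c.toFunctor.Faithful) :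
    (fpMap a b c α β).toFunctor.Full := by
  constructor
  intro x y f
  obtain ⟨p, hp⟩ := a.toFunctor.map_surjective f.hom.fst
  obtain ⟨q, hq⟩ := b.toFunctor.map_surjective f.hom.snd
  have hp' : a.map p = f.hom.fst := hp
  have hq' : b.map q = f.hom.snd := hq
  refine ⟨mkHomFp p q ?_, homFp_ext hp hq⟩
  apply c.toFunctor.map_injective
  have hw := homFp_w f
  rw [fpMap_obj_iso, fpMap_obj_iso] at hw
  simp only [Iso.trans_hom, Iso.symm_hom, Functor.mapIso_hom] at hw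
  have e1 : F.map f.hom.fst ≫ (app α y.obj.fst).hom = (app α x.obj.fst).hom ≫ c.map (F'.map p) := by
    rw [← hp']; exact app_nat α p
  have e2 : (app β x.obj.snd).inv ≫ G.map f.hom.snd = c.map (G'.map q) ≫ (app β y.obj.snd).inv := by
    rw [← hq']; exact (app_nat_inv β q).symm
  have h3 : (app α x.obj.fst).hom ≫ (c.map (F'.map p) ≫ c.map y.obj.iso.hom) ≫ (app β y.obj.snd).inv =
      (app α x.obj.fst).hom ≫ (c.map x.obj.iso.hom ≫ c.map (G'.map q)) ≫ (app β y.obj.snd).inv := by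
    calc _ = (F.map f.hom.fst ≫ (app α y.obj.fst).hom) ≫ c.map y.obj.iso.hom ≫ (app β y.obj.snd).inv := by
          rw [e1]; simp only [Category.assoc]
      _ = ((app α x.obj.fst).hom ≫ c.map x.obj.iso.hom ≫ (app β x.obj.snd).inv) ≫ G.map f.hom.snd := by
          rw [Category.assoc]; exact hw
      _ = _ := by
          simp only [Category.assoc]; rw [e2]
  rw [cancel_epi, cancel_mono] at h3
  show c.map (F'.map p ≫ y.obj.iso.hom) = c.map (x.obj.iso.hom ≫ G'.map q)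
  rw [Functor.map_comp, Functor.map_comp]
  exact h3

theorem essSurjOver_fpMap (a : 𝒳' ⥤ᵇ 𝒳) (b : 𝒴' ⥤ᵇ 𝒴) (c : 𝒮' ⥤ᵇ 𝒮)
    (α : BasedFunctor.comp a F ≅ BasedFunctor.comp F' c) (β : BasedFunctor.comp b G ≅ BasedFunctor.comp G' c)
    (ha : EssSurjOver a) (hb : EssSurjOver b) (hc : c.toFunctor.Full) (hc' : c.toFunctor.Faithful) :
    EssSurjOver (fpMap a b c α β) := by
  intro z
  obtain ⟨x, ex, hx⟩ := ha z.obj.fst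
  obtain ⟨y, ey, hy⟩ := hb z.obj.snd
  let i : c.obj (F'.obj x) ≅ c.obj (G'.obj y) :=
    (app α x).symm ≪≫ F.mapIso ex ≪≫ z.obj.iso ≪≫ (G.mapIso ey).symm ≪≫ app β y
  have hi : IsVert 𝒮 i.hom :=
    (app_vert α x).inv.comp ((hx.map F).comp ((iso_vert z).comp
      ((IsVert.inv (e := G.mapIso ey) (hy.map G)).comp (app_vert β y))))
  let j : F'.obj x ≅ G'.obj y := c.toFunctor.preimageIso i
  have hj0 : c.map j.hom = i.hom := Functor.map_preimage _ _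
  have hj : IsVert 𝒮' j.hom := by
    refine IsVert.of_map c ?_
    rw [hj0]; exact hi
  refine ⟨mkObj x y j hj, mkIsoFp ex ey ?_, vert_fp_iff_fst.2 hx⟩
  rw [fpMap_obj_iso]
  simp only [mkObj_fst, mkObj_snd, mkObj_iso, Iso.trans_hom, Iso.symm_hom, Functor.mapIso_hom]
  erw [hj0]
  simp only [i, Iso.trans_hom, Iso.symm_hom, Functor.mapIso_hom, Category.assoc,
    Functor.mapIso_inv]
  erw [Iso.hom_inv_id_assoc, Iso.hom_inv_id_assoc, ← Functor.map_comp, Iso.inv_hom_id, Functor.map_id,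
    Category.comp_id]

theorem isEquivOver_fpMap (a : 𝒳' ⥤ᵇ 𝒳) (b : 𝒴' ⥤ᵇ 𝒴) (c : 𝒮' ⥤ᵇ 𝒮)
    (α : BasedFunctor.comp a F ≅ BasedFunctor.comp F' c) (β : BasedFunctor.comp b G ≅ BasedFunctor.comp G' c)
    (ha : FibCat.IsEquivOver a) (hb : FibCat.IsEquivOver b) (hc : c.toFunctor.Full)
    (hc' : c.toFunctor.Faithful) : FibCat.IsEquivOver (fpMap a b c α β) :=
  isEquivOver_of (full_fpMap a b c α β (full_of ha) (full_of hb) hc')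
    (faithful_fpMap a b c α β (faithful_of ha) (faithful_of hb))
    (essSurjOver_fpMap a b c α β (essSurjOver_of ha) (essSurjOver_of hb) hc hc')

end FpMap

section Special

variable {𝒳 : BasedCategory.{v₂, u₂} C} {𝒴 : BasedCategory.{v₃, u₃} C} {𝒮 : BasedCategory.{v₄, u₄} C}
variable {𝒲 : BasedCategory.{v₅, u₅} C} {𝒯 : BasedCategory.{v₆, u₆} C}

/-- Replace the first functor by a 2-isomorphic one. -/
def fpCongrL {F F' : 𝒳 ⥤ᵇ 𝒮} (α : F ≅ F') (G : 𝒴 ⥤ᵇ 𝒮) : FibCat.fp F' G ⥤ᵇ FibCat.fp F G :=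
  fpMap (BasedFunctor.id _) (BasedFunctor.id _) (BasedFunctor.id _) α (Iso.refl _)

theorem isEquivOver_fpCongrL {F F' : 𝒳 ⥤ᵇ 𝒮} (α : F ≅ F') (G : 𝒴 ⥤ᵇ 𝒮) :
    FibCat.IsEquivOver (fpCongrL α G) :=
  isEquivOver_fpMap _ _ _ _ _ (isEquivOver_refl _) (isEquivOver_refl _) (full_of (isEquivOver_refl _))
    (faithful_of (isEquivOver_refl _))

theorem fpCongrL_fst {F F' : 𝒳 ⥤ᵇ 𝒮} (α : F ≅ F') (G : 𝒴 ⥤ᵇ 𝒮) :
    BasedFunctor.comp (fpCongrL α G) (FibCat.fpFst F G) = FibCat.fpFst F' G := rfl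

theorem fpCongrL_snd {F F' : 𝒳 ⥤ᵇ 𝒮} (α : F ≅ F') (G : 𝒴 ⥤ᵇ 𝒮) :
    BasedFunctor.comp (fpCongrL α G) (FibCat.fpSnd F G) = FibCat.fpSnd F' G := rfl

/-- Replace the second functor by a 2-isomorphic one. -/
def fpCongrR (F : 𝒳 ⥤ᵇ 𝒮) {G G' : 𝒴 ⥤ᵇ 𝒮} (β : G ≅ G') : FibCat.fp F G' ⥤ᵇ FibCat.fp F G :=
  fpMap (BasedFunctor.id _) (BasedFunctor.id _) (BasedFunctor.id _) (Iso.refl _) β

theorem isEquivOver_fpCongrR (F : 𝒳 ⥤ᵇ 𝒮) {G G' : 𝒴 ⥤ᵇ 𝒮} (β : G ≅ G') :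
    FibCat.IsEquivOver (fpCongrR F β) :=
  isEquivOver_fpMap _ _ _ _ _ (isEquivOver_refl _) (isEquivOver_refl _) (full_of (isEquivOver_refl _))
    (faithful_of (isEquivOver_refl _))

theorem fpCongrR_fst (F : 𝒳 ⥤ᵇ 𝒮) {G G' : 𝒴 ⥤ᵇ 𝒮} (β : G ≅ G') :
    BasedFunctor.comp (fpCongrR F β) (FibCat.fpFst F G) = FibCat.fpFst F G' := rfl

theorem fpCongrR_snd (F : 𝒳 ⥤ᵇ 𝒮) {G G' : 𝒴 ⥤ᵇ 𝒮} (β : G ≅ G') :
    BasedFunctor.comp (fpCongrR F β) (FibCat.fpSnd F G) = FibCat.fpSnd F G' := rfl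

/-- Change the left source along an equivalence `a`: `fp (a ⋙ F) G ≃ fp F G`. -/
def fpPreL (a : 𝒲 ⥤ᵇ 𝒳) (F : 𝒳 ⥤ᵇ 𝒮) (G : 𝒴 ⥤ᵇ 𝒮) :
    FibCat.fp (BasedFunctor.comp a F) G ⥤ᵇ FibCat.fp F G :=
  fpMap a (BasedFunctor.id _) (BasedFunctor.id _) (Iso.refl _) (Iso.refl _)

theorem isEquivOver_fpPreL (a : 𝒲 ⥤ᵇ 𝒳) (ha : FibCat.IsEquivOver a) (F : 𝒳 ⥤ᵇ 𝒮) (G : 𝒴 ⥤ᵇ 𝒮) :
    FibCat.IsEquivOver (fpPreL a F G) :=
  isEquivOver_fpMap _ _ _ _ _ ha (isEquivOver_refl _) (full_of (isEquivOver_refl _))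
    (faithful_of (isEquivOver_refl _))

theorem fpPreL_fst (a : 𝒲 ⥤ᵇ 𝒳) (F : 𝒳 ⥤ᵇ 𝒮) (G : 𝒴 ⥤ᵇ 𝒮) :
    BasedFunctor.comp (fpPreL a F G) (FibCat.fpFst F G) =
      BasedFunctor.comp (FibCat.fpFst (BasedFunctor.comp a F) G) a := rfl

theorem fpPreL_snd (a : 𝒲 ⥤ᵇ 𝒳) (F : 𝒳 ⥤ᵇ 𝒮) (G : 𝒴 ⥤ᵇ 𝒮) :
    BasedFunctor.comp (fpPreL a F G) (FibCat.fpSnd F G) = FibCat.fpSnd (BasedFunctor.comp a F) G := rfl

/-- Change the right source along an equivalence `b`: `fp F (b ⋙ G) ≃ fp F G`. -/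
def fpPreR (F : 𝒳 ⥤ᵇ 𝒮) (b : 𝒲 ⥤ᵇ 𝒴) (G : 𝒴 ⥤ᵇ 𝒮) :
    FibCat.fp F (BasedFunctor.comp b G) ⥤ᵇ FibCat.fp F G :=
  fpMap (BasedFunctor.id _) b (BasedFunctor.id _) (Iso.refl _) (Iso.refl _)

theorem isEquivOver_fpPreR (F : 𝒳 ⥤ᵇ 𝒮) (b : 𝒲 ⥤ᵇ 𝒴) (hb : FibCat.IsEquivOver b) (G : 𝒴 ⥤ᵇ 𝒮) :
    FibCat.IsEquivOver (fpPreR F b G) :=
  isEquivOver_fpMap _ _ _ _ _ (isEquivOver_refl _) hb (full_of (isEquivOver_refl _))
    (faithful_of (isEquivOver_refl _))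

theorem fpPreR_fst (F : 𝒳 ⥤ᵇ 𝒮) (b : 𝒲 ⥤ᵇ 𝒴) (G : 𝒴 ⥤ᵇ 𝒮) :
    BasedFunctor.comp (fpPreR F b G) (FibCat.fpFst F G) = FibCat.fpFst F (BasedFunctor.comp b G) := rfl

theorem fpPreR_snd (F : 𝒳 ⥤ᵇ 𝒮) (b : 𝒲 ⥤ᵇ 𝒴) (G : 𝒴 ⥤ᵇ 𝒮) :
    BasedFunctor.comp (fpPreR F b G) (FibCat.fpSnd F G) =
      BasedFunctor.comp (FibCat.fpSnd F (BasedFunctor.comp b G)) b := rfl

/-- Postcompose both functors with a fully faithful `c`: `fp F G ≃ fp (F ⋙ c) (G ⋙ c)`. -/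
def fpPost (F : 𝒳 ⥤ᵇ 𝒮) (G : 𝒴 ⥤ᵇ 𝒮) (c : 𝒮 ⥤ᵇ 𝒯) :
    FibCat.fp F G ⥤ᵇ FibCat.fp (BasedFunctor.comp F c) (BasedFunctor.comp G c) :=
  fpMap (BasedFunctor.id _) (BasedFunctor.id _) c (Iso.refl _) (Iso.refl _)

theorem isEquivOver_fpPost (F : 𝒳 ⥤ᵇ 𝒮) (G : 𝒴 ⥤ᵇ 𝒮) (c : 𝒮 ⥤ᵇ 𝒯) (hc : c.toFunctor.Full)
    (hc' : c.toFunctor.Faithful) : FibCat.IsEquivOver (fpPost F G c) :=
  isEquivOver_fpMap _ _ _ _ _ (isEquivOver_refl _) (isEquivOver_refl _) hc hc'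

theorem fpPost_fst (F : 𝒳 ⥤ᵇ 𝒮) (G : 𝒴 ⥤ᵇ 𝒮) (c : 𝒮 ⥤ᵇ 𝒯) :
    BasedFunctor.comp (fpPost F G c) (FibCat.fpFst _ _) = FibCat.fpFst F G := rfl

theorem fpPost_snd (F : 𝒳 ⥤ᵇ 𝒮) (G : 𝒴 ⥤ᵇ 𝒮) (c : 𝒮 ⥤ᵇ 𝒯) :
    BasedFunctor.comp (fpPost F G c) (FibCat.fpSnd _ _) = FibCat.fpSnd F G := rfl

/-- Symmetry of the 2-fibre product. -/
def fpSwap (F : 𝒳 ⥤ᵇ 𝒮) (G : 𝒴 ⥤ᵇ 𝒮) : FibCat.fp F G ⥤ᵇ FibCat.fp G F :=
  FibCat.fpLift (FibCat.fpSnd F G) (FibCat.fpFst F G) (FibCat.fpIso F G).symm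

theorem fpSwap_fst (F : 𝒳 ⥤ᵇ 𝒮) (G : 𝒴 ⥤ᵇ 𝒮) :
    BasedFunctor.comp (fpSwap F G) (FibCat.fpFst G F) = FibCat.fpSnd F G := rfl

theorem fpSwap_snd (F : 𝒳 ⥤ᵇ 𝒮) (G : 𝒴 ⥤ᵇ 𝒮) :
    BasedFunctor.comp (fpSwap F G) (FibCat.fpSnd G F) = FibCat.fpFst F G := rfl

theorem isEquivOver_fpSwap (F : 𝒳 ⥤ᵇ 𝒮) (G : 𝒴 ⥤ᵇ 𝒮) : FibCat.IsEquivOver (fpSwap F G) :=
  isEquivOver_of_inverse (fpSwap G F)
    (liftExt (Iso.refl _) (Iso.refl _) (fun x => by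
      simp only [refl_app, Iso.refl_hom]
      erw [F.map_id, G.map_id]
      simp only [Category.id_comp, Category.comp_id]
      rfl))
    (liftExt (Iso.refl _) (Iso.refl _) (fun x => by
      simp only [refl_app, Iso.refl_hom]
      erw [F.map_id, G.map_id]
      simp only [Category.id_comp, Category.comp_id]
      rfl))

/-- Pasting: `fp (z ⋙ G) F ⟶ fp z (fpFst G F)`, an equivalence compatible with the first projections. -/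
def fpPaste (z : 𝒲 ⥤ᵇ 𝒴) (G : 𝒴 ⥤ᵇ 𝒮) (F : 𝒳 ⥤ᵇ 𝒮) :
    FibCat.fp (BasedFunctor.comp z G) F ⥤ᵇ FibCat.fp z (FibCat.fpFst G F) :=
  FibCat.fpLift (FibCat.fpFst (BasedFunctor.comp z G) F)
    (FibCat.fpLift (BasedFunctor.comp (FibCat.fpFst (BasedFunctor.comp z G) F) z)
      (FibCat.fpSnd (BasedFunctor.comp z G) F) (FibCat.fpIso (BasedFunctor.comp z G) F))
    (Iso.refl _)

theorem fpPaste_fst (z : 𝒲 ⥤ᵇ 𝒴) (G : 𝒴 ⥤ᵇ 𝒮) (F : 𝒳 ⥤ᵇ 𝒮) :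
    BasedFunctor.comp (fpPaste z G F) (FibCat.fpFst _ _) = FibCat.fpFst _ _ := rfl

theorem fpPaste_snd_snd (z : 𝒲 ⥤ᵇ 𝒴) (G : 𝒴 ⥤ᵇ 𝒮) (F : 𝒳 ⥤ᵇ 𝒮) :
    BasedFunctor.comp (BasedFunctor.comp (fpPaste z G F) (FibCat.fpSnd _ _)) (FibCat.fpSnd G F) =
      FibCat.fpSnd _ _ := rfl

theorem isEquivOver_fpPaste (z : 𝒲 ⥤ᵇ 𝒴) (G : 𝒴 ⥤ᵇ 𝒮) (F : 𝒳 ⥤ᵇ 𝒮) :
    FibCat.IsEquivOver (fpPaste z G F) := by
  refine isTwoCart_of _ _ _ ?_ ?_ ?_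
  · intro w w' f g hfg
    have hfg' : z.map f = g.hom.fst := by
      have := hfg
      simp only [refl_app, Iso.refl_hom] at this
      erw [Category.comp_id, Category.id_comp] at this
      exact this
    refine ⟨mkHomFp f g.hom.snd ?_, rfl, homFp_ext hfg' rfl⟩
    have := g.hom.w
    rw [← hfg'] at this
    exact this
  · intro w w' h h' e1 e2
    exact homFp_ext e1 (congrArg (fun k => k.hom.snd) e2)
  · intro x y φ hφ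
    -- x : 𝒲.obj, y : (fp G F).obj, φ : z x ≅ y.fst
    refine ⟨mkObj x y.obj.snd (G.mapIso φ ≪≫ y.obj.iso) ((hφ.map G).comp (iso_vert y)), Iso.refl _,
      mkIsoFp φ (Iso.refl _) ?_, IsVert.id _, ?_⟩
    · show G.map φ.hom ≫ y.obj.iso.hom = (G.map φ.hom ≫ y.obj.iso.hom) ≫ F.map (𝟙 _)
      erw [F.map_id, Category.comp_id]
    · simp only [refl_app, Iso.refl_hom]
      erw [z.map_id, Category.id_comp]

/-- The 2-fibre product along an identity: `fpFst` is an equivalence. -/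
theorem isEquivOver_fpFst (F : 𝒳 ⥤ᵇ 𝒮) (G : 𝒴 ⥤ᵇ 𝒮) (hG : FibCat.IsEquivOver G) :
    FibCat.IsEquivOver (FibCat.fpFst F G) := by
  refine isEquivOver_of ⟨fun {a b} f => ?_⟩ ⟨fun {a b} f g hfg => ?_⟩ ?_
  · have := full_of hG
    obtain ⟨g, hg⟩ := G.toFunctor.map_surjective (a.obj.iso.inv ≫ F.map f ≫ b.obj.iso.hom)
    have hg' : G.map g = a.obj.iso.inv ≫ F.map f ≫ b.obj.iso.hom := hg
    exact ⟨mkHomFp f g (by rw [hg', Iso.hom_inv_id_assoc]), rfl⟩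
  · have := faithful_of hG
    refine homFp_ext hfg (G.toFunctor.map_injective ?_)
    have h1 := homFp_w f
    have h2 := homFp_w g
    have h3 : f.hom.fst = g.hom.fst := hfg
    rw [h3, h2, cancel_epi] at h1
    exact h1.symm
  · intro x
    obtain ⟨y, e, he⟩ := essSurjOver_of hG (F.obj x)
    exact ⟨mkObj x y e.symm he.inv, Iso.refl _, IsVert.id _⟩

theorem isEquivOver_fpSnd (F : 𝒳 ⥤ᵇ 𝒮) (G : 𝒴 ⥤ᵇ 𝒮) (hF : FibCat.IsEquivOver F) :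
    FibCat.IsEquivOver (FibCat.fpSnd F G) := by
  have h1 := isEquivOver_comp (isEquivOver_fpSwap F G) (isEquivOver_fpFst G F hF)
  exact h1

theorem faithful_fpFst (F : 𝒳 ⥤ᵇ 𝒮) (G : 𝒴 ⥤ᵇ 𝒮) (hG : G.toFunctor.Faithful) :
    (FibCat.fpFst F G).toFunctor.Faithful := by
  refine ⟨fun {a b} f g hfg => ?_⟩
  refine homFp_ext hfg (G.toFunctor.map_injective ?_)
  have h1 := homFp_w f
  have h2 := homFp_w g
  have h3 : f.hom.fst = g.hom.fst := hfg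
  rw [h3, h2, cancel_epi] at h1
  exact h1.symm

theorem full_fpFst (F : 𝒳 ⥤ᵇ 𝒮) (G : 𝒴 ⥤ᵇ 𝒮) (hG : G.toFunctor.Full) :
    (FibCat.fpFst F G).toFunctor.Full := by
  refine ⟨fun {a b} f => ?_⟩
  obtain ⟨g, hg⟩ := G.toFunctor.map_surjective (a.obj.iso.inv ≫ F.map f ≫ b.obj.iso.hom)
  have hg' : G.map g = a.obj.iso.inv ≫ F.map f ≫ b.obj.iso.hom := hg
  exact ⟨mkHomFp f g (by rw [hg', Iso.hom_inv_id_assoc]), rfl⟩

end Special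

end K734.Fib
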