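import Groth.Agent.AlgSt.K734.DMSp
import Groth.Agent.AlgSt.K740.SpIso
import Groth.Agent.AlgSt.K747.DiagRep
import Groth.Agent.AlgSt.K735.Setoid
/-!
K734.Boot : consequences of the bootstrap theorem S10104 (`Boot S`) for stacks.

* `repByAlgSp_of_cover` : a stack in setoids with a flat lfp surjective cover by an algebraic space is representable
  by an algebraic space; S12761.
* `isAlgStack_of_cover` : S12760.
-/

set_option autoImplicit false
set_option linter.unusedVariables false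
set_option backward.isDefEq.respectTransparency false
set_option backward.isDefEq.respectTransparency.types false

universe w₁ v₁ w' v' w v₇ u₇ v₆ u₆ v₅ u₅ v₄ u₄ v₃ u₃ v₂ u₂ v u

open CategoryTheory CategoryTheory.Limits Opposite AlgebraicGeometry K734.Fib

namespace K734.Rep

variable {S : Scheme.{u}}

/-- The statement of S10104. -/
def Boot (S : Scheme.{u}) : Prop := ∀ (F : AlgSp.Sp S) (U : AlgSp.Space S) (p : U.obj ⟶ F),
  AlgSp.RepBySpWith (AlgSp.IsSurjectiveMor ⊓ AlgSp.LocP @Flat ⊓ AlgSp.LocP @LocallyOfFinitePresentation) p.hom →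
    AlgSp.IsAlgSpace F

instance respectsIso_fppf : (AlgSp.IsSurjectiveMor ⊓ AlgSp.LocP @Flat ⊓ AlgSp.LocP @LocallyOfFinitePresentation :
    MorphismProperty (AlgSp.Sp S)).RespectsIso := inferInstance

variable {𝒳 𝒰 : AlgSt.Cat S}

/-- A stack in setoids with a flat lfp surjective cover by an algebraic space is an algebraic space. -/
theorem repByAlgSp_of_cover (hb : Boot S) (h : Stk.IsStack (QuotSh.J Scheme.fppfPrecoverage S) 𝒳)
    (hs : FibCat.IsFibSetoid 𝒳.p) (hU : AlgSt.RepByAlgSp 𝒰) (u : 𝒰 ⥤ᵇ 𝒳)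
    (h1 : AlgSt.RepByAlgSpWith AlgSp.IsSurjectiveMor u) (h2 : AlgSt.RepByAlgSpWith (AlgSp.LocP @Flat) u)
    (h3 : AlgSt.RepByAlgSpWith (AlgSp.LocP @LocallyOfFinitePresentation) u) : AlgSt.RepByAlgSp 𝒳 := by
  have he := isEquivOver_toPsh h.1 hs
  have hsh : Presheaf.IsSheaf (AlgSp.J S) (isoPsh h.1) := by
    rw [isSheaf_iff_isSheaf_of_type]
    exact (Groth.Agent.S12796.result (QuotSh.J Scheme.fppfPrecoverage S) (isoPsh h.1)).1
      ((K751.Inv.isStack_iff_of_isEquivOver he).1 h)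
  let F : AlgSp.Sp S := ⟨isoPsh h.1, hsh⟩
  obtain ⟨U, a, ha⟩ := hU
  let Φ : AlgSt.ofSp U.obj ⥤ᵇ AlgSt.ofSp F := BasedFunctor.comp a (BasedFunctor.comp u (toPsh h.1))
  obtain ⟨p, ⟨i⟩⟩ := exists_ofSpMap Φ
  have key : ∀ P : MorphismProperty (AlgSp.Sp S), AlgSt.RepByAlgSpWith P u →
      AlgSt.RepByAlgSpWith P (AlgSt.ofSpMap p) := fun P hP => by
    rw [← repByAlgSpWith_iff_of_iso i]
    change AlgSt.RepByAlgSpWith P (BasedFunctor.comp a (BasedFunctor.comp u (toPsh h.1)))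
    rw [repByAlgSpWith_precomp_iff ha, repByAlgSpWith_postcomp_iff _ he]
    exact hP
  have h4 := K740.SpIso.repByAlgSpWith_inf (K740.SpIso.repByAlgSpWith_inf (key _ h1) (key _ h2)) (key _ h3)
  have hF : AlgSp.IsAlgSpace F := hb F U p ((repBySpWith_iff _ p.hom).2 h4)
  obtain ⟨k, hk, -, -⟩ := exists_inverse he
  exact ⟨⟨F, hF⟩, k, hk⟩

theorem flat_of_smooth {f : 𝒰 ⥤ᵇ 𝒳} (h : AlgSt.RepByAlgSpWith (AlgSp.LocP @Smooth) f) :
    AlgSt.RepByAlgSpWith (AlgSp.LocP @Flat) f :=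
  K740.SpIso.repByAlgSpWith_imp h (fun F U q hq A B a b g ha hb' w => by
    have : Smooth g.left := hq a b g ha hb' w
    exact (inferInstance : Flat g.left))

theorem lfp_of_smooth {f : 𝒰 ⥤ᵇ 𝒳} (h : AlgSt.RepByAlgSpWith (AlgSp.LocP @Smooth) f) :
    AlgSt.RepByAlgSpWith (AlgSp.LocP @LocallyOfFinitePresentation) f :=
  K740.SpIso.repByAlgSpWith_imp h (fun F U q hq A B a b g ha hb' w => by
    have : Smooth g.left := hq a b g ha hb' w
    exact (inferInstance : LocallyOfFinitePresentation g.left))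

/-- S12761. -/
theorem isFibSetoid_iff_repByAlgSp (hb : Boot S) (h𝒳 : AlgSt.IsAlgStack Scheme.fppfPrecoverage 𝒳) :
    FibCat.IsFibSetoid 𝒳.p ↔ AlgSt.RepByAlgSp 𝒳 := by
  constructor
  · intro hs
    obtain ⟨U, x, h1, h2⟩ := h𝒳.atlas
    exact repByAlgSp_of_cover hb h𝒳.isStack hs (K735.Rep.repByAlgSp_overCat U) x h2 (flat_of_smooth h1)
      (lfp_of_smooth h1)
  · intro h
    exact isFibSetoid_of_repByAlgSp h

/-- S10110 for fppf sheaves. -/
theorem boot_fppf (hb : Boot S) : K747.Sc.Boot S Scheme.fppfPrecoverage := by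
  intro F hF U p hp
  refine ⟨hF, ?_⟩
  refine hb ⟨F, hF⟩ U (ObjectProperty.homMk p) ?_
  intro V ξ F' fst snd sq
  obtain ⟨h1, h2, h3, h4⟩ := hp ξ fst snd sq
  refine ⟨h1, h2, ⟨h3, ?_⟩, ?_⟩
  · intro A B a b g ha hb' w
    have : Smooth g.left := h4 a b g ha hb' w
    exact (inferInstance : Flat g.left)
  · intro A B a b g ha hb' w
    have : Smooth g.left := h4 a b g ha hb' w
    exact (inferInstance : LocallyOfFinitePresentation g.left)

/-- S12760. -/
theorem isAlgStack_of_cover (hb : Boot S) (h𝒰 : FibCat.IsFibGrpd 𝒰.p)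
    (h𝒳 : Stk.IsStack (QuotSh.J Scheme.fppfPrecoverage S) 𝒳)
    (hU : AlgSt.RepByAlgSp 𝒰) (u : 𝒰 ⥤ᵇ 𝒳) (hsm : AlgSt.RepByAlgSpWith (AlgSp.LocP @Smooth) u)
    (hsurj : AlgSt.RepByAlgSpWith AlgSp.IsSurjectiveMor u) :
    AlgSt.IsAlgStack Scheme.fppfPrecoverage 𝒳 :=
  K747.Sc.isAlgStack_of_atlas Scheme.fppfPrecoverage (boot_fppf hb) h𝒳 (hasAtlas_smooth_of_cover h𝒰 hU u hsm hsurj)

end K734.Rep
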