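import Groth.Agent.AlgSt.K734.PairSp
import Groth.Agent.AlgSt.K739.Descent
/-!
K734.Cover : properties of representable functors tested on a flat lfp surjective chart.

* `exists_sieve_lift` : lifts along a flat lfp surjective representable functor exist on a covering sieve.
* `Nice.of_cover` : `P` for `f` from `P` of the representing map over one chart.
-/

set_option autoImplicit false
set_option linter.unusedVariables false
set_option backward.isDefEq.respectTransparency false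
set_option backward.isDefEq.respectTransparency.types false

universe w₁ v₁ w' v' w v₇ u₇ v₆ u₆ v₅ u₅ v₄ u₄ v₃ u₃ v₂ u₂ v u

open CategoryTheory CategoryTheory.Limits Opposite AlgebraicGeometry K734.Fib

namespace K734.Rep

variable {S : Scheme.{u}}

/-- Lifts along a flat lfp surjective representable functor exist on a covering sieve. -/
theorem exists_sieve_lift {𝒲 : BasedCategory.{v₂, u₂} (Over S)} {𝒴 : BasedCategory.{v₃, u₃} (Over S)}
    (w : 𝒲 ⥤ᵇ 𝒴) (hw₁ : AlgSt.RepByAlgSpWith (AlgSp.LocP @Flat) w)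
    (hw₂ : AlgSt.RepByAlgSpWith (AlgSp.LocP @LocallyOfFinitePresentation) w)
    (hw₃ : AlgSt.RepByAlgSpWith AlgSp.IsSurjectiveMor w) (U : Over S) (y : FibCat.overCat U ⥤ᵇ 𝒴) :
    ∃ R ∈ (AlgSp.J S) U, ∀ ⦃V : Over S⦄ (h : V ⟶ U), R.arrows h →
      ∃ z : FibCat.overCat V ⥤ᵇ 𝒲, Nonempty (BasedFunctor.comp z w ≅ BasedFunctor.comp (AlgSt.overMap h) y) := by
  obtain ⟨V, k, v, hk, ⟨i⟩⟩ := K739.Descent.exists_fppf_lift w hw₁ hw₂ hw₃ y
  refine ⟨Sieve.generate (Presieve.singleton k), ?_, ?_⟩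
  · refine K629.Fppf.mem_of_cover (ι := PUnit.{u + 1}) (fun _ => V) (fun _ => k)
      (fun _ => ⟨V, 𝟙 V, k, Presieve.singleton.mk, Category.id_comp k⟩) (fun _ => ⟨hk.1.2, hk.2⟩) (fun t => ?_)
    obtain ⟨s, hs⟩ := hk.1.1.surj t
    exact ⟨PUnit.unit, s, hs⟩
  · rintro T h ⟨T', l, m, ⟨⟩, rfl⟩
    obtain ⟨j⟩ := nonempty_iso_overMap (BasedFunctor.comp (AlgSt.overMap l) (AlgSt.overMap k))
    refine ⟨BasedFunctor.comp (AlgSt.overMap l) v, ⟨?_⟩⟩
    have h1 : overFun (BasedFunctor.comp (AlgSt.overMap l) (AlgSt.overMap k)) = l ≫ k := by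
      change eqToHom _ ≫ ((𝟙 T ≫ l) ≫ k) = l ≫ k
      simp
    rw [h1] at j
    exact (wl (AlgSt.overMap l) i : BasedFunctor.comp (AlgSt.overMap l) (BasedFunctor.comp v w) ≅ _) ≪≫ wr j y

variable {𝒳 : BasedCategory.{v₂, u₂} (Over S)} {𝒴 : BasedCategory.{v₃, u₃} (Over S)}

/-- `P` for `f` from `P` of the representing map over one flat lfp surjective chart. -/
theorem Nice.of_cover {P : MorphismProperty (AlgSp.Sp S)} (hP : Nice P) {f : 𝒳 ⥤ᵇ 𝒴} (hf : AlgSt.RepByAlgSp1 f)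
    {G : AlgSp.Sp S} (hG : AlgSp.IsAlgSpace G)
    (g : AlgSt.ofSp G ⥤ᵇ 𝒴) (hw₁ : AlgSt.RepByAlgSpWith (AlgSp.LocP @Flat) g)
    (hw₂ : AlgSt.RepByAlgSpWith (AlgSp.LocP @LocallyOfFinitePresentation) g)
    (hw₃ : AlgSt.RepByAlgSpWith AlgSp.IsSurjectiveMor g) {F : AlgSp.Sp S} {π : F ⟶ G}
    (h : IsRep f g π) (hπ : P π) : AlgSt.RepByAlgSpWith P f := by
  have hF := h.isAlgSpace hf hG
  refine repByAlgSpWith_of_fpFst hP.bc hP.loc hf g (fun U y => exists_sieve_lift g hw₁ hw₂ hw₃ U y) ?_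
  rw [repByAlgSpWith_iff]
  intro U y
  obtain ⟨q, ⟨i⟩⟩ := exists_ofSpMap y
  have sq := IsPullback.of_hasPullback π q
  have hA : AlgSp.IsAlgSpace (pullback π q) :=
    K594.Fib.isAlgSpace_of_isPullback hG.diag hF (AlgSp.IsAlgSpace.yon_obj U) sq
  refine ⟨pullback π q, pullback.snd π q, hA, ?_, hP.bc hF hG hA (AlgSp.IsAlgSpace.yon_obj U) π q _ _ sq hπ⟩
  exact (IsRep.fpFst (h.baseChange sq)).congr i.symm

end K734.Rep
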