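import Groth.Agent.AlgSt.K734.FpDiag
import Groth.Agent.AlgSt.K740.DiagRep
import Groth.Agent.Stk.K751.Fp
/-!
K734.FpAlg : 2-fibre products of algebraic stacks.

* `repByAlgSpWith_fpPreL/R` : `fp (x ⋙ f) g ⟶ fp f g` is a base change of `x`.
* `hasAtlas_fp` : atlases of 2-fibre products.
* `isAlgStack_fp` (S12763), `isAlgStack_prod` (S12764), `isDM_fp`.
-/

set_option autoImplicit false
set_option linter.unusedVariables false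
set_option backward.isDefEq.respectTransparency false
set_option backward.isDefEq.respectTransparency.types false

universe w₁ v₁ w' v' w v₇ u₇ v₆ u₆ v₅ u₅ v₄ u₄ v₃ u₃ v₂ u₂ v u

open CategoryTheory CategoryTheory.Limits Opposite AlgebraicGeometry K734.Fib

namespace K734.Rep

variable {S : Scheme.{u}}

section Isos

variable {C : Type u} [Category.{v} C] {𝒰 : BasedCategory.{v₁, w₁} C} {𝒳 : BasedCategory.{v₂, u₂} C}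
  {𝒴 : BasedCategory.{v₃, u₃} C} {𝒵 : BasedCategory.{v₄, u₄} C}

theorem fpPreL_iso_hom (x : 𝒰 ⥤ᵇ 𝒳) (f : 𝒳 ⥤ᵇ 𝒵) (g : 𝒴 ⥤ᵇ 𝒵) (a : (FibCat.fp (BasedFunctor.comp x f) g).obj) :
    ((fpPreL x f g).obj a).obj.iso.hom = a.obj.iso.hom := by
  change 𝟙 _ ≫ a.obj.iso.hom ≫ 𝟙 _ = a.obj.iso.hom
  simp

theorem fpPreR_iso_hom (y : 𝒰 ⥤ᵇ 𝒴) (f : 𝒳 ⥤ᵇ 𝒵) (g : 𝒴 ⥤ᵇ 𝒵) (a : (FibCat.fp f (BasedFunctor.comp y g)).obj) :
    ((fpPreR f y g).obj a).obj.iso.hom = a.obj.iso.hom := by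
  change 𝟙 _ ≫ a.obj.iso.hom ≫ 𝟙 _ = a.obj.iso.hom
  simp

def preLIso (x : 𝒰 ⥤ᵇ 𝒳) (f : 𝒳 ⥤ᵇ 𝒵) (g : 𝒴 ⥤ᵇ 𝒵) :
    BasedFunctor.comp (fpPreL x f g) (BasedFunctor.id _) ≅
      BasedFunctor.comp (fpPaste x f g) (FibCat.fpSnd x (FibCat.fpFst f g)) :=
  liftExt (Iso.refl _) (Iso.refl _) (fun a => by
    simp only [refl_app, Iso.refl_hom]
    erw [f.map_id, g.map_id, Category.id_comp, Category.comp_id]
    exact (fpPreL_iso_hom x f g a).symm)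

def preRIso (y : 𝒰 ⥤ᵇ 𝒴) (f : 𝒳 ⥤ᵇ 𝒵) (g : 𝒴 ⥤ᵇ 𝒵) :
    BasedFunctor.comp (fpPreR f y g) (fpSwap f g) ≅
      BasedFunctor.comp (fpSwap f (BasedFunctor.comp y g)) (fpPreL y g f) :=
  liftExt (Iso.refl _) (Iso.refl _) (fun a => by
    simp only [refl_app, Iso.refl_hom]
    erw [f.map_id, g.map_id, Category.id_comp, Category.comp_id]
    have h1 := fpPreL_iso_hom y g f ((fpSwap f (BasedFunctor.comp y g)).obj a)
    refine h1.trans ?_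
    have h2 : ((fpPreR f y g).obj a).obj.iso = a.obj.iso := by
      ext
      exact fpPreR_iso_hom y f g a
    change a.obj.iso.inv = ((fpPreR f y g).obj a).obj.iso.inv
    rw [h2])


end Isos

section SelfOver

variable {C : Type u} [Category.{v} C] {𝒜 : BasedCategory.{v₂, u₂} C}

theorem hom_selfOver_eq {F G : 𝒜 ⥤ᵇ FibCat.selfOver C} (a b : F ⟶ G) : a = b := by
  apply BasedNatTrans.homCategory.ext
  ext x
  exact K734.FpDiag.self_vert_eq (hom_vert a x) (hom_vert b x)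

def isoSelfOver (F G : 𝒜 ⥤ᵇ FibCat.selfOver C) : F ≅ G :=
  mkIso (fun a => eqToIso ((F.w_obj a).trans (G.w_obj a).symm)) (fun a => isVert_iff.2
      ⟨(F.w_obj a).trans (G.w_obj a).symm, by
        rw [eqToIso.hom]
        rfl⟩) (fun {a b} m => by
    have e1 := IsHomLift.fac' (FibCat.selfOver C).p (𝒜.p.map m) (F.map m)
    have e2 := IsHomLift.fac' (FibCat.selfOver C).p (𝒜.p.map m) (G.map m)
    rw [eqToIso.hom, eqToIso.hom]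
    change (FibCat.selfOver C).p.map (F.map m) ≫ _ = _ ≫ (FibCat.selfOver C).p.map (G.map m)
    rw [e1, e2]
    simp)

theorem isPrestack_selfOver (J : GrothendieckTopology C) : Stk.IsPrestack J (FibCat.selfOver C) := by
  refine ⟨K735.Fp.isFibGrpd_selfOver, fun U R _ => ⟨⟨fun {F G} α => ⟨(isoSelfOver F G).hom, ?_⟩⟩, ⟨fun {F G} α β _ => ?_⟩⟩⟩
  · exact hom_selfOver_eq _ _
  · exact hom_selfOver_eq _ _


end SelfOver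

section BC

variable {𝒰 : BasedCategory.{v₁, w₁} (Over S)} {𝒳 : BasedCategory.{v₂, u₂} (Over S)}
  {𝒴 : BasedCategory.{v₃, u₃} (Over S)} {𝒵 : BasedCategory.{v₄, u₄} (Over S)}

/-- `fp (x ⋙ f) g ⟶ fp f g` is a base change of `x`. -/
theorem repByAlgSpWith_fpPreL {P : MorphismProperty (AlgSp.Sp S)} {x : 𝒰 ⥤ᵇ 𝒳} (f : 𝒳 ⥤ᵇ 𝒵) (g : 𝒴 ⥤ᵇ 𝒵)
    (hx : AlgSt.RepByAlgSpWith P x) : AlgSt.RepByAlgSpWith P (fpPreL x f g) :=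
  K735.Rep.repByAlgSpWith_of_sq P (FibCat.fpSnd x (FibCat.fpFst f g)) (fpPreL x f g) (fpPaste x f g)
    (BasedFunctor.id _) (isEquivOver_fpPaste x f g) (isEquivOver_refl _)
    (preLIso x f g) (repByAlgSpWith_fpSnd P x (FibCat.fpFst f g) hx)

/-- `fp f (y ⋙ g) ⟶ fp f g` is a base change of `y`. -/
theorem repByAlgSpWith_fpPreR {P : MorphismProperty (AlgSp.Sp S)} {y : 𝒰 ⥤ᵇ 𝒴} (f : 𝒳 ⥤ᵇ 𝒵) (g : 𝒴 ⥤ᵇ 𝒵)
    (hy : AlgSt.RepByAlgSpWith P y) : AlgSt.RepByAlgSpWith P (fpPreR f y g) :=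
  K735.Rep.repByAlgSpWith_of_sq P (fpPreL y g f) (fpPreR f y g) (fpSwap f (BasedFunctor.comp y g)) (fpSwap f g)
    (isEquivOver_fpSwap _ _) (isEquivOver_fpSwap _ _)
    (preRIso y f g) (repByAlgSpWith_fpPreL g f hy)

end BC

section Cat

variable {𝒳 𝒴 𝒵 : AlgSt.Cat S}

theorem hasAtlas_fp {P : MorphismProperty (AlgSp.Sp S)} (hP : Nice P)
    (hPe : ∀ ⦃X Y : AlgSp.Sp S⦄ (a : X ⟶ Y), AlgSp.IsEtaleMor a → P a)
    (h𝒳 : FibCat.IsFibGrpd 𝒳.p) (h𝒴 : FibCat.IsFibGrpd 𝒴.p) (h𝒵 : FibCat.IsFibGrpd 𝒵.p)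
    (hΔ : AlgSt.RepByAlgSp1 (FibCat.diag (FibCat.toSelf 𝒵))) (hX : AlgSt.HasAtlas P 𝒳) (hY : AlgSt.HasAtlas P 𝒴)
    (f : 𝒳 ⥤ᵇ 𝒵) (g : 𝒴 ⥤ᵇ 𝒵) : AlgSt.HasAtlas P (FibCat.fp f g) := by
  obtain ⟨U, x, hx, hxs⟩ := hX
  obtain ⟨V, y, hy, hys⟩ := hY
  have hU := isFibGrpd_overCat (C := Over S) U
  have hV := isFibGrpd_overCat (C := Over S) V
  have h1 : FibCat.IsFibGrpd (FibCat.fp (BasedFunctor.comp x f) (BasedFunctor.comp y g)).p :=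
    isFibGrpd_fp _ _ hU hV h𝒵
  have h2 : FibCat.IsFibGrpd (FibCat.fp (BasedFunctor.comp x f) g).p := isFibGrpd_fp _ _ hU h𝒴 h𝒵
  refine hasAtlas_of_cover hP hPe h1 (K740.DiagRep.repByAlgSp_fp_of_diag h𝒵 hΔ hU hV _ _
    (K735.Rep.repByAlgSp_overCat U) (K735.Rep.repByAlgSp_overCat V))
    (BasedFunctor.comp (fpPreR (BasedFunctor.comp x f) y g) (fpPreL x f g)) ?_ ?_
  · exact hP.repByAlgSpWith_comp h1 h2 (repByAlgSpWith_fpPreR _ _ hy) (repByAlgSpWith_fpPreL _ _ hx)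
  · exact nice_surj.repByAlgSpWith_comp h1 h2 (repByAlgSpWith_fpPreR _ _ hys) (repByAlgSpWith_fpPreL _ _ hxs)

theorem isPrestack_of_isStack {C : Type u} [Category.{v} C] {J : GrothendieckTopology C}
    {𝒳 : BasedCategory.{v, max u v} C} (h : Stk.IsStack J 𝒳) : Stk.IsPrestack J 𝒳 :=
  K751.Test.isPrestack_of_isStack h

/-- S12763, for any precoverage. -/
theorem isAlgStack_fp {K : Precoverage Scheme.{u}} (h𝒵 : Stk.IsPrestack (QuotSh.J K S) 𝒵)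
    (hΔ : AlgSt.RepByAlgSp1 (FibCat.diag (FibCat.toSelf 𝒵))) (h𝒳 : AlgSt.IsAlgStack K 𝒳)
    (h𝒴 : AlgSt.IsAlgStack K 𝒴) (f : 𝒳 ⥤ᵇ 𝒵) (g : 𝒴 ⥤ᵇ 𝒵) : AlgSt.IsAlgStack K (FibCat.fp f g) where
  isStack := K751.Fp.isStack_fp h𝒳.isStack h𝒴.isStack h𝒵
  diag := K734.FpDiag.repByAlgSp1_diag_fp f g h𝒳.isStack.1 h𝒴.isStack.1 h𝒵.1 h𝒳.diag h𝒴.diag hΔ
  atlas := hasAtlas_fp nice_smooth (fun _ _ _ h => locP_smooth_of_isEtaleMor h) h𝒳.isStack.1 h𝒴.isStack.1 h𝒵.1 hΔ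
    h𝒳.atlas h𝒴.atlas f g

theorem isDM_fp {K : Precoverage Scheme.{u}} (h𝒵 : Stk.IsPrestack (QuotSh.J K S) 𝒵)
    (hΔ : AlgSt.RepByAlgSp1 (FibCat.diag (FibCat.toSelf 𝒵))) (h𝒳 : AlgSt.IsDM K 𝒳)
    (h𝒴 : AlgSt.IsDM K 𝒴) (f : 𝒳 ⥤ᵇ 𝒵) (g : 𝒴 ⥤ᵇ 𝒵) : AlgSt.IsDM K (FibCat.fp f g) :=
  ⟨isAlgStack_fp h𝒵 hΔ h𝒳.1 h𝒴.1 f g, hasAtlas_fp nice_isEtaleMor (fun _ _ _ h => h) h𝒳.1.isStack.1 h𝒴.1.isStack.1
    h𝒵.1 hΔ h𝒳.2 h𝒴.2 f g⟩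

/-- The diagonal of the base category. -/
theorem repByAlgSp1_diag_selfOver : AlgSt.RepByAlgSp1 (FibCat.diag (FibCat.toSelf (FibCat.selfOver (Over S)))) := by
  rw [K740.DiagRep.repByAlgSp1_diag_iff K735.Fp.isFibGrpd_selfOver]
  intro U x V y
  exact K740.DiagRep.repByAlgSp_fp y x (K735.Rep.repByAlgSp_overCat V) (K735.Rep.repByAlgSp_overCat U)
    (K740.DiagRep.repByAlgSp_selfOver S)

/-- S12764, for any precoverage. -/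
theorem isAlgStack_prod {K : Precoverage Scheme.{u}} (h𝒳 : AlgSt.IsAlgStack K 𝒳) (h𝒴 : AlgSt.IsAlgStack K 𝒴) :
    AlgSt.IsAlgStack K (FibCat.fp (FibCat.toSelf 𝒳) (FibCat.toSelf 𝒴)) :=
  isAlgStack_fp (𝒵 := FibCat.selfOver (Over S)) (isPrestack_selfOver _) repByAlgSp1_diag_selfOver h𝒳 h𝒴 _ _

end Cat

end K734.Rep
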