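import Groth.Agent.AlgSt.K734.Grpd
/-!
K734.Yon2 : the 2-Yoneda lemma for categories fibred in groupoids (namespace `K734.Fib`), any universes.

* `one U` : the object `𝟙 U` of `overCat U`; `toOne g : g ⟶ one U`.
* `exists_yo` : for `x` over `U` there is `y : overCat U ⥤ᵇ 𝒳` with `y (one U) ≅ x` vertical.
* `homOfOne`, `isoOfOne` : 2-morphisms between functors out of `overCat U` from their value at `one U`.
* `overMap f : overCat V ⥤ᵇ overCat U` for `f : V ⟶ U`, `exists_overMap` : every functor is one of these.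
-/

set_option autoImplicit false
set_option backward.isDefEq.respectTransparency false
set_option backward.isDefEq.respectTransparency.types false

universe v₇ u₇ v₆ u₆ v₅ u₅ v₄ u₄ v₃ u₃ v₂ u₂ v u

open CategoryTheory CategoryTheory.Limits

namespace K734.Fib

variable {C : Type u} [Category.{v} C]

/-- The object `𝟙 U` of the slice. -/
abbrev one (U : C) : (FibCat.overCat U).obj := Over.mk (𝟙 U)

/-- The unique morphism to `𝟙 U`. -/
abbrev toOne {U : C} (g : (FibCat.overCat U).obj) : g ⟶ one U := Over.homMk g.hom (by simp)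

theorem toOne_left {U : C} (g : (FibCat.overCat U).obj) : (toOne g).left = g.hom := rfl

theorem toOne_comp {U : C} {g g' : (FibCat.overCat U).obj} (φ : g ⟶ g') : φ ≫ toOne g' = toOne g :=
  Over.OverMorphism.ext (Over.w φ)

theorem toOne_self (U : C) : toOne (one U) = 𝟙 (one U) := Over.OverMorphism.ext rfl

theorem overCat_map (U : C) {g g' : (FibCat.overCat U).obj} (φ : g ⟶ g') :
    (FibCat.overCat U).p.map φ = φ.left := rfl

section

variable {𝒳 : BasedCategory.{v₂, u₂} C}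

/-- 2-morphisms out of a slice are determined by their value at `𝟙 U`. -/
theorem hom_ext_one (h𝒳 : FibCat.IsFibGrpd 𝒳.p) {U : C} {G H : FibCat.overCat U ⥤ᵇ 𝒳} {α β : G ⟶ H}
    (h : α.toNatTrans.app (one U) = β.toNatTrans.app (one U)) : α = β := by
  apply hom_ext₂
  intro g
  apply fac_unique h𝒳 (H.map (toOne g))
  · rw [(hom_vert α g).map_eq, (hom_vert β g).map_eq]
  · have h1 := α.toNatTrans.naturality (toOne g)
    have h2 := β.toNatTrans.naturality (toOne g)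
    exact (h1.symm.trans (by rw [h])).trans h2

theorem iso_ext_one (h𝒳 : FibCat.IsFibGrpd 𝒳.p) {U : C} {G H : FibCat.overCat U ⥤ᵇ 𝒳} {α β : G ≅ H}
    (h : (app α (one U)).hom = (app β (one U)).hom) : α = β :=
  Iso.ext (hom_ext_one h𝒳 h)

theorem exists_homOfOne (h𝒳 : FibCat.IsFibGrpd 𝒳.p) {U : C} (G H : FibCat.overCat U ⥤ᵇ 𝒳)
    (φ : G.obj (one U) ⟶ H.obj (one U)) (hφ : IsVert 𝒳 φ) :
    ∃ α : G ⟶ H, α.toNatTrans.app (one U) = φ := by
  have key : ∀ g : (FibCat.overCat U).obj, ∃ χ : G.obj g ⟶ H.obj g, IsVert 𝒳 χ ∧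
      χ ≫ H.map (toOne g) = G.map (toOne g) ≫ φ := by
    intro g
    obtain ⟨χ, hχ, hχ'⟩ := exists_fac h𝒳 (H.map (toOne g)) (G.map (toOne g) ≫ φ)
      (eqToHom ((G.w_obj g).trans (H.w_obj g).symm)) (by
        rw [Functor.map_comp, hφ.map_eq, map_eq_base, map_eq_base]; simp)
    exact ⟨χ, isVert_iff.2 ⟨_, hχ⟩, hχ'⟩
  choose c hc hc' using key
  refine ⟨mkHom c hc ?_, ?_⟩
  · intro g g' f
    apply fac_unique h𝒳 (H.map (toOne g'))
    · rw [Functor.map_comp, Functor.map_comp, (hc g).map_eq, (hc g').map_eq, map_eq_base, map_eq_base]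
      simp
    · rw [Category.assoc, hc', Category.assoc]
      have e1 : G.map f ≫ G.map (toOne g') = G.map (toOne g) := by
        rw [← Functor.map_comp, toOne_comp]
      have e2 : H.map f ≫ H.map (toOne g') = H.map (toOne g) := by
        rw [← Functor.map_comp, toOne_comp]
      rw [e2, hc', ← e1, Category.assoc]
  · show c (one U) = φ
    have h1 := hc' (one U)
    rw [toOne_self, Functor.map_id, Functor.map_id, Category.comp_id, Category.id_comp] at h1
    exact h1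

/-- 2-morphism from its value at `𝟙 U`. -/
noncomputable def homOfOne (h𝒳 : FibCat.IsFibGrpd 𝒳.p) {U : C} {G H : FibCat.overCat U ⥤ᵇ 𝒳}
    (φ : G.obj (one U) ⟶ H.obj (one U)) (hφ : IsVert 𝒳 φ) : G ⟶ H :=
  (exists_homOfOne h𝒳 G H φ hφ).choose

theorem homOfOne_app (h𝒳 : FibCat.IsFibGrpd 𝒳.p) {U : C} {G H : FibCat.overCat U ⥤ᵇ 𝒳}
    (φ : G.obj (one U) ⟶ H.obj (one U)) (hφ : IsVert 𝒳 φ) :
    (homOfOne h𝒳 φ hφ).toNatTrans.app (one U) = φ :=
  (exists_homOfOne h𝒳 G H φ hφ).choose_spec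

/-- 2-isomorphism from its value at `𝟙 U`. -/
noncomputable def isoOfOne (h𝒳 : FibCat.IsFibGrpd 𝒳.p) {U : C} {G H : FibCat.overCat U ⥤ᵇ 𝒳}
    (φ : G.obj (one U) ≅ H.obj (one U)) (hφ : IsVert 𝒳 φ.hom) : G ≅ H where
  hom := homOfOne h𝒳 φ.hom hφ
  inv := homOfOne h𝒳 φ.inv hφ.inv
  hom_inv_id := hom_ext_one h𝒳 (by
    show (homOfOne h𝒳 φ.hom hφ).toNatTrans.app (one U) ≫ (homOfOne h𝒳 φ.inv hφ.inv).toNatTrans.app (one U)
      = 𝟙 _
    rw [homOfOne_app, homOfOne_app, Iso.hom_inv_id])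
  inv_hom_id := hom_ext_one h𝒳 (by
    show (homOfOne h𝒳 φ.inv hφ.inv).toNatTrans.app (one U) ≫ (homOfOne h𝒳 φ.hom hφ).toNatTrans.app (one U)
      = 𝟙 _
    rw [homOfOne_app, homOfOne_app, Iso.inv_hom_id])

@[simp] theorem isoOfOne_app (h𝒳 : FibCat.IsFibGrpd 𝒳.p) {U : C} {G H : FibCat.overCat U ⥤ᵇ 𝒳}
    (φ : G.obj (one U) ≅ H.obj (one U)) (hφ : IsVert 𝒳 φ.hom) :
    app (isoOfOne h𝒳 φ hφ) (one U) = φ := by
  ext; exact homOfOne_app h𝒳 φ.hom hφ

/-- 2-Yoneda: every object over `U` comes from a functor `overCat U ⥤ᵇ 𝒳`. -/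
theorem exists_yo (h𝒳 : FibCat.IsFibGrpd 𝒳.p) {U : C} (x : 𝒳.obj) (hx : 𝒳.p.obj x = U) :
    ∃ (y : FibCat.overCat U ⥤ᵇ 𝒳) (e : y.obj (one U) ≅ x), IsVert 𝒳 e.hom := by
  have key : ∀ g : (FibCat.overCat U).obj, ∃ (z : 𝒳.obj) (φ : z ⟶ x), 𝒳.p.IsHomLift g.hom φ :=
    fun g => exists_lift h𝒳 hx g.hom
  choose z l hl using key
  have key2 : ∀ (g g' : (FibCat.overCat U).obj) (f : g ⟶ g'), ∃ χ : z g ⟶ z g',
      𝒳.p.IsHomLift f.left χ ∧ χ ≫ l g' = l g := by
    intro g g' f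
    have h1 : 𝒳.p.IsHomLift (f.left ≫ g'.hom) (l g) := by rw [Over.w f]; exact hl g
    exact exists_fac' h𝒳 (hl g') h1
  choose m hm hm' using key2
  have hobj : ∀ g, 𝒳.p.obj (z g) = g.left := fun g => by
    have := hl g
    exact IsHomLift.domain_eq 𝒳.p g.hom (l g)
  let Y : FibCat.overCat U ⥤ᵇ 𝒳 :=
    { toFunctor :=
        { obj := z
          map := fun {g g'} f => m g g' f
          map_id := fun g => by
            have h1 : 𝒳.p.IsHomLift (𝟙 g.left) (𝟙 (z g)) := IsHomLift.id (hobj g)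
            have h2 : 𝒳.p.IsHomLift (𝟙 g.left) (m g g (𝟙 g)) := hm g g (𝟙 g)
            exact fac_unique' h𝒳 (l g) h2 h1 (by rw [hm', Category.id_comp])
          map_comp := fun {g g' g''} f f' => by
            have h1 : 𝒳.p.IsHomLift f.left (m g g' f) := hm g g' f
            have h2 : 𝒳.p.IsHomLift f'.left (m g' g'' f') := hm g' g'' f'
            have h3 : 𝒳.p.IsHomLift (f.left ≫ f'.left) (m g g' f ≫ m g' g'' f') := inferInstance
            have h4 : 𝒳.p.IsHomLift (f.left ≫ f'.left) (m g g'' (f ≫ f')) := hm g g'' (f ≫ f')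
            exact fac_unique' h𝒳 (l g'') h4 h3 (by rw [hm', Category.assoc, hm', hm']) }
      w := CategoryTheory.Functor.ext hobj (fun g g' f => by
        have h1 : 𝒳.p.IsHomLift f.left (m g g' f) := hm g g' f
        exact IsHomLift.fac' 𝒳.p f.left (m g g' f)) }
  have hv : IsVert 𝒳 (l (one U)) := IsVert.of_lift (hl (one U))
  have := isIso_of_vert h𝒳 hv
  exact ⟨Y, asIso (l (one U)), hv⟩

/-- A chosen functor `overCat U ⥤ᵇ 𝒳` for an object over `U`. -/
noncomputable def yo (h𝒳 : FibCat.IsFibGrpd 𝒳.p) {U : C} (x : 𝒳.obj) (hx : 𝒳.p.obj x = U) :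
    FibCat.overCat U ⥤ᵇ 𝒳 := (exists_yo h𝒳 x hx).choose

/-- The value of `yo x` at `𝟙 U` is `x`. -/
noncomputable def yoIso (h𝒳 : FibCat.IsFibGrpd 𝒳.p) {U : C} (x : 𝒳.obj) (hx : 𝒳.p.obj x = U) :
    (yo h𝒳 x hx).obj (one U) ≅ x := (exists_yo h𝒳 x hx).choose_spec.choose

theorem yoIso_vert (h𝒳 : FibCat.IsFibGrpd 𝒳.p) {U : C} (x : 𝒳.obj) (hx : 𝒳.p.obj x = U) :
    IsVert 𝒳 (yoIso h𝒳 x hx).hom := (exists_yo h𝒳 x hx).choose_spec.choose_spec

theorem obj_one_eq {U : C} (G : FibCat.overCat U ⥤ᵇ 𝒳) : 𝒳.p.obj (G.obj (one U)) = U := G.w_obj (one U)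

end

/-- The functor `overCat V ⥤ᵇ overCat U` induced by `f : V ⟶ U`. -/
def overMap {U V : C} (f : V ⟶ U) : FibCat.overCat V ⥤ᵇ FibCat.overCat U where
  toFunctor := Over.map f
  w := rfl

theorem overMap_obj_hom {U V : C} (f : V ⟶ U) (g : (FibCat.overCat V).obj) :
    ((overMap f).obj g).hom = g.hom ≫ f := rfl

theorem overMap_obj_left {U V : C} (f : V ⟶ U) (g : (FibCat.overCat V).obj) :
    ((overMap f).obj g).left = g.left := rfl

/-- Two functors into a setoid-fibred category agreeing up to vertical isomorphism on objects are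
2-isomorphic. -/
theorem nonempty_iso_of_setoid {𝒳 : BasedCategory.{v₂, u₂} C} {𝒵 : BasedCategory.{v₃, u₃} C}
    (h𝒳 : FibCat.IsFibSetoid 𝒳.p) {G H : 𝒵 ⥤ᵇ 𝒳}
    (h : ∀ z, ∃ e : G.obj z ≅ H.obj z, IsVert 𝒳 e.hom) : Nonempty (G ≅ H) := by
  choose e he using h
  refine ⟨mkIso e he (fun {x y} f => eq_of_setoid h𝒳 ?_)⟩
  rw [Functor.map_comp, Functor.map_comp, (he x).map_eq, (he y).map_eq, map_eq_base, map_eq_base]
  simp

theorem iso_eq_of_setoid {𝒳 : BasedCategory.{v₂, u₂} C} {𝒵 : BasedCategory.{v₃, u₃} C}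
    (h𝒳 : FibCat.IsFibSetoid 𝒳.p) {G H : 𝒵 ⥤ᵇ 𝒳} (α β : G ≅ H) : α = β := by
  apply iso_ext₂
  intro x
  apply eq_of_setoid h𝒳
  rw [(app_vert α x).map_eq, (app_vert β x).map_eq]

/-- The morphism underlying a functor between slices. -/
def overFun {U V : C} (G : FibCat.overCat V ⥤ᵇ FibCat.overCat U) : V ⟶ U :=
  eqToHom (obj_one_eq G).symm ≫ (G.obj (one V)).hom

/-- Every functor between slices over `C` is 2-isomorphic to `overMap f`. -/
theorem nonempty_iso_overMap {U V : C} (G : FibCat.overCat V ⥤ᵇ FibCat.overCat U) :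
    Nonempty (G ≅ overMap (overFun G)) := by
  apply nonempty_iso_of_setoid (isFibSetoid_overCat U)
  intro g
  have hg : (G.obj g).left = g.left := G.w_obj g
  have h1 : (G.obj g).hom = (G.map (toOne g)).left ≫ (G.obj (one V)).hom := (Over.w (G.map (toOne g))).symm
  have h2 : (G.map (toOne g)).left = eqToHom hg ≫ g.hom ≫ eqToHom (obj_one_eq G).symm :=
    map_eq_base G (toOne g)
  refine ⟨Over.isoMk (eqToIso hg) ?_, ?_⟩
  · show eqToHom hg ≫ g.hom ≫ overFun G = (G.obj g).hom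
    rw [h1, h2]
    simp [overFun]
  · exact isVert_iff.2 ⟨hg, rfl⟩

theorem overMap_iso_of_eq {U V : C} {f g : V ⟶ U} (h : f = g) : Nonempty (overMap f ≅ overMap g) := by
  subst h; exact ⟨Iso.refl _⟩

theorem eq_of_overMap_iso {U V : C} {f g : V ⟶ U} (e : overMap f ≅ overMap g) : f = g := by
  have h1 := Over.w (app e (one V)).hom
  have h2 : (app e (one V)).hom.left = 𝟙 V := by
    have := (app_vert e (one V)).map_eq
    exact this.trans (by rfl)
  rw [h2] at h1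
  have h3 : 𝟙 V ≫ ((overMap g).obj (one V)).hom = ((overMap f).obj (one V)).hom := h1
  have h4 : 𝟙 V ≫ 𝟙 V ≫ g = 𝟙 V ≫ f := h3
  simpa using h4.symm

end K734.Fib
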