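import Groth.Agent.AlgSt.K734.IsoPsh
import Groth.Agent.AlgSt.K735.Rep
import Groth.Prelude.Def_AlgSpRep
/-!
K734.Rep : representability by algebraic spaces, formal properties I (namespace `K734.Rep`).

* `repByAlgSpWith_fpFst` : base change (any `P`, any categories).
* `faithful_of_repByAlgSp1`.
* `repBySpWith_iff`, `repBySp_iff` : maps of presheaves versus functors.
* `repByAlgSp_iff_isoPsh` : a setoid-fibred category is representable iff its presheaf of classes is an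
  algebraic space.
-/

set_option autoImplicit false
set_option backward.isDefEq.respectTransparency false
set_option backward.isDefEq.respectTransparency.types false

universe w v₇ u₇ v₆ u₆ v₅ u₅ v₄ u₄ v₃ u₃ v₂ u₂ v u

open CategoryTheory CategoryTheory.Limits Opposite AlgebraicGeometry K734.Fib

namespace K734.Rep

variable {S : Scheme.{u}}

section General

variable {𝒳 : BasedCategory.{v₂, u₂} (Over S)} {𝒴 : BasedCategory.{v₃, u₃} (Over S)}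
  {𝒵 : BasedCategory.{v₄, u₄} (Over S)} {𝒲 : BasedCategory.{v₅, u₅} (Over S)}

/-- Base change of representable 1-morphisms. -/
theorem repByAlgSpWith_fpFst (P : MorphismProperty (AlgSp.Sp S)) (f : 𝒳 ⥤ᵇ 𝒴) (g : 𝒵 ⥤ᵇ 𝒴)
    (hf : AlgSt.RepByAlgSpWith P f) : AlgSt.RepByAlgSpWith P (FibCat.fpFst g f) := by
  intro U z
  exact K735.Rep.RepOver.of_equiv (w := FibCat.fpFst (BasedFunctor.comp z g) f) (hf U (BasedFunctor.comp z g))
    (fpPaste z g f) (isEquivOver_fpPaste z g f) (Iso.refl _)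

theorem repByAlgSp1_fpFst (f : 𝒳 ⥤ᵇ 𝒴) (g : 𝒵 ⥤ᵇ 𝒴)
    (hf : AlgSt.RepByAlgSp1 f) : AlgSt.RepByAlgSp1 (FibCat.fpFst g f) := by
  rw [K735.Rep.repByAlgSp1_iff_top] at hf ⊢
  exact repByAlgSpWith_fpFst _ _ _ hf

theorem repByAlgSpWith_fpSnd (P : MorphismProperty (AlgSp.Sp S)) (f : 𝒳 ⥤ᵇ 𝒴) (g : 𝒵 ⥤ᵇ 𝒴)
    (hf : AlgSt.RepByAlgSpWith P f) : AlgSt.RepByAlgSpWith P (FibCat.fpSnd f g) :=
  K735.Rep.repByAlgSpWith_of_sq P (FibCat.fpFst g f) (FibCat.fpSnd f g) (fpSwap f g) (BasedFunctor.id _)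
    (isEquivOver_fpSwap f g) (isEquivOver_refl _) (Iso.refl _) (repByAlgSpWith_fpFst P f g hf)

theorem repByAlgSp1_fpSnd (f : 𝒳 ⥤ᵇ 𝒴) (g : 𝒵 ⥤ᵇ 𝒴)
    (hf : AlgSt.RepByAlgSp1 f) : AlgSt.RepByAlgSp1 (FibCat.fpSnd f g) := by
  rw [K735.Rep.repByAlgSp1_iff_top] at hf ⊢
  exact repByAlgSpWith_fpSnd _ _ _ hf

theorem repByAlgSp1_of_iso {f g : 𝒳 ⥤ᵇ 𝒴} (e : f ≅ g) (h : AlgSt.RepByAlgSp1 f) : AlgSt.RepByAlgSp1 g := by
  rw [K735.Rep.repByAlgSp1_iff_top] at h ⊢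
  exact K735.Rep.repByAlgSpWith_of_iso _ e h

/-- Representable categories are fibred in setoids. -/
theorem isFibSetoid_of_repByAlgSp (h : AlgSt.RepByAlgSp 𝒳) : FibCat.IsFibSetoid 𝒳.p := by
  obtain ⟨F, e, he⟩ := h
  exact (isFibSetoid_iff_of_isEquivOver he).1 (isFibSetoid_ofPsh _)

/-- A 1-morphism representable by algebraic spaces is faithful. -/
theorem faithful_of_repByAlgSp1 (h𝒳 : FibCat.IsFibGrpd 𝒳.p) (h𝒴 : FibCat.IsFibGrpd 𝒴.p) (f : 𝒳 ⥤ᵇ 𝒴)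
    (hf : AlgSt.RepByAlgSp1 f) : f.toFunctor.Faithful := by
  refine ⟨fun {x x'} a b hab => ?_⟩
  have hab' : f.map a = f.map b := hab
  have hp : 𝒳.p.map a = 𝒳.p.map b := by rw [map_base_eq f, map_base_eq f, hab']
  obtain ⟨χ, hχ, hχ'⟩ := exists_fac h𝒳 b a (𝟙 _) (by rw [Category.id_comp, hp])
  have hv : IsVert 𝒳 χ := isVert_iff.2 ⟨rfl, hχ⟩
  have h1 : f.map χ = 𝟙 _ := by
    apply fac_unique h𝒴 (f.map b)
    · rw [(hv.map f).map_eq]; simp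
    · rw [← Functor.map_comp, hχ', hab', Category.id_comp]
  obtain ⟨y, e, he⟩ := exists_yo h𝒴 (f.obj x) rfl
  have hs := isFibSetoid_of_repByAlgSp (hf _ y)
  let z : (FibCat.fp y f).obj := mkObj (one _) x e he
  let φ : z ⟶ z := mkHomFp (𝟙 _) χ (by
    show y.map (𝟙 _) ≫ e.hom = e.hom ≫ f.map χ
    rw [h1, Category.comp_id]
    erw [y.map_id]
    rw [Category.id_comp])
  have h2 : φ = 𝟙 z := by
    apply eq_of_setoid hs
    rfl
  have h3 : χ = 𝟙 x := congrArg (fun k => k.hom.snd) h2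
  rw [← hχ', h3, Category.id_comp]

end General

section Psh

variable {F G F' : AlgSp.PSp S} {a : F ⟶ G}

/-- The fibre product of `ofPshMap a` with a functor from a slice is the category of the pullback presheaf. -/
theorem exists_equiv_pullback {U : Over S} (y : FibCat.overCat U ⥤ᵇ Stk.ofPsh G)
    {ξ : (AlgSp.pyon S).obj U ⟶ G} (i : BasedFunctor.comp (AlgSt.toOverCat U) y ≅ Stk.ofPshMap ξ)
    {fst : F' ⟶ F} {snd : F' ⟶ (AlgSp.pyon S).obj U} (sq : IsPullback fst snd a ξ) :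
    ∃ e : Stk.ofPsh F' ⥤ᵇ FibCat.fp y (Stk.ofPshMap a), FibCat.IsEquivOver e ∧
      Nonempty (BasedFunctor.comp e (FibCat.fpFst y (Stk.ofPshMap a)) ≅
        BasedFunctor.comp (Stk.ofPshMap snd) (AlgSt.toOverCat U)) := by
  let c : BasedFunctor.comp (Stk.ofPshMap snd) (Stk.ofPshMap ξ) ≅
      BasedFunctor.comp (Stk.ofPshMap fst) (Stk.ofPshMap a) :=
    eqToIso (congrArg Stk.ofPshMap sq.w.symm)
  have h1 := isEquivOver_fp_ofPsh sq.flip c
  have h2 := isEquivOver_fpCongrL i (Stk.ofPshMap a)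
  have h3 := isEquivOver_fpPreL (AlgSt.toOverCat U) (K735.Rep.isEquivOver_toOverCat U) y (Stk.ofPshMap a)
  exact ⟨BasedFunctor.comp (BasedFunctor.comp (FibCat.fpLift (Stk.ofPshMap snd) (Stk.ofPshMap fst) c)
    (fpCongrL i (Stk.ofPshMap a))) (fpPreL (AlgSt.toOverCat U) y (Stk.ofPshMap a)),
    isEquivOver_comp (isEquivOver_comp h1 h2) h3, ⟨Iso.refl _⟩⟩

/-- The section of `G` of a functor from a slice. -/
theorem exists_section_of_functor {U : Over S} (y : FibCat.overCat U ⥤ᵇ Stk.ofPsh G) :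
    ∃ ξ : (AlgSp.pyon S).obj U ⟶ G, Nonempty (BasedFunctor.comp (AlgSt.toOverCat U) y ≅ Stk.ofPshMap ξ) := by
  let Y : Stk.ofPsh ((AlgSp.pyon S).obj U) ⥤ᵇ Stk.ofPsh G := BasedFunctor.comp (AlgSt.toOverCat U) y
  exact ⟨pshHom Y, nonempty_iso_ofPshMap Y⟩

theorem toOverCat_ofOverCat (U : Over S) (ξ : (AlgSp.pyon S).obj U ⟶ G) :
    Nonempty (BasedFunctor.comp (AlgSt.toOverCat U)
      (BasedFunctor.comp (AlgSt.ofOverCat U) (Stk.ofPshMap ξ)) ≅ Stk.ofPshMap ξ) :=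
  ⟨Iso.refl _⟩

theorem repByAlgSpWith_of_repBySpWith (Q : MorphismProperty (AlgSp.Sp S)) (a : F ⟶ G)
    (h : AlgSp.RepBySpWith Q a) : AlgSt.RepByAlgSpWith Q (Stk.ofPshMap a) := by
  intro U y
  obtain ⟨ξ, ⟨i⟩⟩ := exists_section_of_functor y
  have sq := IsPullback.of_hasPullback a ξ
  obtain ⟨hs, hA, hQ⟩ := h ξ _ _ sq
  obtain ⟨e, he, ⟨j⟩⟩ := exists_equiv_pullback y i sq
  refine ⟨⟨⟨_, hs⟩, hA⟩, e, he, ?_⟩
  have h1 := K735.Rep.spMapOfOver_eq_of_iso (F := (⟨pullback a ξ, hs⟩ : AlgSp.Sp S)) j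
  erw [h1]
  have h2 := K735.Rep.spMapOfOver_ofSpMap_toOverCat
    (ObjectProperty.homMk (pullback.snd a ξ) : (⟨pullback a ξ, hs⟩ : AlgSp.Sp S) ⟶ (AlgSp.yon S).obj U)
  erw [h2]
  exact hQ

theorem repBySpWith_of_repByAlgSpWith (Q : MorphismProperty (AlgSp.Sp S)) [Q.RespectsIso] (a : F ⟶ G)
    (h : AlgSt.RepByAlgSpWith Q (Stk.ofPshMap a)) : AlgSp.RepBySpWith Q a := by
  intro U ξ F' fst snd sq
  have hU := h U (BasedFunctor.comp (AlgSt.ofOverCat U) (Stk.ofPshMap ξ))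
  obtain ⟨F₀, e₀, he₀, hQ₀⟩ := id hU
  obtain ⟨i⟩ := toOverCat_ofOverCat U ξ
  obtain ⟨e, he, ⟨j⟩⟩ := exists_equiv_pullback _ i sq
  -- `F'` is a sheaf
  obtain ⟨k, hk, -, -⟩ := exists_inverse he
  have hiso : IsIso (pshHom (BasedFunctor.comp e₀ k)) := isIso_pshHom (isEquivOver_comp he₀ hk)
  have hs : Presheaf.IsSheaf (AlgSp.J S) F' :=
    (Presheaf.isSheaf_of_iso_iff (asIso (pshHom (BasedFunctor.comp e₀ k)))).1 F₀.obj.property
  let G' : AlgSp.Sp S := ⟨F', hs⟩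
  obtain ⟨hA, hQ⟩ := K735.Rep.RepOver.of_rep (P := Q) hU (G := G') e he
  refine ⟨hs, hA, ?_⟩
  have h1 := K735.Rep.spMapOfOver_eq_of_iso (F := G') j
  erw [h1] at hQ
  have h2 := K735.Rep.spMapOfOver_ofSpMap_toOverCat
    (ObjectProperty.homMk snd : G' ⟶ (AlgSp.yon S).obj U)
  erw [h2] at hQ
  exact hQ

/-- S12778 without the hypothesis that `a` is representable. -/
theorem repBySpWith_iff (Q : MorphismProperty (AlgSp.Sp S)) [Q.RespectsIso] (a : F ⟶ G) :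
    AlgSp.RepBySpWith Q a ↔ AlgSt.RepByAlgSpWith Q (Stk.ofPshMap a) :=
  ⟨repByAlgSpWith_of_repBySpWith Q a, repBySpWith_of_repByAlgSpWith Q a⟩

theorem repBySp_iff_top (a : F ⟶ G) : AlgSp.RepBySp a ↔ AlgSp.RepBySpWith ⊤ a := by
  constructor
  · intro h U ξ F' fst snd sq
    obtain ⟨hs, hA⟩ := h ξ fst snd sq
    exact ⟨hs, hA, trivial⟩
  · exact fun h => h.repBySp

/-- S12777. -/
theorem repBySp_iff (a : F ⟶ G) : AlgSp.RepBySp a ↔ AlgSt.RepByAlgSp1 (Stk.ofPshMap a) := by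
  rw [repBySp_iff_top, K735.Rep.repByAlgSp1_iff_top]
  exact repBySpWith_iff ⊤ a

end Psh

end K734.Rep
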