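import Groth.Agent.AlgSt.K734.RepSp2
import Groth.Agent.AlgSp.K597.EtLoc
import Groth.Agent.AlgSp.K608.Field
import Groth.Agent.AlgSp.K627.FpqcLocPInst
import Groth.Agent.S10505
/-!
K734.Props : properties of morphisms of algebraic spaces that are stable under base change and composition and fppf
local on the base (`Nice P`): flat, lft, lfp, smooth, etale (`LocP` form and `IsEtaleMor`), surjective; conjunctions;
and the resulting calculus for `RepByAlgSpWith P` and `HasAtlas P`.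
-/

set_option autoImplicit false
set_option linter.unusedVariables false
set_option backward.isDefEq.respectTransparency false
set_option backward.isDefEq.respectTransparency.types false

universe w v₇ u₇ v₆ u₆ v₅ u₅ v₄ u₄ v₃ u₃ v₂ u₂ v u

open CategoryTheory CategoryTheory.Limits Opposite AlgebraicGeometry K734.Fib

namespace K734.Rep

variable {S : Scheme.{u}}

theorem isFpqcCover_of_isFppfCover {ι : Type u} {Y : AlgSp.Sp S} {Yi : ι → AlgSp.Sp S} {g : ∀ i, Yi i ⟶ Y}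
    (hY : AlgSp.IsAlgSpace Y) (hYi : ∀ i, AlgSp.IsAlgSpace (Yi i)) (h : AlgSp.IsFppfCover Yi g) :
    AlgSp.IsFpqcCover Yi g :=
  Groth.Agent.S10505.result ⟨Y, hY⟩ (fun i => ⟨Yi i, hYi i⟩) (fun i => ObjectProperty.homMk (g i)) h

theorem isLocalOnBase_of_fpqc {P : MorphismProperty (AlgSp.Sp S)}
    (h : AlgSp.IsLocalOnBase (AlgSp.IsFpqcCover (S := S)) P) : AlgSp.IsLocalOnBase AlgSp.IsFppfCover P := by
  intro ι Y Yi g hY hYi hg
  exact h Yi g hY hYi (isFpqcCover_of_isFppfCover hY hYi hg)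

/-- Stable under base change and composition, fppf local on the base. -/
structure Nice (P : MorphismProperty (AlgSp.Sp S)) : Prop where
  bc : StableBC P
  comp : StableComp P
  loc : AlgSp.IsLocalOnBase AlgSp.IsFppfCover P

theorem nice_locP {P : MorphismProperty Scheme.{u}} (hP : K597.EtLoc P) [P.IsStableUnderBaseChange]
    [P.IsStableUnderComposition] (h : AlgSp.IsLocalOnBase (AlgSp.IsFpqcCover (S := S)) (AlgSp.LocP P)) :
    Nice (S := S) (AlgSp.LocP P) where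
  bc X₁ Y₁ X₂ Y₂ h₁ h₂ h₃ h₄ a b a' b' sq h :=
    K597.locP_bc hP sq h₁.hasAtlas h₂.hasAtlas h₄.hasAtlas h
  comp X Y Z hX hY hZ a b ha hb := K597.locP_comp hP hX.hasAtlas hY.hasAtlas hZ.hasAtlas ha hb
  loc := isLocalOnBase_of_fpqc h

theorem nice_flat : Nice (S := S) (AlgSp.LocP @Flat) := nice_locP K597.etLoc_flat (K627.FpqcLocPInst.flat S)

theorem nice_lft : Nice (S := S) (AlgSp.LocP @LocallyOfFiniteType) :=
  nice_locP K597.etLoc_lft (K627.FpqcLocPInst.lft S)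

theorem nice_lfp : Nice (S := S) (AlgSp.LocP @LocallyOfFinitePresentation) :=
  nice_locP K597.etLoc_lfp (K627.FpqcLocPInst.lfp S)

theorem nice_smooth : Nice (S := S) (AlgSp.LocP @Smooth) := nice_locP K597.etLoc_smooth (K627.FpqcLocPInst.smooth S)

theorem nice_locP_etale : Nice (S := S) (AlgSp.LocP @Etale) :=
  nice_locP K597.etLoc_etale (K627.FpqcLocPInst.etale S)

/-- Only the values on morphisms of algebraic spaces matter. -/
theorem Nice.congr {P Q : MorphismProperty (AlgSp.Sp S)} (hP : Nice P)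
    (h : ∀ ⦃X Y : AlgSp.Sp S⦄, AlgSp.IsAlgSpace X → AlgSp.IsAlgSpace Y → ∀ a : X ⟶ Y, P a ↔ Q a) : Nice Q where
  bc X₁ Y₁ X₂ Y₂ h₁ h₂ h₃ h₄ a b a' b' sq hq :=
    (h h₃ h₄ a').1 (hP.bc h₁ h₂ h₃ h₄ a b a' b' sq ((h h₁ h₂ a).2 hq))
  comp X Y Z hX hY hZ a b ha hb :=
    (h hX hZ (a ≫ b)).1 (hP.comp hX hY hZ a b ((h hX hY a).2 ha) ((h hY hZ b).2 hb))
  loc ι Y Yi g hY hYi hg X f hX Xi p q hXi sq := by
    rw [← h hX hY f, hP.loc Yi g hY hYi hg f hX Xi p q hXi sq]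
    exact forall_congr' fun i => h (hXi i) (hYi i) (p i)

theorem nice_isEtaleMor : Nice (S := S) AlgSp.IsEtaleMor :=
  nice_locP_etale.congr (fun _ _ _ hY _ => ⟨K597.isEtaleMor_of_locP_etale K597.etLoc_etale hY,
    K597.locP_etale_of_isEtaleMor⟩)

theorem nice_surj : Nice (S := S) AlgSp.IsSurjectiveMor where
  bc X₁ Y₁ X₂ Y₂ h₁ h₂ h₃ h₄ a b a' b' sq h := K608.Field.isSurjectiveMor_of_isPullback sq.flip.flip h
  comp X Y Z hX hY hZ a b ha hb := K608.Field.isSurjectiveMor_comp ha hb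
  loc ι Y Yi g hY hYi hg X f hX Xi p q hXi sq := by
    constructor
    · intro h i
      exact K608.Field.isSurjectiveMor_of_isPullback (sq i) h
    · intro h y
      obtain ⟨i, z, hz⟩ := hg.2 y
      obtain ⟨x, hx⟩ := h i z
      refine ⟨AlgSp.Points.map (q i) x, ?_⟩
      rw [← AlgSp.Points.map_comp, (sq i).w, AlgSp.Points.map_comp, hx, hz]

theorem Nice.inf {P Q : MorphismProperty (AlgSp.Sp S)} (hP : Nice P) (hQ : Nice Q) : Nice (P ⊓ Q) where
  bc X₁ Y₁ X₂ Y₂ h₁ h₂ h₃ h₄ a b a' b' sq h :=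
    ⟨hP.bc h₁ h₂ h₃ h₄ a b a' b' sq h.1, hQ.bc h₁ h₂ h₃ h₄ a b a' b' sq h.2⟩
  comp X Y Z hX hY hZ a b ha hb := ⟨hP.comp hX hY hZ a b ha.1 hb.1, hQ.comp hX hY hZ a b ha.2 hb.2⟩
  loc ι Y Yi g hY hYi hg X f hX Xi p q hXi sq := by
    have h1 := hP.loc Yi g hY hYi hg f hX Xi p q hXi sq
    have h2 := hQ.loc Yi g hY hYi hg f hX Xi p q hXi sq
    constructor
    · intro h i
      exact ⟨h1.1 h.1 i, h2.1 h.2 i⟩
    · intro h
      exact ⟨h1.2 fun i => (h i).1, h2.2 fun i => (h i).2⟩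

theorem nice_top : Nice (S := S) (⊤ : MorphismProperty (AlgSp.Sp S)) where
  bc := fun _ _ _ _ _ _ _ _ _ _ _ _ _ _ => trivial
  comp := fun _ _ _ _ _ _ _ _ _ _ => trivial
  loc := fun _ _ _ _ _ _ _ _ _ _ _ _ _ _ _ => ⟨fun _ _ => trivial, fun _ => trivial⟩

theorem locP_smooth_of_isEtaleMor {X Y : AlgSp.Sp S} {f : X ⟶ Y} (h : AlgSp.IsEtaleMor f) :
    AlgSp.LocP @Smooth f := by
  intro U V a b g ha hb w
  have : Etale g.left := K597.locP_etale_of_isEtaleMor h a b g ha hb w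
  exact (inferInstance : Smooth g.left)

theorem isEtaleMor_of_repWith {X Y : AlgSp.Sp S} (hY : AlgSp.IsAlgSpace Y) {f : X ⟶ Y}
    (h : AlgSp.RepWith @Etale f) : AlgSp.IsEtaleMor f :=
  K597.isEtaleMor_of_locP_etale K597.etLoc_etale hY
    (K597.locP_of_repWith (fun A B C e f he hf => MorphismProperty.comp_mem _ _ _ he hf) h)

section Cat

variable {𝒳 𝒴 𝒵 : AlgSt.Cat S}

theorem Nice.repByAlgSpWith_comp {P : MorphismProperty (AlgSp.Sp S)} (hP : Nice P) (h𝒳 : FibCat.IsFibGrpd 𝒳.p)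
    (h𝒴 : FibCat.IsFibGrpd 𝒴.p) {𝒵 : BasedCategory.{v₄, u₄} (Over S)} {f : 𝒳 ⥤ᵇ 𝒴} {g : 𝒴 ⥤ᵇ 𝒵}
    (hf : AlgSt.RepByAlgSpWith P f) (hg : AlgSt.RepByAlgSpWith P g) :
    AlgSt.RepByAlgSpWith P (BasedFunctor.comp f g) :=
  K734.Rep.repByAlgSpWith_comp h𝒳 h𝒴 hP.bc hP.comp hP.loc hf hg

end Cat

end K734.Rep
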