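import Groth.Agent.AlgSt.K734.RepSp
import Groth.Agent.AlgSp.K629.Fppf
import Groth.Prelude.Def_AlgSt3
/-!
K734.RepSp2 : composition and fppf locality of representable 1-morphisms.

* `IsRep.comp'`, `repByAlgSpWith_comp` (S12780), `repByAlgSp1_comp`.
* `repByAlgSpWith_of_local` : property on a covering sieve; `repByAlgSpWith_of_fpFst` (S12781).
-/

set_option autoImplicit false
set_option backward.isDefEq.respectTransparency false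
set_option backward.isDefEq.respectTransparency.types false

universe w v₇ u₇ v₆ u₆ v₅ u₅ v₄ u₄ v₃ u₃ v₂ u₂ v u

open CategoryTheory CategoryTheory.Limits Opposite AlgebraicGeometry K734.Fib

namespace K734.Rep

variable {S : Scheme.{u}}

section Comp

variable {𝒳 : BasedCategory.{v₂, u₂} (Over S)} {𝒴 : BasedCategory.{v₃, u₃} (Over S)}
  {𝒵 : BasedCategory.{v₄, u₄} (Over S)}

/-- Representing sheaves of a composite. -/
theorem IsRep.comp' {f : 𝒳 ⥤ᵇ 𝒴} {g : 𝒴 ⥤ᵇ 𝒵} {F G H : AlgSp.Sp S} {z : AlgSt.ofSp H ⥤ᵇ 𝒵} {ρ : G ⟶ H}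
    {e : AlgSt.ofSp G ⥤ᵇ FibCat.fp z g} (he : FibCat.IsEquivOver e)
    (α : BasedFunctor.comp e (FibCat.fpFst z g) ≅ AlgSt.ofSpMap ρ) {π : F ⟶ G}
    (h : IsRep f (BasedFunctor.comp e (FibCat.fpSnd z g)) π) : IsRep (BasedFunctor.comp f g) z (π ≫ ρ) := by
  obtain ⟨e', he', ⟨β⟩⟩ := h
  refine ⟨BasedFunctor.comp (BasedFunctor.comp e' (fpPreL e (FibCat.fpSnd z g) f)) (fpComp z g f),
    isEquivOver_comp (isEquivOver_comp he' (isEquivOver_fpPreL e he _ f)) (isEquivOver_fpComp z g f), ⟨?_⟩⟩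
  have i1 : BasedFunctor.comp (BasedFunctor.comp e'
      (FibCat.fpFst (BasedFunctor.comp e (FibCat.fpSnd z g)) f)) (BasedFunctor.comp e (FibCat.fpFst z g)) ≅
      BasedFunctor.comp (AlgSt.ofSpMap π) (AlgSt.ofSpMap ρ) :=
    wr β (BasedFunctor.comp e (FibCat.fpFst z g)) ≪≫ wl (AlgSt.ofSpMap π) α
  exact i1

end Comp

section CompCat

variable {𝒳 𝒴 : AlgSt.Cat S} {𝒵 : BasedCategory.{v₄, u₄} (Over S)}

/-- Stability under composition for algebraic spaces. -/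
def StableComp (P : MorphismProperty (AlgSp.Sp S)) : Prop :=
  ∀ ⦃X Y Z : AlgSp.Sp S⦄, AlgSp.IsAlgSpace X → AlgSp.IsAlgSpace Y → AlgSp.IsAlgSpace Z →
      ∀ (a : X ⟶ Y) (b : Y ⟶ Z), P a → P b → P (a ≫ b)

/-- Composition of representable 1-morphisms with a property. -/
theorem repByAlgSpWith_comp (h𝒳 : FibCat.IsFibGrpd 𝒳.p) (h𝒴 : FibCat.IsFibGrpd 𝒴.p)
    {P : MorphismProperty (AlgSp.Sp S)} (hPb : StableBC P) (hPc : StableComp P)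
    (hP : AlgSp.IsLocalOnBase AlgSp.IsFppfCover P) {f : 𝒳 ⥤ᵇ 𝒴} {g : 𝒴 ⥤ᵇ 𝒵}
    (hf : AlgSt.RepByAlgSpWith P f) (hg : AlgSt.RepByAlgSpWith P g) :
    AlgSt.RepByAlgSpWith P (BasedFunctor.comp f g) := by
  rw [repByAlgSpWith_iff] at hg ⊢
  intro U z
  obtain ⟨G, ρ, hG, ⟨e, he, ⟨α⟩⟩, hρ⟩ := hg U z
  obtain ⟨F, π, hF, hπ⟩ := exists_isRep h𝒳 h𝒴 (K735.Rep.repByAlgSp1_of_with hf) hG
    (BasedFunctor.comp e (FibCat.fpSnd z g))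
  exact ⟨F, π ≫ ρ, hF, hπ.comp' he α, hPc hF hG (AlgSp.IsAlgSpace.yon_obj U) π ρ (hπ.prop hPb hP hf hG) hρ⟩

/-- Composition with a property `P` of `f` and `Q` of `g` giving `R`. -/
theorem repByAlgSpWith_comp_of (h𝒳 : FibCat.IsFibGrpd 𝒳.p) (h𝒴 : FibCat.IsFibGrpd 𝒴.p)
    {P Q R : MorphismProperty (AlgSp.Sp S)} (hPb : StableBC P)
    (hPQ : ∀ ⦃X Y Z : AlgSp.Sp S⦄, AlgSp.IsAlgSpace X → AlgSp.IsAlgSpace Y → AlgSp.IsAlgSpace Z →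
      ∀ (a : X ⟶ Y) (b : Y ⟶ Z), P a → Q b → R (a ≫ b))
    (hP : AlgSp.IsLocalOnBase AlgSp.IsFppfCover P) {f : 𝒳 ⥤ᵇ 𝒴} {g : 𝒴 ⥤ᵇ 𝒵}
    (hf : AlgSt.RepByAlgSpWith P f) (hg : AlgSt.RepByAlgSpWith Q g) :
    AlgSt.RepByAlgSpWith R (BasedFunctor.comp f g) := by
  rw [repByAlgSpWith_iff] at hg ⊢
  intro U z
  obtain ⟨G, ρ, hG, ⟨e, he, ⟨α⟩⟩, hρ⟩ := hg U z
  obtain ⟨F, π, hF, hπ⟩ := exists_isRep h𝒳 h𝒴 (K735.Rep.repByAlgSp1_of_with hf) hG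
    (BasedFunctor.comp e (FibCat.fpSnd z g))
  exact ⟨F, π ≫ ρ, hF, hπ.comp' he α, hPQ hF hG (AlgSp.IsAlgSpace.yon_obj U) π ρ (hπ.prop hPb hP hf hG) hρ⟩

theorem repByAlgSp1_comp (h𝒳 : FibCat.IsFibGrpd 𝒳.p) (h𝒴 : FibCat.IsFibGrpd 𝒴.p)
    {f : 𝒳 ⥤ᵇ 𝒴} {g : 𝒴 ⥤ᵇ 𝒵} (hf : AlgSt.RepByAlgSp1 f) (hg : AlgSt.RepByAlgSp1 g) :
    AlgSt.RepByAlgSp1 (BasedFunctor.comp f g) := by
  rw [repByAlgSp1_iff] at hg ⊢
  intro U z
  obtain ⟨G, ρ, hG, ⟨e, he, ⟨α⟩⟩⟩ := hg U z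
  obtain ⟨F, π, hF, hπ⟩ := exists_isRep h𝒳 h𝒴 hf hG (BasedFunctor.comp e (FibCat.fpSnd z g))
  exact ⟨F, π ≫ ρ, hF, hπ.comp' he α⟩

end CompCat

section Local

variable {𝒳 : BasedCategory.{v₂, u₂} (Over S)} {𝒴 : BasedCategory.{v₃, u₃} (Over S)}
  {𝒵 : BasedCategory.{v₄, u₄} (Over S)}

theorem stable_precomp_flat ⦃A B C : Scheme.{u}⦄ (e : A ⟶ B) (f : B ⟶ C) (he : Etale e) (hf : Flat f) :
    Flat (e ≫ f) := MorphismProperty.comp_mem _ _ _ (inferInstanceAs (Flat e)) hf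

theorem stable_precomp_lfp ⦃A B C : Scheme.{u}⦄ (e : A ⟶ B) (f : B ⟶ C) (he : Etale e)
    (hf : LocallyOfFinitePresentation f) : LocallyOfFinitePresentation (e ≫ f) :=
  MorphismProperty.comp_mem _ _ _ (inferInstanceAs (LocallyOfFinitePresentation e)) hf

/-- An fppf family of schemes gives an fppf covering of `h_U`. -/
theorem isFppfCover_family {U : Over S} {ι : Type u} (T : ι → Over S) (t : ∀ i, T i ⟶ U)
    (h1 : ∀ i, (@Flat ⊓ @LocallyOfFinitePresentation : MorphismProperty Scheme.{u}) (t i).left)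
    (h2 : ∀ v : ↥U.left, ∃ i, v ∈ Set.range (t i).left) :
    AlgSp.IsFppfCover (fun i => (AlgSp.yon S).obj (T i)) (fun i => (AlgSp.yon S).map (t i)) := by
  refine ⟨fun i => ⟨?_, ?_⟩, fun x => ?_⟩
  · exact K597.locP_of_repWith stable_precomp_flat ((AlgSp.repWith_yon_map_iff @Flat (t i)).2 (h1 i).1)
  · exact K597.locP_of_repWith stable_precomp_lfp
      ((AlgSp.repWith_yon_map_iff @LocallyOfFinitePresentation (t i)).2 (h1 i).2)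
  · obtain ⟨v, rfl⟩ := K609.Points.ofScheme_surjective U x
    obtain ⟨i, w, hw⟩ := h2 v
    exact ⟨i, AlgSp.Points.ofScheme (T i) w, by rw [K609.Points.map_yon_map_ofScheme, ← hw]⟩

/-- `P` may be checked on an fppf covering sieve of each test scheme. -/
theorem repByAlgSpWith_of_local {P : MorphismProperty (AlgSp.Sp S)} (hPb : StableBC P)
    (hP : AlgSp.IsLocalOnBase AlgSp.IsFppfCover P) {f : 𝒳 ⥤ᵇ 𝒴} (hf : AlgSt.RepByAlgSp1 f)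
    (H : ∀ (U : Over S) (y : AlgSt.ofSp ((AlgSp.yon S).obj U) ⥤ᵇ 𝒴), ∃ R ∈ (AlgSp.J S) U,
      ∀ ⦃V : Over S⦄ (h : V ⟶ U), R.arrows h → ∃ (F : AlgSp.Sp S) (π : F ⟶ (AlgSp.yon S).obj V),
        AlgSp.IsAlgSpace F ∧ IsRep f (BasedFunctor.comp (AlgSt.ofSpMap ((AlgSp.yon S).map h)) y) π ∧ P π) :
    AlgSt.RepByAlgSpWith P f := by
  have hR := hPb.respectsIso
  rw [repByAlgSpWith_iff]
  intro U y
  obtain ⟨F, π, hF, hπ⟩ := (repByAlgSp1_iff f).1 hf U y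
  refine ⟨F, π, hF, hπ, ?_⟩
  obtain ⟨R, hR', HR⟩ := H U y
  obtain ⟨ι, T, t, ht, h1, h2⟩ := K629.Fppf.exists_cover hR'
  have hU := AlgSp.IsAlgSpace.yon_obj U
  have key : ∀ i, algP P (pullback.snd π ((AlgSp.yon S).map (t i))) := by
    intro i
    obtain ⟨F', π', hF', h', hP'⟩ := HR (t i) (ht i)
    obtain ⟨e, he⟩ := h'.unique (hπ.baseChange (IsPullback.of_hasPullback π ((AlgSp.yon S).map (t i))))
    have h3 : algP P π' := ⟨hF', AlgSp.IsAlgSpace.yon_obj _, hP'⟩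
    rw [← he] at h3
    exact (MorphismProperty.cancel_left_of_respectsIso (algP P) e.hom _).1 h3
  exact (hP (fun i => (AlgSp.yon S).obj (T i)) (fun i => (AlgSp.yon S).map (t i)) hU
    (fun i => AlgSp.IsAlgSpace.yon_obj (T i)) (isFppfCover_family T t h1 h2) π hF
    (fun i => pullback π ((AlgSp.yon S).map (t i))) (fun i => pullback.snd π ((AlgSp.yon S).map (t i)))
    (fun i => pullback.fst π ((AlgSp.yon S).map (t i))) (fun i => (key i).1)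
    (fun i => IsPullback.of_hasPullback π ((AlgSp.yon S).map (t i)))).2 (fun i => (key i).2.2)

/-- Base change of a representing sheaf of `fpFst g f` along `z` is one of `f` along `z ⋙ g`. -/
theorem IsRep.of_fpFst {f : 𝒳 ⥤ᵇ 𝒴} {g : 𝒵 ⥤ᵇ 𝒴} {F G : AlgSp.Sp S} {z : AlgSt.ofSp G ⥤ᵇ 𝒵} {π : F ⟶ G}
    (h : IsRep (FibCat.fpFst g f) z π) : IsRep f (BasedFunctor.comp z g) π := by
  obtain ⟨e, he, ⟨α⟩⟩ := h
  obtain ⟨k, hk, -, ⟨β⟩⟩ := exists_inverse (isEquivOver_fpPaste z g f)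
  refine ⟨BasedFunctor.comp e k, isEquivOver_comp he hk, ⟨?_⟩⟩
  have i1 : BasedFunctor.comp e (BasedFunctor.comp (BasedFunctor.comp k (fpPaste z g f))
      (FibCat.fpFst z (FibCat.fpFst g f))) ≅ BasedFunctor.comp e (FibCat.fpFst z (FibCat.fpFst g f)) :=
    wl e (wr β (FibCat.fpFst z (FibCat.fpFst g f)))
  exact i1 ≪≫ α

theorem IsRep.fpFst {f : 𝒳 ⥤ᵇ 𝒴} {g : 𝒵 ⥤ᵇ 𝒴} {F G : AlgSp.Sp S} {z : AlgSt.ofSp G ⥤ᵇ 𝒵} {π : F ⟶ G}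
    (h : IsRep f (BasedFunctor.comp z g) π) : IsRep (FibCat.fpFst g f) z π := by
  obtain ⟨e, he, ⟨α⟩⟩ := h
  exact ⟨BasedFunctor.comp e (fpPaste z g f), isEquivOver_comp he (isEquivOver_fpPaste z g f), ⟨α⟩⟩

theorem isRep_fpFst_iff {f : 𝒳 ⥤ᵇ 𝒴} {g : 𝒵 ⥤ᵇ 𝒴} {F G : AlgSp.Sp S} {z : AlgSt.ofSp G ⥤ᵇ 𝒵} {π : F ⟶ G} :
    IsRep (FibCat.fpFst g f) z π ↔ IsRep f (BasedFunctor.comp z g) π := ⟨IsRep.of_fpFst, IsRep.fpFst⟩

/-- S12781, in terms of functors out of `ofSp h_U`. -/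
theorem repByAlgSpWith_of_fpFst {P : MorphismProperty (AlgSp.Sp S)} (hPb : StableBC P)
    (hP : AlgSp.IsLocalOnBase AlgSp.IsFppfCover P) {f : 𝒳 ⥤ᵇ 𝒴} (hf : AlgSt.RepByAlgSp1 f) (g : 𝒵 ⥤ᵇ 𝒴)
    (hg : ∀ (U : Over S) (y : FibCat.overCat U ⥤ᵇ 𝒴), ∃ R ∈ (AlgSp.J S) U,
      ∀ ⦃V : Over S⦄ (h : V ⟶ U), R.arrows h →
        ∃ z : FibCat.overCat V ⥤ᵇ 𝒵, Nonempty (BasedFunctor.comp z g ≅ BasedFunctor.comp (AlgSt.overMap h) y))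
    (h' : AlgSt.RepByAlgSpWith P (FibCat.fpFst g f)) : AlgSt.RepByAlgSpWith P f := by
  refine repByAlgSpWith_of_local hPb hP hf (fun U y => ?_)
  obtain ⟨R, hR, HR⟩ := hg U (BasedFunctor.comp (AlgSt.ofOverCat U) y)
  refine ⟨R, hR, fun V h hh => ?_⟩
  obtain ⟨z, ⟨i⟩⟩ := HR h hh
  obtain ⟨F, π, hF, hπ, hP'⟩ := (repByAlgSpWith_iff P _).1 h' V (BasedFunctor.comp (AlgSt.toOverCat V) z)
  refine ⟨F, π, hF, ?_, hP'⟩
  have j : BasedFunctor.comp (BasedFunctor.comp (AlgSt.toOverCat V) z) g ≅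
      BasedFunctor.comp (AlgSt.ofSpMap ((AlgSp.yon S).map h)) y := wl (AlgSt.toOverCat V) i
  exact (isRep_fpFst_iff.1 hπ).congr j

end Local

end K734.Rep
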