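import Groth.Agent.AlgSt.K734.Props
/-!
K734.Atlas : coverings by algebraic spaces give atlases by schemes.

* `Nice.repByAlgSpWith_ofSpMap` : `ofSpMap p` has `P` when `p` has.
* `hasAtlas_of_cover` : `u : 𝒰 ⥤ᵇ 𝒳` with `P` and surjective, `𝒰` an algebraic space, étale ⇒ `P`.
* `exists_scheme_cover` : a scheme with an étale surjective map to a category representable by an algebraic space.
-/

set_option autoImplicit false
set_option linter.unusedVariables false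
set_option backward.isDefEq.respectTransparency false
set_option backward.isDefEq.respectTransparency.types false

universe w v₇ u₇ v₆ u₆ v₅ u₅ v₄ u₄ v₃ u₃ v₂ u₂ v u

open CategoryTheory CategoryTheory.Limits Opposite AlgebraicGeometry K734.Fib

namespace K734.Rep

variable {S : Scheme.{u}}

theorem Nice.repByAlgSpWith_ofSpMap {P : MorphismProperty (AlgSp.Sp S)} (hP : Nice P) {F G : AlgSp.Sp S}
    (hF : AlgSp.IsAlgSpace F) (hG : AlgSp.IsAlgSpace G) {p : F ⟶ G} (hp : P p) :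
    AlgSt.RepByAlgSpWith P (AlgSt.ofSpMap p) := by
  rw [repByAlgSpWith_iff]
  intro U y
  obtain ⟨q, ⟨i⟩⟩ := exists_ofSpMap y
  have sq := IsPullback.of_hasPullback p q
  have hA : AlgSp.IsAlgSpace (pullback p q) :=
    K594.Fib.isAlgSpace_of_isPullback hG.diag hF (AlgSp.IsAlgSpace.yon_obj U) sq
  exact ⟨pullback p q, pullback.snd p q, hA, (isRep_ofSpMap sq).congr i.symm,
    hP.bc hF hG hA (AlgSp.IsAlgSpace.yon_obj U) p q _ _ sq hp⟩

section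

variable {𝒳 : BasedCategory.{v₂, u₂} (Over S)} {𝒴 : BasedCategory.{v₃, u₃} (Over S)}
  {𝒵 : BasedCategory.{v₄, u₄} (Over S)}

theorem repByAlgSpWith_precomp_iff {P : MorphismProperty (AlgSp.Sp S)} {e : 𝒵 ⥤ᵇ 𝒳} (he : FibCat.IsEquivOver e)
    (f : 𝒳 ⥤ᵇ 𝒴) : AlgSt.RepByAlgSpWith P (BasedFunctor.comp e f) ↔ AlgSt.RepByAlgSpWith P f :=
  (K735.Rep.repByAlgSpWith_iff_of_sq P f (BasedFunctor.comp e f) e (BasedFunctor.id _) he (isEquivOver_refl _)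
    (Iso.refl _)).symm

theorem repByAlgSpWith_postcomp_iff {P : MorphismProperty (AlgSp.Sp S)} (f : 𝒳 ⥤ᵇ 𝒴) {e : 𝒴 ⥤ᵇ 𝒵}
    (he : FibCat.IsEquivOver e) :
    AlgSt.RepByAlgSpWith P (BasedFunctor.comp f e) ↔ AlgSt.RepByAlgSpWith P f :=
  K735.Rep.repByAlgSpWith_iff_of_sq P (BasedFunctor.comp f e) f (BasedFunctor.id _) e (isEquivOver_refl _) he
    (Iso.refl _)

theorem repByAlgSpWith_iff_of_iso {P : MorphismProperty (AlgSp.Sp S)} {f g : 𝒳 ⥤ᵇ 𝒴} (e : f ≅ g) :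
    AlgSt.RepByAlgSpWith P f ↔ AlgSt.RepByAlgSpWith P g :=
  ⟨K735.Rep.repByAlgSpWith_of_iso P e, K735.Rep.repByAlgSpWith_of_iso P e.symm⟩

end

/-- A scheme with a surjective étale map to a category representable by an algebraic space; any nice property implied
by étale can be used. -/
theorem exists_scheme_cover {𝒰 : BasedCategory.{v₂, u₂} (Over S)} (hU : AlgSt.RepByAlgSp 𝒰) :
    ∃ (U : Over S) (x : FibCat.overCat U ⥤ᵇ 𝒰), ∀ P : MorphismProperty (AlgSp.Sp S), Nice P →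
      (∀ ⦃X Y : AlgSp.Sp S⦄, AlgSp.IsAlgSpace X → AlgSp.IsAlgSpace Y → ∀ a : X ⟶ Y, AlgSp.RepWith @Etale a →
        AlgSp.RepWith @Surjective a → P a) → AlgSt.RepByAlgSpWith P x := by
  obtain ⟨F, e, he⟩ := hU
  obtain ⟨U, p, hp, hp'⟩ := F.property.atlas
  refine ⟨U, BasedFunctor.comp (AlgSt.ofOverCat U) (BasedFunctor.comp (AlgSt.ofSpMap p) e), fun P hP hPe => ?_⟩
  rw [repByAlgSpWith_precomp_iff (K735.Rep.isEquivOver_ofOverCat U), repByAlgSpWith_postcomp_iff _ he]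
  exact hP.repByAlgSpWith_ofSpMap (AlgSp.IsAlgSpace.yon_obj U) F.property
    (hPe (AlgSp.IsAlgSpace.yon_obj U) F.property p hp hp')

theorem surj_of_repWith ⦃X Y : AlgSp.Sp S⦄ (_ : AlgSp.IsAlgSpace X) (_ : AlgSp.IsAlgSpace Y) (a : X ⟶ Y)
    (_ : AlgSp.RepWith @Etale a) (h : AlgSp.RepWith @Surjective a) : AlgSp.IsSurjectiveMor a :=
  K609.Points.surjective_map_of_repWith_surjective h

section Cat

variable {𝒳 𝒴 𝒰 : AlgSt.Cat S}

/-- A covering by an algebraic space gives an atlas. -/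
theorem hasAtlas_of_cover {P : MorphismProperty (AlgSp.Sp S)} (hP : Nice P)
    (hPe : ∀ ⦃X Y : AlgSp.Sp S⦄ (a : X ⟶ Y), AlgSp.IsEtaleMor a → P a)
    (h𝒰 : FibCat.IsFibGrpd 𝒰.p) (hU : AlgSt.RepByAlgSp 𝒰) (u : 𝒰 ⥤ᵇ 𝒳) (hu : AlgSt.RepByAlgSpWith P u)
    (hs : AlgSt.RepByAlgSpWith AlgSp.IsSurjectiveMor u) : AlgSt.HasAtlas P 𝒳 := by
  obtain ⟨U, x, hx⟩ := exists_scheme_cover hU
  refine ⟨U, BasedFunctor.comp x u, ?_, ?_⟩
  · exact hP.repByAlgSpWith_comp (isFibGrpd_overCat U) h𝒰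
      (hx P hP (fun X Y hX hY a ha _ => hPe a (isEtaleMor_of_repWith hY ha))) hu
  · exact nice_surj.repByAlgSpWith_comp (isFibGrpd_overCat U) h𝒰 (hx _ nice_surj surj_of_repWith) hs

theorem hasAtlas_smooth_of_cover (h𝒰 : FibCat.IsFibGrpd 𝒰.p) (hU : AlgSt.RepByAlgSp 𝒰) (u : 𝒰 ⥤ᵇ 𝒳)
    (hu : AlgSt.RepByAlgSpWith (AlgSp.LocP @Smooth) u)
    (hs : AlgSt.RepByAlgSpWith AlgSp.IsSurjectiveMor u) : AlgSt.HasAtlas (AlgSp.LocP @Smooth) 𝒳 :=
  hasAtlas_of_cover nice_smooth (fun _ _ _ h => locP_smooth_of_isEtaleMor h) h𝒰 hU u hu hs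

theorem hasAtlas_etale_of_cover (h𝒰 : FibCat.IsFibGrpd 𝒰.p) (hU : AlgSt.RepByAlgSp 𝒰) (u : 𝒰 ⥤ᵇ 𝒳)
    (hu : AlgSt.RepByAlgSpWith AlgSp.IsEtaleMor u)
    (hs : AlgSt.RepByAlgSpWith AlgSp.IsSurjectiveMor u) : AlgSt.HasAtlas AlgSp.IsEtaleMor 𝒳 :=
  hasAtlas_of_cover nice_isEtaleMor (fun _ _ _ h => h) h𝒰 hU u hu hs

end Cat

end K734.Rep
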