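import Groth.Agent.AlgSt.K734.FpAlg
import Groth.Agent.AlgSt.K740.Inv
import Groth.Agent.S12796
/-!
K734.DMSp : algebraic spaces are Deligne-Mumford stacks (S12772); charts of morphisms (S12773).
-/

set_option autoImplicit false
set_option linter.unusedVariables false
set_option backward.isDefEq.respectTransparency false
set_option backward.isDefEq.respectTransparency.types false

universe w₁ v₁ w' v' w v₇ u₇ v₆ u₆ v₅ u₅ v₄ u₄ v₃ u₃ v₂ u₂ v u

open CategoryTheory CategoryTheory.Limits Opposite AlgebraicGeometry K734.Fib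

namespace K734.Rep

variable {S : Scheme.{u}}

section

variable {𝒳 𝒴 𝒵 : AlgSt.Cat S}

theorem isStack_ofSp (F : AlgSp.Sp S) : Stk.IsStack (QuotSh.J Scheme.fppfPrecoverage S) (AlgSt.ofSp F) := by
  have h := F.property
  have h1 : Presieve.IsSheaf (AlgSp.J S) F.obj := (isSheaf_iff_isSheaf_of_type _ _).1 h
  exact (Groth.Agent.S12796.result (QuotSh.J Scheme.fppfPrecoverage S) F.obj).2 h1

theorem isStack_of_repByAlgSp (hr : AlgSt.RepByAlgSp 𝒳) :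
    Stk.IsStack (QuotSh.J Scheme.fppfPrecoverage S) 𝒳 := by
  obtain ⟨F, e, he⟩ := hr
  exact (K751.Inv.isStack_iff_of_isEquivOver he).1 (isStack_ofSp F.obj)

/-- The diagonal over the base of a category representable by an algebraic space. -/
theorem repByAlgSp1_diag_of_repByAlgSp (h𝒳 : FibCat.IsFibGrpd 𝒳.p) (hr : AlgSt.RepByAlgSp 𝒳) :
    AlgSt.RepByAlgSp1 (FibCat.diag (FibCat.toSelf 𝒳)) := by
  rw [K740.DiagRep.repByAlgSp1_diag_iff h𝒳]
  intro U x V y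
  exact K740.DiagRep.repByAlgSp_fp y x (K735.Rep.repByAlgSp_overCat V) (K735.Rep.repByAlgSp_overCat U) hr

theorem hasAtlas_of_repByAlgSp {P : MorphismProperty (AlgSp.Sp S)} (hP : Nice P)
    (hPe : ∀ ⦃X Y : AlgSp.Sp S⦄ (a : X ⟶ Y), AlgSp.IsEtaleMor a → P a) (hr : AlgSt.RepByAlgSp 𝒳) :
    AlgSt.HasAtlas P 𝒳 := by
  obtain ⟨U, x, hx⟩ := exists_scheme_cover hr
  exact ⟨U, x, hx P hP (fun X Y hX hY a ha _ => hPe a (isEtaleMor_of_repWith hY ha)),
    hx _ nice_surj surj_of_repWith⟩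

/-- S12772. -/
theorem isDM_of_repByAlgSp (hr : AlgSt.RepByAlgSp 𝒳) : AlgSt.IsDM Scheme.fppfPrecoverage 𝒳 :=
  ⟨⟨isStack_of_repByAlgSp hr, repByAlgSp1_diag_of_repByAlgSp (isStack_of_repByAlgSp hr).1 hr,
    hasAtlas_of_repByAlgSp nice_smooth (fun _ _ _ h => locP_smooth_of_isEtaleMor h) hr⟩,
    hasAtlas_of_repByAlgSp nice_isEtaleMor (fun _ _ _ h => h) hr⟩

/-- Charts of a morphism: a smooth surjective chart of the source over a given one of the target (S12773); `P` nice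
and implied by étale. -/
theorem exists_chart_over {P : MorphismProperty (AlgSp.Sp S)} (hP : Nice P)
    (hPe : ∀ ⦃X Y : AlgSp.Sp S⦄ (a : X ⟶ Y), AlgSp.IsEtaleMor a → P a)
    (h𝒳 : FibCat.IsFibGrpd 𝒳.p) (h𝒴 : FibCat.IsFibGrpd 𝒴.p)
    (hΔ : AlgSt.RepByAlgSp1 (FibCat.diag (FibCat.toSelf 𝒴))) (hX : AlgSt.HasAtlas P 𝒳) (f : 𝒳 ⥤ᵇ 𝒴) (V : Over S)
    (y : FibCat.overCat V ⥤ᵇ 𝒴) (hy : AlgSt.RepByAlgSpWith P y)
    (hy' : AlgSt.RepByAlgSpWith AlgSp.IsSurjectiveMor y) :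
    ∃ (U : Over S) (a : U ⟶ V) (x : FibCat.overCat U ⥤ᵇ 𝒳),
      AlgSt.RepByAlgSpWith P x ∧ AlgSt.RepByAlgSpWith AlgSp.IsSurjectiveMor x ∧
        Nonempty (BasedFunctor.comp x f ≅ BasedFunctor.comp (AlgSt.overMap a) y) := by
  obtain ⟨W, x₀, h₀, h₀'⟩ := hX
  have hV := isFibGrpd_overCat (C := Over S) V
  have hW := isFibGrpd_overCat (C := Over S) W
  have h𝒫 : FibCat.IsFibGrpd (FibCat.fp (BasedFunctor.comp x₀ f) y).p := isFibGrpd_fp _ _ hW hV h𝒴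
  obtain ⟨U, c, hc⟩ := exists_scheme_cover (K740.DiagRep.repByAlgSp_fp_of_diag h𝒴 hΔ hW hV (BasedFunctor.comp x₀ f) y
    (K735.Rep.repByAlgSp_overCat W) (K735.Rep.repByAlgSp_overCat V))
  have hU := isFibGrpd_overCat (C := Over S) U
  obtain ⟨j⟩ := nonempty_iso_overMap (BasedFunctor.comp c (FibCat.fpSnd (BasedFunctor.comp x₀ f) y))
  refine ⟨U, overFun (BasedFunctor.comp c (FibCat.fpSnd (BasedFunctor.comp x₀ f) y)), BasedFunctor.comp c (BasedFunctor.comp (FibCat.fpFst (BasedFunctor.comp x₀ f) y) x₀), ?_, ?_, ⟨?_⟩⟩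
  · exact hP.repByAlgSpWith_comp hU h𝒫
      (hc P hP (fun X Y hX hY a ha _ => hPe a (isEtaleMor_of_repWith hY ha)))
      (hP.repByAlgSpWith_comp h𝒫 hW (repByAlgSpWith_fpFst P y (BasedFunctor.comp x₀ f) hy) h₀)
  · exact nice_surj.repByAlgSpWith_comp hU h𝒫 (hc _ nice_surj surj_of_repWith)
      (nice_surj.repByAlgSpWith_comp h𝒫 hW (repByAlgSpWith_fpFst _ y (BasedFunctor.comp x₀ f) hy') h₀')
  · exact (wl c (FibCat.fpIso (BasedFunctor.comp x₀ f) y) :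
      BasedFunctor.comp c (BasedFunctor.comp (FibCat.fpFst (BasedFunctor.comp x₀ f) y) (BasedFunctor.comp x₀ f)) ≅
        BasedFunctor.comp c (BasedFunctor.comp (FibCat.fpSnd (BasedFunctor.comp x₀ f) y) y)) ≪≫ wr j y

end

end K734.Rep
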