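import Groth.Agent.AlgSt.K739.Diag
import Groth.Agent.AlgSt.K734.Atlas
/-!
K734.FpDiag : the diagonal of a 2-fibre product.

* `selfIso` : any two functors become isomorphic over the base, `self_comp` : uniqueness.
* `repByAlgSp1_diag_iff` : Isom presheaves of `toSelf 𝒳` are algebraic spaces.
* `isPullback_fp` : `Isom_{𝒳 ×_𝒵 𝒴} = Isom_𝒳 ×_{Isom_𝒵} Isom_𝒴`.
-/

set_option autoImplicit false
set_option linter.unusedVariables false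
set_option backward.isDefEq.respectTransparency false
set_option backward.isDefEq.respectTransparency.types false

universe w₁ v₁ w' v' w v₇ u₇ v₆ u₆ v₅ u₅ v₄ u₄ v₃ u₃ v₂ u₂ v u

open CategoryTheory CategoryTheory.Limits Opposite AlgebraicGeometry K734.Fib

namespace K734.FpDiag

open K739.Isom K739.Diag K739.Rep

variable {S : Scheme.{u}}

section Self

variable {C : Type u} [Category.{v} C] {𝒜 : BasedCategory.{v₂, u₂} C} {𝒳 : BasedCategory.{v₃, u₃} C}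

theorem self_vert_eq {a b : (FibCat.selfOver C).obj} {φ ψ : a ⟶ b} (h : IsVert (FibCat.selfOver C) φ)
    (h' : IsVert (FibCat.selfOver C) ψ) : φ = ψ :=
  h.map_eq.trans h'.map_eq.symm

/-- Any two functors become isomorphic over the base. -/
def selfIso (F G : 𝒜 ⥤ᵇ 𝒳) : BasedFunctor.comp F (FibCat.toSelf 𝒳) ≅ BasedFunctor.comp G (FibCat.toSelf 𝒳) :=
  mkIso (fun a => eqToIso ((F.w_obj a).trans (G.w_obj a).symm)) (fun a => isVert_iff.2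
      ⟨(F.w_obj a).trans (G.w_obj a).symm, by
        rw [eqToIso.hom]
        rfl⟩) (fun {a b} m => by
    have e1 := IsHomLift.fac' 𝒳.p (𝒜.p.map m) (F.map m)
    have e2 := IsHomLift.fac' 𝒳.p (𝒜.p.map m) (G.map m)
    rw [eqToIso.hom, eqToIso.hom]
    have h1 : (BasedFunctor.comp F (FibCat.toSelf 𝒳)).map m = 𝒳.p.map (F.map m) := rfl
    have h2 : (BasedFunctor.comp G (FibCat.toSelf 𝒳)).map m = 𝒳.p.map (G.map m) := rfl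
    rw [h1, h2, e1, e2]
    simp)

theorem self_comp {F G : 𝒜 ⥤ᵇ 𝒳} (φ : BasedFunctor.comp F (FibCat.toSelf 𝒳) ≅ BasedFunctor.comp G (FibCat.toSelf 𝒳))
    (a : 𝒜.obj) {ψ : F.obj a ⟶ G.obj a} (h : IsVert 𝒳 ψ) :
    (FibCat.toSelf 𝒳).map ψ = φ.hom.toNatTrans.app a :=
  self_vert_eq (h.map (FibCat.toSelf 𝒳)) (app_vert φ a)

end Self

section SelfPsh

variable {𝒳 : BasedCategory.{u, w} (Over S)} {U : Over S} {x₁ x₂ : FibCat.overCat U ⥤ᵇ 𝒳}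
  {φ : BasedFunctor.comp x₁ (FibCat.toSelf 𝒳) ≅ BasedFunctor.comp x₂ (FibCat.toSelf 𝒳)}

/-- Sections of the Isom presheaf of `toSelf`. -/
def mkSec {T : Over S} (u : T ⟶ U) (ψ : x₁.obj (pt u) ⟶ x₂.obj (pt u)) (h : IsVert 𝒳 ψ) :
    Sec (FibCat.toSelf 𝒳) x₁ x₂ φ T where
  u := u
  ψ := ψ
  lift := h.lift (x₁.w_obj (pt u))
  comp := self_comp φ (pt u) h

theorem sec_vert {T : Over S} (s : Sec (FibCat.toSelf 𝒳) x₁ x₂ φ T) : IsVert 𝒳 s.ψ := IsVert.of_lift s.lift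

theorem repPsh_top_iff {G : AlgSp.PSp S} (q : G ⟶ (AlgSp.pyon S).obj U) : RepPsh ⊤ q ↔ AlgSp.IsAlgSpaceP G := by
  constructor
  · intro h
    exact h.isAlgSpaceP
  · rintro ⟨h, hA⟩
    exact repPsh_of q h hA trivial

theorem repByAlgSp1_diag_iff {𝒴 : BasedCategory.{v', w'} (Over S)} (f : 𝒳 ⥤ᵇ 𝒴)
    (h𝒳 : FibCat.IsFibGrpd 𝒳.p) (h𝒴 : FibCat.IsFibGrpd 𝒴.p) :
    AlgSt.RepByAlgSp1 (FibCat.diag f) ↔ ∀ (U : Over S) (x₁ x₂ : FibCat.overCat U ⥤ᵇ 𝒳)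
      (φ : BasedFunctor.comp x₁ f ≅ BasedFunctor.comp x₂ f), AlgSp.IsAlgSpaceP (psh f x₁ x₂ φ h𝒳 h𝒴) := by
  rw [K735.Rep.repByAlgSp1_iff_top, repByAlgSpWith_diag_iff ⊤ f h𝒳 h𝒴]
  simp only [repPsh_top_iff]

end SelfPsh

section Fp

variable {𝒳 : BasedCategory.{u, w} (Over S)} {𝒴 : BasedCategory.{u, w₁} (Over S)}
  {𝒵 : BasedCategory.{u, w'} (Over S)} (f : 𝒳 ⥤ᵇ 𝒵) (g : 𝒴 ⥤ᵇ 𝒵) {U : Over S}
  (z₁ z₂ : FibCat.overCat U ⥤ᵇ FibCat.fp f g)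
  (φ : BasedFunctor.comp z₁ (FibCat.toSelf (FibCat.fp f g)) ≅ BasedFunctor.comp z₂ (FibCat.toSelf (FibCat.fp f g)))
  (h𝒳 : FibCat.IsFibGrpd 𝒳.p) (h𝒴 : FibCat.IsFibGrpd 𝒴.p) (h𝒵 : FibCat.IsFibGrpd 𝒵.p)
  (h𝒫 : FibCat.IsFibGrpd (FibCat.fp f g).p) (hS : FibCat.IsFibGrpd (FibCat.selfOver (Over S)).p)
  (φX : BasedFunctor.comp (BasedFunctor.comp z₁ (FibCat.fpFst f g)) (FibCat.toSelf 𝒳) ≅
    BasedFunctor.comp (BasedFunctor.comp z₂ (FibCat.fpFst f g)) (FibCat.toSelf 𝒳))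
  (φY : BasedFunctor.comp (BasedFunctor.comp z₁ (FibCat.fpSnd f g)) (FibCat.toSelf 𝒴) ≅
    BasedFunctor.comp (BasedFunctor.comp z₂ (FibCat.fpSnd f g)) (FibCat.toSelf 𝒴))
  (φZ : BasedFunctor.comp (BasedFunctor.comp (BasedFunctor.comp z₁ (FibCat.fpFst f g)) f) (FibCat.toSelf 𝒵) ≅
    BasedFunctor.comp (BasedFunctor.comp (BasedFunctor.comp z₂ (FibCat.fpSnd f g)) g) (FibCat.toSelf 𝒵))

/-- First component. -/
noncomputable def mX : psh (FibCat.toSelf (FibCat.fp f g)) z₁ z₂ φ h𝒫 hS ⟶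
    psh (FibCat.toSelf 𝒳) (BasedFunctor.comp z₁ (FibCat.fpFst f g)) (BasedFunctor.comp z₂ (FibCat.fpFst f g)) φX
      h𝒳 hS :=
  homOf _ _ _ _ (fun T s => mkSec s.u s.ψ.hom.fst ((sec_vert s).map (FibCat.fpFst f g)))
    (fun T T' t s s' h => by
      obtain ⟨h1, h2⟩ := h
      exact ⟨h1, congrArg (fun m => m.hom.fst) h2⟩)

/-- Second component. -/
noncomputable def mY : psh (FibCat.toSelf (FibCat.fp f g)) z₁ z₂ φ h𝒫 hS ⟶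
    psh (FibCat.toSelf 𝒴) (BasedFunctor.comp z₁ (FibCat.fpSnd f g)) (BasedFunctor.comp z₂ (FibCat.fpSnd f g)) φY
      h𝒴 hS :=
  homOf _ _ _ _ (fun T s => mkSec s.u s.ψ.hom.snd ((sec_vert s).map (FibCat.fpSnd f g)))
    (fun T T' t s s' h => by
      obtain ⟨h1, h2⟩ := h
      exact ⟨h1, congrArg (fun m => m.hom.snd) h2⟩)

/-- `a ↦ f a ≫ iso₂`. -/
noncomputable def nX : psh (FibCat.toSelf 𝒳) (BasedFunctor.comp z₁ (FibCat.fpFst f g))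
      (BasedFunctor.comp z₂ (FibCat.fpFst f g)) φX h𝒳 hS ⟶
    psh (FibCat.toSelf 𝒵) (BasedFunctor.comp (BasedFunctor.comp z₁ (FibCat.fpFst f g)) f)
      (BasedFunctor.comp (BasedFunctor.comp z₂ (FibCat.fpSnd f g)) g) φZ h𝒵 hS :=
  homOf _ _ _ _ (fun T s => mkSec s.u (f.map s.ψ ≫ (z₂.obj (pt s.u)).obj.iso.hom)
      (((sec_vert s).map f).comp (app_vert (FibCat.fpIso f g) (z₂.obj (pt s.u)))))
    (fun T T' t s s' h => by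
      obtain ⟨h1, h2⟩ := h
      refine ⟨h1, ?_⟩
      have e1 := congrArg (fun m => f.map m) h2
      have e2 : f.map (z₂.map (arr t h1)).hom.fst ≫ (z₂.obj (pt s.u)).obj.iso.hom =
        (z₂.obj (pt s'.u)).obj.iso.hom ≫ g.map (z₂.map (arr t h1)).hom.snd := (z₂.map (arr t h1)).hom.w
      change f.map (z₁.map (arr t h1)).hom.fst ≫ f.map s.ψ ≫ (z₂.obj (pt s.u)).obj.iso.hom =
        (f.map s'.ψ ≫ (z₂.obj (pt s'.u)).obj.iso.hom) ≫ g.map (z₂.map (arr t h1)).hom.snd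
      change f.map ((z₁.map (arr t h1)).hom.fst ≫ s.ψ) = f.map (s'.ψ ≫ (z₂.map (arr t h1)).hom.fst) at e1
      rw [Functor.map_comp, Functor.map_comp] at e1
      rw [← Category.assoc, e1, Category.assoc, e2, Category.assoc])

/-- `b ↦ iso₁ ≫ g b`. -/
noncomputable def nY : psh (FibCat.toSelf 𝒴) (BasedFunctor.comp z₁ (FibCat.fpSnd f g))
      (BasedFunctor.comp z₂ (FibCat.fpSnd f g)) φY h𝒴 hS ⟶
    psh (FibCat.toSelf 𝒵) (BasedFunctor.comp (BasedFunctor.comp z₁ (FibCat.fpFst f g)) f)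
      (BasedFunctor.comp (BasedFunctor.comp z₂ (FibCat.fpSnd f g)) g) φZ h𝒵 hS :=
  homOf _ _ _ _ (fun T s => mkSec s.u ((z₁.obj (pt s.u)).obj.iso.hom ≫ g.map s.ψ)
      ((app_vert (FibCat.fpIso f g) (z₁.obj (pt s.u))).comp ((sec_vert s).map g)))
    (fun T T' t s s' h => by
      obtain ⟨h1, h2⟩ := h
      refine ⟨h1, ?_⟩
      have e1 := congrArg (fun m => g.map m) h2
      have e2 : f.map (z₁.map (arr t h1)).hom.fst ≫ (z₁.obj (pt s.u)).obj.iso.hom =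
        (z₁.obj (pt s'.u)).obj.iso.hom ≫ g.map (z₁.map (arr t h1)).hom.snd := (z₁.map (arr t h1)).hom.w
      change f.map (z₁.map (arr t h1)).hom.fst ≫ (z₁.obj (pt s.u)).obj.iso.hom ≫ g.map s.ψ =
        ((z₁.obj (pt s'.u)).obj.iso.hom ≫ g.map s'.ψ) ≫ g.map (z₂.map (arr t h1)).hom.snd
      change g.map ((z₁.map (arr t h1)).hom.snd ≫ s.ψ) = g.map (s'.ψ ≫ (z₂.map (arr t h1)).hom.snd) at e1
      rw [Functor.map_comp, Functor.map_comp] at e1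
      rw [← Category.assoc, e2, Category.assoc, e1, Category.assoc])

/-- `Isom_{𝒳 ×_𝒵 𝒴} = Isom_𝒳 ×_{Isom_𝒵} Isom_𝒴`. -/
theorem isPullback_fp : IsPullback (mX f g z₁ z₂ φ h𝒳 h𝒫 hS φX) (mY f g z₁ z₂ φ h𝒴 h𝒫 hS φY)
    (nX f g z₁ z₂ h𝒳 h𝒵 hS φX φZ) (nY f g z₁ z₂ h𝒴 h𝒵 hS φY φZ) := by
  apply isPullback_psh
  · rintro T s
    exact sec_ext s.ψ.hom.w
  · rintro T ⟨u, ψ, hl, hc⟩ ⟨u', ψ', hl', hc'⟩ h1 h2
    injection h1 with h3 h4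
    injection h2 with h5 h6
    subst h3
    refine sec_ext ?_
    exact homFp_ext (eq_of_heq h4) (eq_of_heq h6)
  · rintro T ⟨u, ψ, hl, hc⟩ ⟨u', ψ', hl', hc'⟩ h
    injection h with h3 h4
    subst h3
    have h5 : f.map ψ ≫ (z₂.obj (pt u)).obj.iso.hom = (z₁.obj (pt u)).obj.iso.hom ≫ g.map ψ' := eq_of_heq h4
    let m : z₁.obj (pt u) ⟶ z₂.obj (pt u) := mkHomFp ψ ψ' h5
    have hm : IsVert (FibCat.fp f g) m := IsVert.of_map (FibCat.fpFst f g) (φ := m) (IsVert.of_lift hl)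
    exact ⟨mkSec u m hm, rfl, rfl⟩

end Fp

section Main

theorem isAlgSpaceP_of_isPullback {A B C D : AlgSp.PSp S} {t : A ⟶ B} {l : A ⟶ C} {r : B ⟶ D} {b : C ⟶ D}
    (sq : IsPullback t l r b) (hB : AlgSp.IsAlgSpaceP B) (hC : AlgSp.IsAlgSpaceP C) (hD : AlgSp.IsAlgSpaceP D) :
    AlgSp.IsAlgSpaceP A := by
  obtain ⟨hB₁, hB₂⟩ := hB
  obtain ⟨hC₁, hC₂⟩ := hC
  obtain ⟨hD₁, hD₂⟩ := hD
  have hA : Presheaf.IsSheaf (AlgSp.J S) A :=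
    AlgSp.isSheaf_of_isPullback (F := ⟨B, hB₁⟩) (G := ⟨D, hD₁⟩) (H := ⟨C, hC₁⟩) sq
  refine ⟨hA, ?_⟩
  have sq' : IsPullback (ObjectProperty.homMk t : (⟨A, hA⟩ : AlgSp.Sp S) ⟶ ⟨B, hB₁⟩)
      (ObjectProperty.homMk l : (⟨A, hA⟩ : AlgSp.Sp S) ⟶ ⟨C, hC₁⟩)
      (ObjectProperty.homMk r : (⟨B, hB₁⟩ : AlgSp.Sp S) ⟶ ⟨D, hD₁⟩)
      (ObjectProperty.homMk b : (⟨C, hC₁⟩ : AlgSp.Sp S) ⟶ ⟨D, hD₁⟩) :=
    IsPullback.of_map (sheafToPresheaf (AlgSp.J S) (Type (u + 1))) (ObjectProperty.hom_ext _ sq.w) sq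
  exact K594.Fib.isAlgSpace_of_isPullback hD₂.diag hB₂ hC₂ sq'

variable {𝒳 : BasedCategory.{u, w} (Over S)} {𝒴 : BasedCategory.{u, w₁} (Over S)}
  {𝒵 : BasedCategory.{u, w'} (Over S)} (f : 𝒳 ⥤ᵇ 𝒵) (g : 𝒴 ⥤ᵇ 𝒵)

/-- The diagonal of a 2-fibre product. -/
theorem repByAlgSp1_diag_fp (h𝒳 : FibCat.IsFibGrpd 𝒳.p) (h𝒴 : FibCat.IsFibGrpd 𝒴.p) (h𝒵 : FibCat.IsFibGrpd 𝒵.p)
    (hX : AlgSt.RepByAlgSp1 (FibCat.diag (FibCat.toSelf 𝒳)))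
    (hY : AlgSt.RepByAlgSp1 (FibCat.diag (FibCat.toSelf 𝒴)))
    (hZ : AlgSt.RepByAlgSp1 (FibCat.diag (FibCat.toSelf 𝒵))) :
    AlgSt.RepByAlgSp1 (FibCat.diag (FibCat.toSelf (FibCat.fp f g))) := by
  have h𝒫 := isFibGrpd_fp f g h𝒳 h𝒴 h𝒵
  have hS : FibCat.IsFibGrpd (FibCat.selfOver (Over S)).p := K735.Fp.isFibGrpd_selfOver
  rw [repByAlgSp1_diag_iff _ h𝒳 hS] at hX
  rw [repByAlgSp1_diag_iff _ h𝒴 hS] at hY
  rw [repByAlgSp1_diag_iff _ h𝒵 hS] at hZ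
  rw [repByAlgSp1_diag_iff _ h𝒫 hS]
  intro U z₁ z₂ φ
  exact isAlgSpaceP_of_isPullback (isPullback_fp f g z₁ z₂ φ h𝒳 h𝒴 h𝒵 h𝒫 hS (selfIso _ _) (selfIso _ _)
    (selfIso _ _)) (hX U _ _ _) (hY U _ _ _) (hZ U _ _ _)

end Main

end K734.FpDiag
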