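import Groth.Agent.AlgSt.K734.FibFp
/-!
K734.Grpd : categories fibred in groupoids, elementary calculus (namespace `K734.Fib`), any universes.
-/

set_option autoImplicit false
set_option backward.isDefEq.respectTransparency false
set_option backward.isDefEq.respectTransparency.types false

universe v₇ u₇ v₆ u₆ v₅ u₅ v₄ u₄ v₃ u₃ v₂ u₂ v u

open CategoryTheory CategoryTheory.Limits

namespace K734.Fib

variable {C : Type u} [Category.{v} C]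

theorem isHomLift_iff_map_eq {𝒳 : BasedCategory.{v₂, u₂} C} {a b : 𝒳.obj} (f : 𝒳.p.obj a ⟶ 𝒳.p.obj b)
    (φ : a ⟶ b) : 𝒳.p.IsHomLift f φ ↔ 𝒳.p.map φ = f := by
  constructor
  · intro h; exact (IsHomLift.eq_of_isHomLift 𝒳.p f φ).symm
  · rintro rfl; infer_instance

section

variable {𝒳 : BasedCategory.{v₂, u₂} C} (h𝒳 : FibCat.IsFibGrpd 𝒳.p)
include h𝒳

/-- Lifts exist (general target form). -/
theorem exists_lift {a : 𝒳.obj} {T T' : C} (ha : 𝒳.p.obj a = T) (f : T' ⟶ T) :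
    ∃ (b : 𝒳.obj) (φ : b ⟶ a), 𝒳.p.IsHomLift f φ := by
  subst ha
  exact h𝒳.exists_lift f

/-- Factorisation through a morphism, in `map` form. -/
theorem exists_fac {a b c : 𝒳.obj} (φ : b ⟶ a) (ψ : c ⟶ a) (g : 𝒳.p.obj c ⟶ 𝒳.p.obj b)
    (h : g ≫ 𝒳.p.map φ = 𝒳.p.map ψ) : ∃ χ : c ⟶ b, 𝒳.p.map χ = g ∧ χ ≫ φ = ψ := by
  have := h𝒳.isStronglyCartesian φ
  obtain ⟨χ, ⟨hχ, hχ'⟩, -⟩ := Functor.IsStronglyCartesian.universal_property 𝒳.p (𝒳.p.map φ) φ g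
    (𝒳.p.map ψ) h.symm ψ
  exact ⟨χ, (isHomLift_iff_map_eq g χ).1 hχ, hχ'⟩

/-- Morphisms into the source of a morphism are determined by composite and image in the base. -/
theorem fac_unique {a b c : 𝒳.obj} (φ : b ⟶ a) {χ χ' : c ⟶ b} (h : 𝒳.p.map χ = 𝒳.p.map χ')
    (h' : χ ≫ φ = χ' ≫ φ) : χ = χ' := by
  have := h𝒳.isStronglyCartesian φ
  have hu := Functor.IsStronglyCartesian.universal_property 𝒳.p (𝒳.p.map φ) φ (𝒳.p.map χ)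
    (𝒳.p.map (χ ≫ φ)) (by simp) (χ ≫ φ)
  have e1 : 𝒳.p.IsHomLift (𝒳.p.map χ) χ := inferInstance
  have e2 : 𝒳.p.IsHomLift (𝒳.p.map χ) χ' := by rw [h]; infer_instance
  exact hu.unique ⟨e1, rfl⟩ ⟨e2, h'.symm⟩

/-- A morphism over an isomorphism is an isomorphism. -/
theorem isIso_of_map_isIso {a b : 𝒳.obj} (φ : b ⟶ a) [IsIso (𝒳.p.map φ)] : IsIso φ := by
  obtain ⟨χ, hχ, hχ'⟩ := exists_fac h𝒳 φ (𝟙 a) (inv (𝒳.p.map φ)) (by simp)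
  refine ⟨χ, ?_, hχ'⟩
  apply fac_unique h𝒳 φ
  · simp [hχ]
  · simp [hχ']

theorem isIso_of_vert {a b : 𝒳.obj} {φ : b ⟶ a} (h : IsVert 𝒳 φ) : IsIso φ := by
  have : IsIso (𝒳.p.map φ) := by rw [h.map_eq]; infer_instance
  exact isIso_of_map_isIso h𝒳 φ

/-- Two lifts of the same morphism differ by a vertical isomorphism. -/
theorem exists_iso_of_lift {a b b' : 𝒳.obj} {T T' : C} {f : T' ⟶ T} {φ : b ⟶ a} {φ' : b' ⟶ a}
    (h : 𝒳.p.IsHomLift f φ) (h' : 𝒳.p.IsHomLift f φ') :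
    ∃ e : b ≅ b', IsVert 𝒳 e.hom ∧ e.hom ≫ φ' = φ := by
  obtain rfl := (IsHomLift.codomain_eq 𝒳.p f φ).symm
  have hb := IsHomLift.domain_eq 𝒳.p f φ
  have hb' := IsHomLift.domain_eq 𝒳.p f φ'
  have e1 := IsHomLift.fac' 𝒳.p f φ
  have e2 := IsHomLift.fac' 𝒳.p f φ'
  obtain ⟨χ, hχ, hχ'⟩ := exists_fac h𝒳 φ' φ (eqToHom (hb.trans hb'.symm)) (by rw [e1, e2]; simp)
  have hv : IsVert 𝒳 χ := isVert_iff.2 ⟨hb.trans hb'.symm, hχ⟩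
  have := isIso_of_vert h𝒳 hv
  exact ⟨asIso χ, hv, hχ'⟩

/-- Factorisation, `IsHomLift` form. -/
theorem exists_fac' {a b c : 𝒳.obj} {T T' T'' : C} {f : T' ⟶ T} {g : T'' ⟶ T'} {φ : b ⟶ a} {ψ : c ⟶ a}
    (hφ : 𝒳.p.IsHomLift f φ) (hψ : 𝒳.p.IsHomLift (g ≫ f) ψ) :
    ∃ χ : c ⟶ b, 𝒳.p.IsHomLift g χ ∧ χ ≫ φ = ψ := by
  obtain rfl := IsHomLift.codomain_eq 𝒳.p f φ
  obtain rfl := IsHomLift.domain_eq 𝒳.p f φ
  obtain rfl := IsHomLift.domain_eq 𝒳.p (g ≫ f) ψ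
  obtain ⟨χ, hχ, hχ'⟩ := exists_fac h𝒳 φ ψ g (by
    rw [(isHomLift_iff_map_eq _ _).1 hφ, (isHomLift_iff_map_eq _ _).1 hψ])
  exact ⟨χ, (isHomLift_iff_map_eq _ _).2 hχ, hχ'⟩

/-- Uniqueness of factorisations, `IsHomLift` form. -/
theorem fac_unique' {a b c : 𝒳.obj} {T' T'' : C} {g : T'' ⟶ T'} (φ : b ⟶ a) {χ χ' : c ⟶ b}
    (h : 𝒳.p.IsHomLift g χ) (h' : 𝒳.p.IsHomLift g χ') (e : χ ≫ φ = χ' ≫ φ) : χ = χ' := by
  refine fac_unique h𝒳 φ ?_ e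
  rw [IsHomLift.fac' 𝒳.p g χ, IsHomLift.fac' 𝒳.p g χ']

end

/-- Morphisms with the same image in the base agree when the category is fibred in setoids. -/
theorem eq_of_setoid {𝒳 : BasedCategory.{v₂, u₂} C} (h : FibCat.IsFibSetoid 𝒳.p) {a b : 𝒳.obj}
    {φ ψ : a ⟶ b} (e : 𝒳.p.map φ = 𝒳.p.map ψ) : φ = ψ := by
  obtain ⟨χ, hχ, hχ'⟩ := exists_fac h.1 ψ φ (𝟙 _) (by rw [Category.id_comp, e])
  have hv : 𝒳.p.IsHomLift (𝟙 (𝒳.p.obj a)) χ := (isHomLift_iff_map_eq _ _).2 hχ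
  have ht := h.2 (𝒳.p.obj a)
  let A : 𝒳.p.Fiber (𝒳.p.obj a) := ⟨a, rfl⟩
  let f1 : A ⟶ A := ⟨χ, hv⟩
  let f2 : A ⟶ A := ⟨𝟙 a, inferInstance⟩
  have : f1 = f2 := (ht A A).elim _ _
  have h3 : χ = 𝟙 a := congrArg (fun k => k.1) this
  rw [← hχ', h3, Category.id_comp]

theorem isFibSetoid_of {𝒳 : BasedCategory.{v₂, u₂} C} (h𝒳 : FibCat.IsFibGrpd 𝒳.p)
    (h : ∀ {a b : 𝒳.obj} (φ ψ : a ⟶ b), 𝒳.p.map φ = 𝒳.p.map ψ → φ = ψ) : FibCat.IsFibSetoid 𝒳.p := by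
  refine ⟨h𝒳, fun U A B => ⟨fun f g => ?_⟩⟩
  apply Functor.Fiber.hom_ext
  apply h
  have i1 : 𝒳.p.IsHomLift (𝟙 U) f.1 := f.2
  have i2 : 𝒳.p.IsHomLift (𝟙 U) g.1 := g.2
  have h1 := IsHomLift.fac' 𝒳.p (𝟙 U) f.1
  have h2 := IsHomLift.fac' 𝒳.p (𝟙 U) g.1
  exact h1.trans h2.symm

theorem isFibSetoid_iff {𝒳 : BasedCategory.{v₂, u₂} C} :
    FibCat.IsFibSetoid 𝒳.p ↔ FibCat.IsFibGrpd 𝒳.p ∧
      ∀ {a b : 𝒳.obj} (φ ψ : a ⟶ b), 𝒳.p.map φ = 𝒳.p.map ψ → φ = ψ :=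
  ⟨fun h => ⟨h.1, fun _ _ e => eq_of_setoid h e⟩, fun h => isFibSetoid_of h.1 h.2⟩

/-- Being fibred in groupoids from elementary properties. -/
theorem isFibGrpd_of {𝒳 : BasedCategory.{v₂, u₂} C}
    (h1 : ∀ {a : 𝒳.obj} {V : C} (f : V ⟶ 𝒳.p.obj a), ∃ (b : 𝒳.obj) (φ : b ⟶ a), 𝒳.p.IsHomLift f φ)
    (h2 : ∀ {a b c : 𝒳.obj} (φ : b ⟶ a) (ψ : c ⟶ a) (g : 𝒳.p.obj c ⟶ 𝒳.p.obj b),
      g ≫ 𝒳.p.map φ = 𝒳.p.map ψ → ∃ χ : c ⟶ b, 𝒳.p.map χ = g ∧ χ ≫ φ = ψ)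
    (h3 : ∀ {a b c : 𝒳.obj} (φ : b ⟶ a) (χ χ' : c ⟶ b), 𝒳.p.map χ = 𝒳.p.map χ' →
      χ ≫ φ = χ' ≫ φ → χ = χ') : FibCat.IsFibGrpd 𝒳.p where
  exists_lift := h1
  isStronglyCartesian {y x} φ :=
    { universal_property' := fun {a'} g φ' hφ' => by
        obtain ⟨χ, hχ, hχ'⟩ := h2 φ φ' g (IsHomLift.eq_of_isHomLift 𝒳.p _ φ')
        refine ⟨χ, ⟨(isHomLift_iff_map_eq _ _).2 hχ, hχ'⟩, ?_⟩
        rintro χ' ⟨h, h'⟩
        exact h3 φ _ _ (((isHomLift_iff_map_eq _ _).1 h).trans hχ.symm) (h'.trans hχ'.symm) }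

section Transfer

variable {𝒳 : BasedCategory.{v₂, u₂} C} {𝒴 : BasedCategory.{v₃, u₃} C} {𝒮 : BasedCategory.{v₄, u₄} C}

theorem map_eq_base (F : 𝒳 ⥤ᵇ 𝒴) {a b : 𝒳.obj} (φ : a ⟶ b) :
    𝒴.p.map (F.map φ) = eqToHom (F.w_obj a) ≫ 𝒳.p.map φ ≫ eqToHom (F.w_obj b).symm :=
  Functor.congr_hom F.w φ

theorem map_base_eq (F : 𝒳 ⥤ᵇ 𝒴) {a b : 𝒳.obj} (φ : a ⟶ b) :
    𝒳.p.map φ = eqToHom (F.w_obj a).symm ≫ 𝒴.p.map (F.map φ) ≫ eqToHom (F.w_obj b) := by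
  rw [map_eq_base]; simp

/-- Being fibred in groupoids is invariant under equivalence over the base. -/
theorem isFibGrpd_of_isEquivOver {F : 𝒳 ⥤ᵇ 𝒴} (hF : FibCat.IsEquivOver F) (h𝒴 : FibCat.IsFibGrpd 𝒴.p) :
    FibCat.IsFibGrpd 𝒳.p := by
  have hf := full_of hF
  have hF' := faithful_of hF
  refine isFibGrpd_of ?_ ?_ ?_
  · intro a V f
    obtain ⟨y, φ, hφ⟩ := exists_lift h𝒴 (F.w_obj a) f
    obtain ⟨b, e, he⟩ := essSurjOver_of hF y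
    obtain ⟨ψ, hψ⟩ := F.toFunctor.map_surjective (e.hom ≫ φ)
    refine ⟨b, ψ, ?_⟩
    have : 𝒴.p.IsHomLift f (F.map ψ) := by
      have hψ' : F.map ψ = e.hom ≫ φ := hψ
      rw [hψ']
      have h1 : 𝒴.p.IsHomLift (𝟙 V) e.hom := he.lift' (IsHomLift.domain_eq 𝒴.p f φ)
      infer_instance
    exact BasedFunctor.isHomLift_map F f ψ
  · intro a b c φ ψ g h
    obtain ⟨χ, hχ, hχ'⟩ := exists_fac h𝒴 (F.map φ) (F.map ψ)
      (eqToHom (F.w_obj c) ≫ g ≫ eqToHom (F.w_obj b).symm) (by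
        rw [map_eq_base, map_eq_base]; simp [← h])
    obtain ⟨θ, rfl⟩ := F.toFunctor.map_surjective χ
    refine ⟨θ, ?_, ?_⟩
    · rw [map_base_eq F]
      erw [hχ]; simp
    · apply F.toFunctor.map_injective
      rw [Functor.map_comp]; exact hχ'
  · intro a b c φ χ χ' h h'
    apply F.toFunctor.map_injective
    refine fac_unique h𝒴 (F.map φ) ?_ ?_
    · exact (map_eq_base F χ).trans (by rw [h]; exact (map_eq_base F χ').symm)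
    · have := congrArg F.toFunctor.map h'
      rw [Functor.map_comp, Functor.map_comp] at this
      exact this

theorem isFibGrpd_iff_of_isEquivOver {F : 𝒳 ⥤ᵇ 𝒴} (hF : FibCat.IsEquivOver F) :
    FibCat.IsFibGrpd 𝒳.p ↔ FibCat.IsFibGrpd 𝒴.p := by
  obtain ⟨G, hG, -, -⟩ := exists_inverse hF
  exact ⟨fun h => isFibGrpd_of_isEquivOver hG h, fun h => isFibGrpd_of_isEquivOver hF h⟩

/-- If `F` is faithful and the target is fibred in setoids, the source is fibred in setoids. -/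
theorem isFibSetoid_of_faithful {F : 𝒳 ⥤ᵇ 𝒴} (hF : F.toFunctor.Faithful) (h𝒳 : FibCat.IsFibGrpd 𝒳.p)
    (h𝒴 : FibCat.IsFibSetoid 𝒴.p) : FibCat.IsFibSetoid 𝒳.p := by
  refine isFibSetoid_of h𝒳 (fun φ ψ h => F.toFunctor.map_injective (eq_of_setoid h𝒴 ?_))
  exact (map_eq_base F φ).trans (by rw [h]; exact (map_eq_base F ψ).symm)

theorem isFibSetoid_of_isEquivOver {F : 𝒳 ⥤ᵇ 𝒴} (hF : FibCat.IsEquivOver F) (h𝒴 : FibCat.IsFibSetoid 𝒴.p) :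
    FibCat.IsFibSetoid 𝒳.p :=
  isFibSetoid_of_faithful (faithful_of hF) (isFibGrpd_of_isEquivOver hF h𝒴.1) h𝒴

theorem isFibSetoid_iff_of_isEquivOver {F : 𝒳 ⥤ᵇ 𝒴} (hF : FibCat.IsEquivOver F) :
    FibCat.IsFibSetoid 𝒳.p ↔ FibCat.IsFibSetoid 𝒴.p := by
  obtain ⟨G, hG, -, -⟩ := exists_inverse hF
  exact ⟨fun h => isFibSetoid_of_isEquivOver hG h, fun h => isFibSetoid_of_isEquivOver hF h⟩

theorem fp_isHomLift_iff_fst {F : 𝒳 ⥤ᵇ 𝒮} {G : 𝒴 ⥤ᵇ 𝒮} {a b : (FibCat.fp F G).obj} {T T' : C} (f : T' ⟶ T)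
    (φ : a ⟶ b) : (FibCat.fp F G).p.IsHomLift f φ ↔ 𝒳.p.IsHomLift f φ.hom.fst :=
  (BasedFunctor.isHomLift_iff (FibCat.fpFst F G) f φ).symm

theorem fp_isHomLift_iff_snd {F : 𝒳 ⥤ᵇ 𝒮} {G : 𝒴 ⥤ᵇ 𝒮} {a b : (FibCat.fp F G).obj} {T T' : C} (f : T' ⟶ T)
    (φ : a ⟶ b) : (FibCat.fp F G).p.IsHomLift f φ ↔ 𝒴.p.IsHomLift f φ.hom.snd :=
  (BasedFunctor.isHomLift_iff (FibCat.fpSnd F G) f φ).symm

/-- The 2-fibre product of categories fibred in groupoids is fibred in groupoids. -/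
theorem isFibGrpd_fp (F : 𝒳 ⥤ᵇ 𝒮) (G : 𝒴 ⥤ᵇ 𝒮) (h𝒳 : FibCat.IsFibGrpd 𝒳.p) (h𝒴 : FibCat.IsFibGrpd 𝒴.p)
    (h𝒮 : FibCat.IsFibGrpd 𝒮.p) : FibCat.IsFibGrpd (FibCat.fp F G).p := by
  have hsnd : ∀ (z : (FibCat.fp F G).obj), 𝒴.p.obj z.obj.snd = 𝒳.p.obj z.obj.fst := fun z =>
    (FibCat.fpSnd F G).w_obj z
  refine isFibGrpd_of ?_ ?_ ?_
  · intro z V f
    obtain ⟨x, φ, hφ⟩ := exists_lift h𝒳 (a := z.obj.fst) rfl f
    obtain ⟨y, ψ, hψ⟩ := exists_lift h𝒴 (a := z.obj.snd) (hsnd z) f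
    have h1 : 𝒮.p.IsHomLift f (F.map φ ≫ z.obj.iso.hom) := by
      have i1 : 𝒮.p.IsHomLift (𝟙 (𝒳.p.obj z.obj.fst)) z.obj.iso.hom := z.property
      have i2 : 𝒮.p.IsHomLift f (F.map φ) := BasedFunctor.preserves_isHomLift F f φ
      exact IsHomLift.comp_lift_id_right' 𝒮.p f (F.map φ) (𝒳.p.obj z.obj.fst) z.obj.iso.hom
    have h2 : 𝒮.p.IsHomLift f (G.map ψ) := BasedFunctor.preserves_isHomLift G f ψ
    obtain ⟨e, he, he'⟩ := exists_iso_of_lift h𝒮 h1 h2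
    exact ⟨mkObj x y e he, mkHomFp φ ψ he'.symm, (fp_isHomLift_iff_fst _ _).2 hφ⟩
  · intro a b c φ ψ g h
    obtain ⟨χ, hχ, hχ'⟩ := exists_fac h𝒳 φ.hom.fst ψ.hom.fst g h
    have hs : ∀ {z z' : (FibCat.fp F G).obj} (k : z ⟶ z'), 𝒴.p.map k.hom.snd =
        eqToHom (hsnd z) ≫ 𝒳.p.map k.hom.fst ≫ eqToHom (hsnd z').symm := fun {z z'} k =>
      map_eq_base (FibCat.fpSnd F G) k
    obtain ⟨θ, hθ, hθ'⟩ := exists_fac h𝒴 φ.hom.snd ψ.hom.snd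
      (eqToHom (hsnd c) ≫ g ≫ eqToHom (hsnd b).symm) (by
        rw [hs, hs]
        have h' : g ≫ 𝒳.p.map φ.hom.fst = 𝒳.p.map ψ.hom.fst := h
        simp [← h'])
    refine ⟨mkHomFp χ θ ?_, hχ, homFp_ext hχ' hθ'⟩
    apply fac_unique h𝒮 (G.map φ.hom.snd)
    · rw [Functor.map_comp, Functor.map_comp, (iso_vert b).map_eq, (iso_vert c).map_eq,
        map_eq_base, map_eq_base, hχ, hθ]
      simp
    · have h1 := homFp_w φ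
      have h2 := homFp_w ψ
      rw [← hχ', ← hθ', Functor.map_comp, Functor.map_comp] at h2
      rw [Category.assoc, ← h1, Category.assoc]
      rw [Category.assoc] at h2
      exact h2
  · intro a b c φ χ χ' h h'
    have hfst : χ.hom.fst = χ'.hom.fst := by
      apply fac_unique h𝒳 φ.hom.fst h
      exact congrArg (fun k => k.hom.fst) h'
    refine homFp_ext hfst ?_
    apply fac_unique h𝒴 φ.hom.snd
    · have h1 := map_eq_base (FibCat.fpSnd F G) χ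
      have h2 := map_eq_base (FibCat.fpSnd F G) χ'
      rw [h, ← h2] at h1
      exact h1
    · exact congrArg (fun k => k.hom.snd) h'

/-- A slice is fibred in sets. -/
theorem isFibSetoid_overCat (U : C) : FibCat.IsFibSetoid (FibCat.overCat U).p := by
  refine isFibSetoid_of (isFibGrpd_of ?_ ?_ ?_) ?_
  · intro a V f
    exact ⟨Over.mk (f ≫ a.hom), Over.homMk f rfl, IsHomLift.map (FibCat.overCat U).p
      (Over.homMk f rfl : Over.mk (f ≫ a.hom) ⟶ a)⟩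
  · intro a b c φ ψ g h
    have h1 : g ≫ φ.left = ψ.left := h
    refine ⟨Over.homMk g ?_, rfl, ?_⟩
    · rw [← Over.w φ, ← Category.assoc]
      erw [h1]
      exact Over.w ψ
    · exact Over.OverMorphism.ext h
  · intro a b c φ χ χ' h _
    exact Over.OverMorphism.ext h
  · intro a b φ ψ h
    exact Over.OverMorphism.ext h

theorem isFibGrpd_overCat (U : C) : FibCat.IsFibGrpd (FibCat.overCat U).p := (isFibSetoid_overCat U).1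

end Transfer

end K734.Fib
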