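import Groth.Agent.AlgSt.K734.Yon2
import Groth.Prelude.Def_AlgSt
import Mathlib.CategoryTheory.Limits.Shapes.Pullback.IsPullback.Basic
import Mathlib.CategoryTheory.Limits.FunctorCategory.Basic
import Mathlib.CategoryTheory.Limits.Types.Pullbacks
/-!
K734.IsoPsh : the presheaf of (vertical) isomorphism classes of objects of a category fibred in groupoids, and
the dictionary presheaves of sets = categories fibred in setoids (namespace `K734.Fib`).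

* `isoPsh h𝒳 : Cᵒᵖ ⥤ Type w` : `T ↦` objects over `T` up to vertical isomorphism; `cls x hx` the class,
  `map_cls_iff`, `cls_eq_iff`.
* `toPsh h𝒳 : 𝒳 ⥤ᵇ ofPsh (isoPsh h𝒳)`, `isEquivOver_toPsh` iff fibred in setoids.
* `secOf Φ`, `pshHom Φ : P ⟶ Q` for `Φ : ofPsh P ⥤ᵇ ofPsh Q` and `nonempty_iso_ofPshMap`.
* `descPsh Φ : isoPsh h𝒳 ⟶ Q` for `Φ : 𝒳 ⥤ᵇ ofPsh Q`.
* `isEquivOver_fp_ofPsh` : pullback squares of presheaves are 2-cartesian.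
-/

set_option autoImplicit false
set_option backward.isDefEq.respectTransparency false
set_option backward.isDefEq.respectTransparency.types false

universe w v₇ u₇ v₆ u₆ v₅ u₅ v₄ u₄ v₃ u₃ v₂ u₂ v u

open CategoryTheory CategoryTheory.Limits Opposite

namespace K734.Fib

variable {C : Type u} [Category.{v} C]

section IsoPsh

variable {𝒳 : BasedCategory.{v₂, u₂} C}

/-- Vertical isomorphism of objects over `T`. -/
def vSetoid (𝒳 : BasedCategory.{v₂, u₂} C) (T : C) : Setoid {x : 𝒳.obj // 𝒳.p.obj x = T} where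
  r a b := ∃ e : a.1 ≅ b.1, IsVert 𝒳 e.hom
  iseqv :=
    { refl := fun _ => ⟨Iso.refl _, IsVert.id _⟩
      symm := fun ⟨e, he⟩ => ⟨e.symm, he.inv⟩
      trans := fun ⟨e, he⟩ ⟨e', he'⟩ => ⟨e ≪≫ e', he.comp he'⟩ }

theorem exists_restr (h𝒳 : FibCat.IsFibGrpd 𝒳.p) {T T' : C} (f : T' ⟶ T)
    (a : {x : 𝒳.obj // 𝒳.p.obj x = T}) :
    ∃ (b : {x : 𝒳.obj // 𝒳.p.obj x = T'}) (φ : b.1 ⟶ a.1), 𝒳.p.IsHomLift f φ := by
  obtain ⟨b, φ, hφ⟩ := exists_lift h𝒳 a.2 f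
  exact ⟨⟨b, IsHomLift.domain_eq 𝒳.p f φ⟩, φ, hφ⟩

theorem restr_unique (h𝒳 : FibCat.IsFibGrpd 𝒳.p) {T T' : C} (f : T' ⟶ T) {a a' b b' : 𝒳.obj}
    {e : a ≅ a'} (he : IsVert 𝒳 e.hom) {φ : b ⟶ a} {φ' : b' ⟶ a'} (hφ : 𝒳.p.IsHomLift f φ)
    (hφ' : 𝒳.p.IsHomLift f φ') : ∃ e' : b ≅ b', IsVert 𝒳 e'.hom := by
  have h1 : 𝒳.p.IsHomLift (𝟙 T) e.hom := he.lift (IsHomLift.codomain_eq 𝒳.p f φ)
  have h2 : 𝒳.p.IsHomLift f (φ ≫ e.hom) := inferInstance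
  obtain ⟨e', he', -⟩ := exists_iso_of_lift h𝒳 h2 hφ'
  exact ⟨e', he'⟩

/-- The presheaf of isomorphism classes of objects. -/
noncomputable def isoPsh (h𝒳 : FibCat.IsFibGrpd 𝒳.p) : Cᵒᵖ ⥤ Type u₂ where
  obj T := Quotient (vSetoid 𝒳 T.unop)
  map {T T'} f := ↾(Quotient.lift (fun a => Quotient.mk (vSetoid 𝒳 T'.unop) (exists_restr h𝒳 f.unop a).choose)
    (fun a a' ⟨e, he⟩ => Quotient.sound (restr_unique h𝒳 f.unop he
      (exists_restr h𝒳 f.unop a).choose_spec.choose_spec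
      (exists_restr h𝒳 f.unop a').choose_spec.choose_spec)))
  map_id T := by
    ext x
    induction x using Quotient.inductionOn with
    | _ a =>
      refine Quotient.sound ?_
      have h1 := (exists_restr h𝒳 (𝟙 T : T ⟶ T).unop a).choose_spec.choose_spec
      have hv : IsVert 𝒳 (exists_restr h𝒳 (𝟙 T : T ⟶ T).unop a).choose_spec.choose := IsVert.of_lift h1
      have hi := isIso_of_vert h𝒳 hv
      exact ⟨@asIso _ _ _ _ _ hi, hv⟩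
  map_comp {T T' T''} f g := by
    ext x
    induction x using Quotient.inductionOn with
    | _ a =>
      refine Quotient.sound ?_
      have h1 := (exists_restr h𝒳 (f ≫ g).unop a).choose_spec.choose_spec
      have h2 := (exists_restr h𝒳 f.unop a).choose_spec.choose_spec
      have h3 := (exists_restr h𝒳 g.unop (exists_restr h𝒳 f.unop a).choose).choose_spec.choose_spec
      have h4 : 𝒳.p.IsHomLift (g.unop ≫ f.unop)
        ((exists_restr h𝒳 g.unop (exists_restr h𝒳 f.unop a).choose).choose_spec.choose ≫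
          (exists_restr h𝒳 f.unop a).choose_spec.choose) := inferInstance
      exact restr_unique h𝒳 _ (e := Iso.refl a.1) (IsVert.id _) h1 h4

/-- The class of an object. -/
def cls (h𝒳 : FibCat.IsFibGrpd 𝒳.p) {T : C} (x : 𝒳.obj) (hx : 𝒳.p.obj x = T) :
    (isoPsh h𝒳).obj (op T) := Quotient.mk (vSetoid 𝒳 T) ⟨x, hx⟩

theorem cls_surj (h𝒳 : FibCat.IsFibGrpd 𝒳.p) {T : C} (s : (isoPsh h𝒳).obj (op T)) :
    ∃ (x : 𝒳.obj) (hx : 𝒳.p.obj x = T), cls h𝒳 x hx = s := by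
  induction s using Quotient.inductionOn with
  | _ a => exact ⟨a.1, a.2, rfl⟩

theorem cls_eq_iff (h𝒳 : FibCat.IsFibGrpd 𝒳.p) {T : C} {x x' : 𝒳.obj} (hx : 𝒳.p.obj x = T)
    (hx' : 𝒳.p.obj x' = T) : cls h𝒳 x hx = cls h𝒳 x' hx' ↔ ∃ e : x ≅ x', IsVert 𝒳 e.hom :=
  ⟨fun h => Quotient.exact h, fun h => Quotient.sound h⟩

theorem map_cls_iff (h𝒳 : FibCat.IsFibGrpd 𝒳.p) {T T' : C} (f : T' ⟶ T) {x x' : 𝒳.obj}
    (hx : 𝒳.p.obj x = T) (hx' : 𝒳.p.obj x' = T') :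
    (isoPsh h𝒳).map f.op (cls h𝒳 x hx) = cls h𝒳 x' hx' ↔ ∃ φ : x' ⟶ x, 𝒳.p.IsHomLift f φ := by
  have h1 := (exists_restr h𝒳 f ⟨x, hx⟩).choose_spec.choose_spec
  have h0 : (isoPsh h𝒳).map f.op (cls h𝒳 x hx) =
    cls h𝒳 (exists_restr h𝒳 f ⟨x, hx⟩).choose.1 (exists_restr h𝒳 f ⟨x, hx⟩).choose.2 := rfl
  rw [h0, cls_eq_iff]
  constructor
  · rintro ⟨e, he⟩
    have h2 : 𝒳.p.IsHomLift (𝟙 T') e.symm.hom := he.inv.lift hx'
    exact ⟨e.symm.hom ≫ (exists_restr h𝒳 f ⟨x, hx⟩).choose_spec.choose,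
      IsHomLift.comp_lift_id_left 𝒳.p f (exists_restr h𝒳 f ⟨x, hx⟩).choose_spec.choose e.symm.hom⟩
  · rintro ⟨φ, hφ⟩
    exact restr_unique h𝒳 f (e := Iso.refl x) (IsVert.id _) h1 hφ

theorem map_cls (h𝒳 : FibCat.IsFibGrpd 𝒳.p) {T T' : C} {f : T' ⟶ T} {x x' : 𝒳.obj}
    (hx : 𝒳.p.obj x = T) (hx' : 𝒳.p.obj x' = T') {φ : x' ⟶ x} (hφ : 𝒳.p.IsHomLift f φ) :
    (isoPsh h𝒳).map f.op (cls h𝒳 x hx) = cls h𝒳 x' hx' := (map_cls_iff h𝒳 f hx hx').2 ⟨φ, hφ⟩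

/-- The functor to the category of the presheaf of isomorphism classes. -/
noncomputable def toPsh (h𝒳 : FibCat.IsFibGrpd 𝒳.p) : 𝒳 ⥤ᵇ Stk.ofPsh (isoPsh h𝒳) where
  toFunctor :=
    { obj := fun x => ⟨𝒳.p.obj x, cls h𝒳 x rfl⟩
      map := fun {x y} f => ⟨𝒳.p.map f, map_cls h𝒳 rfl rfl (φ := f) inferInstance⟩
      map_id := fun x => Stk.EltObj.hom_ext (𝒳.p.map_id x)
      map_comp := fun f g => Stk.EltObj.hom_ext (𝒳.p.map_comp f g) }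
  w := rfl

theorem toPsh_obj_base (h𝒳 : FibCat.IsFibGrpd 𝒳.p) (x : 𝒳.obj) : ((toPsh h𝒳).obj x).base = 𝒳.p.obj x := rfl
theorem toPsh_obj_sec (h𝒳 : FibCat.IsFibGrpd 𝒳.p) (x : 𝒳.obj) : ((toPsh h𝒳).obj x).sec = cls h𝒳 x rfl := rfl

end IsoPsh

section OfPsh

theorem isFibGrpd_ofPsh' (P : Cᵒᵖ ⥤ Type w) : FibCat.IsFibGrpd (Stk.ofPsh P).p := Stk.isFibGrpd_ofPsh P

theorem isFibSetoid_ofPsh (P : Cᵒᵖ ⥤ Type w) : FibCat.IsFibSetoid (Stk.ofPsh P).p :=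
  isFibSetoid_of (isFibGrpd_ofPsh' P) (fun _ _ h => Stk.EltObj.hom_ext h)

variable {P : Cᵒᵖ ⥤ Type w}

theorem elt_inj {T : C} {s s' : P.obj (op T)} (h : (⟨T, s⟩ : Stk.EltObj P) = ⟨T, s'⟩) : s = s' := by
  injection h

/-- A vertical morphism of elements is an equality. -/
theorem eq_of_vert {a b : (Stk.ofPsh P).obj} {φ : a ⟶ b} (h : IsVert (Stk.ofPsh P) φ) : a = b := by
  obtain ⟨h1, h2⟩ := isVert_iff.1 h
  obtain ⟨T, s⟩ := a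
  obtain ⟨T', s'⟩ := b
  have h1' : T = T' := h1
  subst h1'
  have h3 : φ.hom = 𝟙 T := h2
  have h4 := φ.map_sec
  rw [h3] at h4
  have h5 : s' = s := by simpa using h4
  rw [h5]

/-- Sections of elements restrict along morphisms. -/
theorem elt_map {a b : (Stk.ofPsh P).obj} {T T' : C} {f : T' ⟶ T} {ψ : b ⟶ a}
    (hψ : (Stk.ofPsh P).p.IsHomLift f ψ) {s : P.obj (op T)} {s' : P.obj (op T')}
    (ha : a = ⟨T, s⟩) (hb : b = ⟨T', s'⟩) : P.map f.op s = s' := by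
  subst ha hb
  have h1 : ψ.hom = f := (isHomLift_iff_map_eq _ _).1 hψ
  rw [← h1]
  exact ψ.map_sec

theorem exists_sec {𝒵 : BasedCategory.{v₂, u₂} C} (Φ : 𝒵 ⥤ᵇ Stk.ofPsh P) {T : C} (z : 𝒵.obj)
    (hz : 𝒵.p.obj z = T) : ∃ s : P.obj (op T), Φ.obj z = ⟨T, s⟩ := by
  have h1 : (Φ.obj z).base = T := (Φ.w_obj z).trans hz
  generalize Φ.obj z = a at h1
  obtain ⟨T', s⟩ := a
  dsimp at h1
  subst h1
  exact ⟨s, rfl⟩

/-- The value of a functor into `ofPsh P` at an object over `T`, as a section over `T`. -/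
noncomputable def secOf {𝒵 : BasedCategory.{v₂, u₂} C} (Φ : 𝒵 ⥤ᵇ Stk.ofPsh P) {T : C} (z : 𝒵.obj)
    (hz : 𝒵.p.obj z = T) : P.obj (op T) := (exists_sec Φ z hz).choose

theorem secOf_spec {𝒵 : BasedCategory.{v₂, u₂} C} (Φ : 𝒵 ⥤ᵇ Stk.ofPsh P) {T : C} (z : 𝒵.obj)
    (hz : 𝒵.p.obj z = T) : Φ.obj z = ⟨T, secOf Φ z hz⟩ := (exists_sec Φ z hz).choose_spec

theorem secOf_eq {𝒵 : BasedCategory.{v₂, u₂} C} (Φ : 𝒵 ⥤ᵇ Stk.ofPsh P) {T : C} {z : 𝒵.obj}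
    (hz : 𝒵.p.obj z = T) {s : P.obj (op T)} (h : Φ.obj z = ⟨T, s⟩) : secOf Φ z hz = s :=
  elt_inj ((secOf_spec Φ z hz).symm.trans h)

theorem secOf_map {𝒵 : BasedCategory.{v₂, u₂} C} (Φ : 𝒵 ⥤ᵇ Stk.ofPsh P) {T T' : C} {f : T' ⟶ T}
    {z z' : 𝒵.obj} (hz : 𝒵.p.obj z = T) (hz' : 𝒵.p.obj z' = T') {φ : z' ⟶ z} (hφ : 𝒵.p.IsHomLift f φ) :
    P.map f.op (secOf Φ z hz) = secOf Φ z' hz' :=
  elt_map (ψ := Φ.map φ) (BasedFunctor.preserves_isHomLift Φ f φ) (secOf_spec Φ z hz) (secOf_spec Φ z' hz')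

theorem obj_eq_of_iso {𝒵 : BasedCategory.{v₂, u₂} C} {Φ Ψ : 𝒵 ⥤ᵇ Stk.ofPsh P} (e : Φ ≅ Ψ) (z : 𝒵.obj) :
    Φ.obj z = Ψ.obj z := eq_of_vert (app_vert e z)

theorem secOf_iso {𝒵 : BasedCategory.{v₂, u₂} C} {Φ Ψ : 𝒵 ⥤ᵇ Stk.ofPsh P} (e : Φ ≅ Ψ) {T : C} (z : 𝒵.obj)
    (hz : 𝒵.p.obj z = T) : secOf Φ z hz = secOf Ψ z hz :=
  secOf_eq Φ hz ((obj_eq_of_iso e z).trans (secOf_spec Ψ z hz))

theorem nonempty_iso_of_obj_eq {𝒵 : BasedCategory.{v₂, u₂} C} {Φ Ψ : 𝒵 ⥤ᵇ Stk.ofPsh P}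
    (h : ∀ z, Φ.obj z = Ψ.obj z) : Nonempty (Φ ≅ Ψ) :=
  nonempty_iso_of_setoid (isFibSetoid_ofPsh P) (fun z => ⟨eqToIso (h z), IsVert.eqToHom (h z)⟩)

theorem nonempty_iso_of_secOf {𝒵 : BasedCategory.{v₂, u₂} C} {Φ Ψ : 𝒵 ⥤ᵇ Stk.ofPsh P}
    (h : ∀ z, secOf Φ z rfl = secOf Ψ z rfl) : Nonempty (Φ ≅ Ψ) :=
  nonempty_iso_of_obj_eq (fun z => by rw [secOf_spec Φ z rfl, secOf_spec Ψ z rfl, h])

variable {Q : Cᵒᵖ ⥤ Type v₇}

/-- The map of presheaves underlying a functor `ofPsh P ⥤ᵇ ofPsh Q` (same universe). -/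
noncomputable def pshHom {P Q : Cᵒᵖ ⥤ Type w} (Φ : Stk.ofPsh P ⥤ᵇ Stk.ofPsh Q) : P ⟶ Q where
  app T := ↾(fun s => secOf Φ ⟨T.unop, s⟩ rfl)
  naturality T T' f := by
    ext s
    exact (secOf_map Φ (f := f.unop) (z := ⟨T.unop, s⟩) (z' := ⟨T'.unop, P.map f s⟩) rfl rfl
      (φ := ⟨f.unop, rfl⟩)
      (IsHomLift.map (Stk.EltObj.forget P) (⟨f.unop, rfl⟩ :
        (⟨T'.unop, P.map f s⟩ : Stk.EltObj P) ⟶ ⟨T.unop, s⟩))).symm

theorem pshHom_app {P Q : Cᵒᵖ ⥤ Type w} (Φ : Stk.ofPsh P ⥤ᵇ Stk.ofPsh Q) {T : C} (s : P.obj (op T)) :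
    (pshHom Φ).app (op T) s = secOf Φ ⟨T, s⟩ rfl := rfl

theorem obj_eq_pshHom {P Q : Cᵒᵖ ⥤ Type w} (Φ : Stk.ofPsh P ⥤ᵇ Stk.ofPsh Q) {T : C} (s : P.obj (op T)) :
    Φ.obj ⟨T, s⟩ = ⟨T, (pshHom Φ).app (op T) s⟩ := secOf_spec Φ _ rfl

theorem pshHom_ofPshMap {P Q : Cᵒᵖ ⥤ Type w} (a : P ⟶ Q) : pshHom (Stk.ofPshMap a) = a := by
  ext T s
  exact secOf_eq (Stk.ofPshMap a) (z := ⟨T.unop, s⟩) rfl rfl

theorem nonempty_iso_ofPshMap {P Q : Cᵒᵖ ⥤ Type w} (Φ : Stk.ofPsh P ⥤ᵇ Stk.ofPsh Q) :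
    Nonempty (Φ ≅ Stk.ofPshMap (pshHom Φ)) :=
  nonempty_iso_of_obj_eq (fun z => obj_eq_pshHom Φ z.sec)

theorem pshHom_eq_of_iso {P Q : Cᵒᵖ ⥤ Type w} {Φ Ψ : Stk.ofPsh P ⥤ᵇ Stk.ofPsh Q} (e : Φ ≅ Ψ) :
    pshHom Φ = pshHom Ψ := by
  ext T s
  exact secOf_iso e ⟨T.unop, s⟩ rfl

theorem eq_of_ofPshMap_iso {P Q : Cᵒᵖ ⥤ Type w} {a b : P ⟶ Q} (e : Stk.ofPshMap a ≅ Stk.ofPshMap b) :
    a = b := by
  rw [← pshHom_ofPshMap a, ← pshHom_ofPshMap b, pshHom_eq_of_iso e]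

theorem ofPshMap_comp {P Q R : Cᵒᵖ ⥤ Type w} (a : P ⟶ Q) (b : Q ⟶ R) :
    BasedFunctor.comp (Stk.ofPshMap a) (Stk.ofPshMap b) = Stk.ofPshMap (a ≫ b) := rfl

theorem ofPshMap_id {P : Cᵒᵖ ⥤ Type w} : Stk.ofPshMap (𝟙 P) = BasedFunctor.id (Stk.ofPsh P) := rfl

theorem pshHom_comp {P Q R : Cᵒᵖ ⥤ Type w} (Φ : Stk.ofPsh P ⥤ᵇ Stk.ofPsh Q) (Ψ : Stk.ofPsh Q ⥤ᵇ Stk.ofPsh R) :
    pshHom (BasedFunctor.comp Φ Ψ) = pshHom Φ ≫ pshHom Ψ := by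
  ext T s
  refine secOf_eq (BasedFunctor.comp Φ Ψ) (z := ⟨T.unop, s⟩) rfl ?_
  show Ψ.obj (Φ.obj ⟨T.unop, s⟩) = _
  rw [obj_eq_pshHom Φ s, obj_eq_pshHom Ψ]
  rfl

theorem pshHom_id {P : Cᵒᵖ ⥤ Type w} : pshHom (BasedFunctor.id (Stk.ofPsh P)) = 𝟙 P := by
  exact pshHom_ofPshMap (𝟙 P)

/-- `ofPshMap a` is an equivalence over `C` iff `a` is an isomorphism. -/
theorem isEquivOver_ofPshMap_iff {P Q : Cᵒᵖ ⥤ Type w} (a : P ⟶ Q) :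
    FibCat.IsEquivOver (Stk.ofPshMap a) ↔ IsIso a := by
  constructor
  · intro h
    obtain ⟨G, -, ⟨α⟩, ⟨β⟩⟩ := exists_inverse h
    refine ⟨pshHom G, ?_, ?_⟩
    · have := pshHom_eq_of_iso α
      rwa [pshHom_comp, pshHom_ofPshMap, pshHom_id] at this
    · have := pshHom_eq_of_iso β
      rwa [pshHom_comp, pshHom_ofPshMap, pshHom_id] at this
  · intro h
    refine isEquivOver_of_inverse (Stk.ofPshMap (inv a)) (eqToIso ?_) (eqToIso ?_)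
    · rw [ofPshMap_comp, IsIso.hom_inv_id, ofPshMap_id]
    · rw [ofPshMap_comp, IsIso.inv_hom_id, ofPshMap_id]

theorem isIso_pshHom {P Q : Cᵒᵖ ⥤ Type w} {Φ : Stk.ofPsh P ⥤ᵇ Stk.ofPsh Q} (h : FibCat.IsEquivOver Φ) :
    IsIso (pshHom Φ) := by
  obtain ⟨e⟩ := nonempty_iso_ofPshMap Φ
  exact (isEquivOver_ofPshMap_iff _).1 (isEquivOver_of_iso e h)

end OfPsh

section Desc

variable {𝒳 : BasedCategory.{v₂, u₂} C} (h𝒳 : FibCat.IsFibGrpd 𝒳.p)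

theorem full_toPsh : (toPsh h𝒳).toFunctor.Full := by
  refine ⟨fun {x y} f => ?_⟩
  have h1 := f.map_sec
  obtain ⟨φ, hφ⟩ := (map_cls_iff h𝒳 f.hom rfl rfl).1 h1
  exact ⟨φ, Stk.EltObj.hom_ext ((isHomLift_iff_map_eq _ _).1 hφ)⟩

theorem essSurjOver_toPsh : EssSurjOver (toPsh h𝒳) := by
  rintro ⟨T, s⟩
  obtain ⟨x, hx, rfl⟩ := cls_surj h𝒳 s
  subst hx
  exact ⟨x, Iso.refl _, IsVert.id _⟩

theorem isEquivOver_toPsh (hs : FibCat.IsFibSetoid 𝒳.p) : FibCat.IsEquivOver (toPsh h𝒳) := by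
  refine isEquivOver_of (full_toPsh h𝒳) ⟨fun {x y} f g h => ?_⟩ (essSurjOver_toPsh h𝒳)
  exact eq_of_setoid hs (congrArg (fun k => k.hom) h)

/-- Auxiliary map on classes. -/
noncomputable def descFun {Q : Cᵒᵖ ⥤ Type w} (Φ : 𝒳 ⥤ᵇ Stk.ofPsh Q) (T : C) :
    (isoPsh h𝒳).obj (op T) → Q.obj (op T) :=
  Quotient.lift (fun a => secOf Φ a.1 a.2) (fun a b ⟨e, he⟩ => by
    have h1 : Φ.obj a.1 = Φ.obj b.1 := eq_of_vert (φ := Φ.map e.hom) (he.map Φ)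
    exact secOf_eq Φ a.2 (h1.trans (secOf_spec Φ b.1 b.2)))

theorem descFun_cls {Q : Cᵒᵖ ⥤ Type w} (Φ : 𝒳 ⥤ᵇ Stk.ofPsh Q) {T : C} (x : 𝒳.obj) (hx : 𝒳.p.obj x = T) :
    descFun h𝒳 Φ T (cls h𝒳 x hx) = secOf Φ x hx := rfl

/-- A functor from `𝒳` to the category of a presheaf descends to isomorphism classes. -/
noncomputable def descPsh {Q : Cᵒᵖ ⥤ Type u₂} (Φ : 𝒳 ⥤ᵇ Stk.ofPsh Q) : isoPsh h𝒳 ⟶ Q where
  app T := ↾(descFun h𝒳 Φ T.unop)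
  naturality T T' f := by
    ext s
    obtain ⟨x, hx, rfl⟩ := cls_surj h𝒳 s
    obtain ⟨x', φ, hφ⟩ := exists_lift h𝒳 hx f.unop
    have h1 := map_cls h𝒳 hx (IsHomLift.domain_eq 𝒳.p f.unop φ) hφ
    have h2 := secOf_map Φ hx (IsHomLift.domain_eq 𝒳.p f.unop φ) hφ
    have h1' : (isoPsh h𝒳).map f (cls h𝒳 x hx) = cls h𝒳 x' (IsHomLift.domain_eq 𝒳.p f.unop φ) := h1
    refine (congrArg (descFun h𝒳 Φ T'.unop) h1').trans ?_
    exact h2.symm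

theorem descPsh_cls {Q : Cᵒᵖ ⥤ Type u₂} (Φ : 𝒳 ⥤ᵇ Stk.ofPsh Q) {T : C} (x : 𝒳.obj) (hx : 𝒳.p.obj x = T) :
    (descPsh h𝒳 Φ).app (op T) (cls h𝒳 x hx) = secOf Φ x hx := rfl

theorem nonempty_toPsh_descPsh {Q : Cᵒᵖ ⥤ Type u₂} (Φ : 𝒳 ⥤ᵇ Stk.ofPsh Q) :
    Nonempty (BasedFunctor.comp (toPsh h𝒳) (Stk.ofPshMap (descPsh h𝒳 Φ)) ≅ Φ) :=
  nonempty_iso_of_obj_eq (fun z => (secOf_spec Φ z rfl).symm)

end Desc

section Pullback

variable {P Q G F' : Cᵒᵖ ⥤ Type w}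

/-- A pullback square of presheaves gives a 2-cartesian square of categories over `C`. -/
theorem isEquivOver_fp_ofPsh {a : P ⟶ G} {b : Q ⟶ G} {fst : F' ⟶ P} {snd : F' ⟶ Q}
    (sq : IsPullback fst snd a b)
    (e : BasedFunctor.comp (Stk.ofPshMap fst) (Stk.ofPshMap a) ≅
      BasedFunctor.comp (Stk.ofPshMap snd) (Stk.ofPshMap b)) :
    FibCat.IsEquivOver (FibCat.fpLift (Stk.ofPshMap fst) (Stk.ofPshMap snd) e) := by
  have sqT : ∀ T : C, IsPullback (fst.app (op T)) (snd.app (op T)) (a.app (op T)) (b.app (op T)) :=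
    fun T => IsPullback.map ((evaluation Cᵒᵖ (Type w)).obj (op T)) sq
  have hinj : ∀ (T : C) (s t : F'.obj (op T)), fst.app (op T) s = fst.app (op T) t →
      snd.app (op T) s = snd.app (op T) t → s = t := by
    intro T s t h1 h2
    have hm := (sqT T)
    have : (↾(fun _ : PUnit.{w+1} => s) : PUnit.{w+1} ⟶ F'.obj (op T)) = ↾(fun _ => t) := by
      apply hm.hom_ext
      · ext; exact h1
      · ext; exact h2
    exact congrArg (fun k => k PUnit.unit) this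
  have hex : ∀ (T : C) (p : P.obj (op T)) (q : Q.obj (op T)), a.app (op T) p = b.app (op T) q →
      ∃ s : F'.obj (op T), fst.app (op T) s = p ∧ snd.app (op T) s = q := by
    intro T p q h
    have hm := (sqT T)
    let l := hm.lift (↾(fun _ : PUnit.{w+1} => p)) (↾(fun _ => q)) (by ext; exact h)
    refine ⟨l PUnit.unit, ?_, ?_⟩
    · exact congrArg (fun k => k PUnit.unit) (hm.lift_fst _ _ _)
    · exact congrArg (fun k => k PUnit.unit) (hm.lift_snd _ _ _)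
  refine isTwoCart_of _ _ _ ?_ ?_ ?_
  · intro w w' f g hfg
    have h1 : f.hom = g.hom := by
      have h2 := congrArg (fun k => k.hom) hfg
      have h3 : ((Stk.ofPshMap a).map f).hom ≫ (app e w').hom.hom =
        (app e w).hom.hom ≫ ((Stk.ofPshMap b).map g).hom := h2
      have h4 : (app e w').hom.hom = 𝟙 _ := (app_vert e w').map_eq
      have h5 : (app e w).hom.hom = 𝟙 _ := (app_vert e w).map_eq
      rw [h4, h5] at h3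
      exact (Category.comp_id _).symm.trans (h3.trans (Category.id_comp _))
    refine ⟨⟨f.hom, ?_⟩, Stk.EltObj.hom_ext rfl, Stk.EltObj.hom_ext h1⟩
    apply hinj
    · rw [NatTrans.naturality_apply]
      exact f.map_sec
    · rw [NatTrans.naturality_apply, h1]
      exact g.map_sec
  · intro w w' h h' h1 _
    exact Stk.EltObj.hom_ext (congrArg (fun k => k.hom) h1)
  · intro x y φ hφ
    have h1 : (Stk.ofPshMap a).obj x = (Stk.ofPshMap b).obj y := eq_of_vert hφ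
    obtain ⟨T, p⟩ := x
    obtain ⟨T', q⟩ := y
    have h2 : T = T' := congrArg (fun k => k.base) h1
    subst h2
    have h3 : a.app (op T) p = b.app (op T) q := elt_inj h1
    obtain ⟨s, rfl, rfl⟩ := hex T p q h3
    refine ⟨⟨T, s⟩, Iso.refl _, Iso.refl _, IsVert.id _, ?_⟩
    exact eq_of_setoid (isFibSetoid_ofPsh G) (by
      rw [Functor.map_comp, Functor.map_comp, hφ.map_eq, (app_vert e _).map_eq]
      rfl)

end Pullback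

end K734.Fib
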