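import Groth.Agent.AlgSt.K746.ChartEx
import Groth.Agent.AlgSt.K734.FpDiag
import Groth.Agent.AlgSp.K613.LqfSch
/-!
K734.Pair : `K746.PairRep x y R` as an equivalence `overCat R ≃ fp x y`, and existence from the diagonal.

* `pairFun G : overCat R ⥤ᵇ fp x y`, `isEquivOver_pairFun`, projections `overMap G.s`, `overMap G.t`.
-/

set_option autoImplicit false
set_option linter.unusedVariables false
set_option backward.isDefEq.respectTransparency false
set_option backward.isDefEq.respectTransparency.types false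

universe w₁ v₁ w' v' w v₇ u₇ v₆ u₆ v₅ u₅ v₄ u₄ v₃ u₃ v₂ u₂ v u

open CategoryTheory CategoryTheory.Limits Opposite AlgebraicGeometry K734.Fib

namespace K734.Pair

open K746 K746.PairRep

section

variable {C : Type u} [Category.{v} C] {𝒳 : BasedCategory.{v₃, u₃} C} {U V : C}
  {x : FibCat.overCat U ⥤ᵇ 𝒳} {y : FibCat.overCat V ⥤ᵇ 𝒳} {R : C} (G : PairRep x y R)
  (h𝒳 : FibCat.IsFibGrpd 𝒳.p)

include h𝒳 in
theorem exists_pairIso : ∃ α : BasedFunctor.comp (overMap G.s) x ≅ BasedFunctor.comp (overMap G.t) y,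
    ∀ a : (FibCat.overCat R).obj, G.IsArr (u := a.hom ≫ G.s) (v := a.hom ≫ G.t) a.hom (app α a).hom := by
  obtain ⟨φ, hφ⟩ := G.exists_arr h𝒳 (𝟙 R) (u := 𝟙 R ≫ G.s) (v := 𝟙 R ≫ G.t) rfl rfl
  have hi := isIso_of_vert h𝒳 hφ.vert
  let φi : (BasedFunctor.comp (overMap G.s) x).obj (one R) ≅ (BasedFunctor.comp (overMap G.t) y).obj (one R) :=
    @asIso _ _ _ _ φ hi
  have hv : IsVert 𝒳 φi.hom := hφ.vert
  refine ⟨isoOfOne h𝒳 φi hv, fun a => ?_⟩
  have h1 := app_nat (isoOfOne h𝒳 φi hv) (toOne a)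
  rw [isoOfOne_app] at h1
  have h3 : G.IsArr (u := a.hom ≫ G.s) (v := a.hom ≫ G.t) (a.hom ≫ 𝟙 R) (app (isoOfOne h𝒳 φi hv) a).hom :=
    IsArr.restrict hφ a.hom (by simp) (by simp) (app_vert (isoOfOne h𝒳 φi hv) a) h1.symm
  rwa [Category.comp_id] at h3

/-- The 2-isomorphism `x s ≅ y t` given by `θ`. -/
noncomputable def pairIso : BasedFunctor.comp (overMap G.s) x ≅ BasedFunctor.comp (overMap G.t) y :=
  (exists_pairIso G h𝒳).choose

theorem isArr_pairIso (a : (FibCat.overCat R).obj) :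
    G.IsArr (u := a.hom ≫ G.s) (v := a.hom ≫ G.t) a.hom (app (pairIso G h𝒳) a).hom :=
  (exists_pairIso G h𝒳).choose_spec a

/-- The functor `overCat R ⥤ᵇ fp x y`. -/
noncomputable def pairFun : FibCat.overCat R ⥤ᵇ FibCat.fp x y :=
  FibCat.fpLift (overMap G.s) (overMap G.t) (pairIso G h𝒳)

theorem pairFun_fst : BasedFunctor.comp (pairFun G h𝒳) (FibCat.fpFst x y) = overMap G.s := rfl

theorem pairFun_snd : BasedFunctor.comp (pairFun G h𝒳) (FibCat.fpSnd x y) = overMap G.t := rfl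

theorem isEquivOver_pairFun : FibCat.IsEquivOver (pairFun G h𝒳) := by
  refine isEquivOver_of ⟨fun {a b} m => ?_⟩ ⟨fun {a b} f g h => ?_⟩ (fun z => ?_)
  · -- full
    have e1 : m.hom.snd.left = m.hom.fst.left := by
      have h1 : (FibCat.overCat V).p.map ((FibCat.fpSnd x y).map m) = (FibCat.overCat U).p.map m.hom.fst := by
        have := Functor.congr_hom (FibCat.fpSnd x y).w m
        simpa using this
      exact h1
    let k : a.left ⟶ b.left := m.hom.fst.left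
    have hs : k ≫ b.hom ≫ G.s = a.hom ≫ G.s := Over.w m.hom.fst
    have ht : k ≫ b.hom ≫ G.t = a.hom ≫ G.t := by
      have := Over.w m.hom.snd
      rw [e1] at this
      exact this
    have e2 : (Over.homMk k ht : (overMap G.t).obj a ⟶ (overMap G.t).obj b) = m.hom.snd := by
      apply Over.OverMorphism.ext
      exact e1.symm
    have e3 : (Over.homMk k hs : (overMap G.s).obj a ⟶ (overMap G.s).obj b) = m.hom.fst := rfl
    have ha := isArr_pairIso G h𝒳 a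
    have hb := isArr_pairIso G h𝒳 b
    have h3 : G.IsArr (u := a.hom ≫ G.s) (v := a.hom ≫ G.t) (k ≫ b.hom) (app (pairIso G h𝒳) a).hom :=
      IsArr.restrict hb k hs ht ha.vert (by
        have hw : x.map m.hom.fst ≫ (app (pairIso G h𝒳) b).hom = (app (pairIso G h𝒳) a).hom ≫ y.map m.hom.snd :=
          m.hom.w
        have h5 : rs y k ht = y.map m.hom.snd := congrArg (fun t => y.map t) e2
        rw [h5]
        exact hw.symm)
    have h4 : k ≫ b.hom = a.hom := h3.pt_unique ha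
    refine ⟨Over.homMk k h4, homFp_ext rfl e2⟩
  · -- faithful
    apply Over.OverMorphism.ext
    exact congrArg (fun t => t.hom.fst.left) h
  · -- essentially surjective
    have hfp : FibCat.IsFibGrpd (FibCat.fp x y).p := isFibGrpd_fp x y (isFibGrpd_overCat U) (isFibGrpd_overCat V) h𝒳
    obtain ⟨u, v, φ, hφ, e, he⟩ := exists_mkO h𝒳 z
    have hev : IsVert (FibCat.fp x y) e := isVert_iff.2 ⟨rfl, he⟩
    have hei := isIso_of_vert hfp hev
    obtain ⟨r, hr⟩ := G.exists_pt φ hφ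
    obtain rfl := hr.hs
    obtain rfl := hr.ht
    have h1 : (app (pairIso G h𝒳) (Over.mk r)).hom = φ := (isArr_pairIso G h𝒳 (Over.mk r)).arr_unique h𝒳 hr
    let i₁ : (pairFun G h𝒳).obj (Over.mk r) ≅ mkO h𝒳 x y (r ≫ G.s) (r ≫ G.t) φ hφ :=
      mkIsoFp (Iso.refl _) (Iso.refl _) (by
        have h2 : x.map (𝟙 ((overMap G.s).obj (Over.mk r))) = 𝟙 _ := x.map_id _
        have h3 : y.map (𝟙 ((overMap G.t).obj (Over.mk r))) = 𝟙 _ := y.map_id _
        change x.map (𝟙 ((overMap G.s).obj (Over.mk r))) ≫ φ =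
          (app (pairIso G h𝒳) (Over.mk r)).hom ≫ y.map (𝟙 ((overMap G.t).obj (Over.mk r)))
        rw [h2, h3, h1]
        exact (Category.id_comp φ).trans (Category.comp_id φ).symm)
    have hv₁ : IsVert (FibCat.fp x y) i₁.hom := vert_fp_iff_fst.2 (IsVert.id _)
    have hv₂ : IsVert (FibCat.fp x y) (@asIso _ _ _ _ e hei).symm.hom :=
      IsVert.inv (e := @asIso _ _ _ _ e hei) hev
    exact ⟨Over.mk r, i₁ ≪≫ (@asIso _ _ _ _ e hei).symm, hv₁.comp hv₂⟩

end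

section Ex

open K739.Isom K739.Diag K739.Rep K734.FpDiag

variable {S : Scheme.{u}} {𝒳 : BasedCategory.{u, u₃} (Over S)} {U V W R : Over S}
  (h𝒳 : FibCat.IsFibGrpd 𝒳.p) {x : FibCat.overCat U ⥤ᵇ 𝒳} {y : FibCat.overCat V ⥤ᵇ 𝒳}
  {a : W ⟶ U} {b : W ⟶ V}

/-- A representation of the Isom presheaf over `U × V` gives a `PairRep`. -/
theorem exists_pairRep_of_psh (hW : ∀ {T : Over S} (u : T ⟶ U) (v : T ⟶ V), ∃ w : T ⟶ W, w ≫ a = u ∧ w ≫ b = v)
    (hW' : ∀ {T : Over S} (w w' : T ⟶ W), w ≫ a = w' ≫ a → w ≫ b = w' ≫ b → w = w')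
    (hS : FibCat.IsFibGrpd (FibCat.selfOver (Over S)).p)
    (φ : BasedFunctor.comp (BasedFunctor.comp (overMap a) x) (FibCat.toSelf 𝒳) ≅
      BasedFunctor.comp (BasedFunctor.comp (overMap b) y) (FibCat.toSelf 𝒳))
    (α : (AlgSp.pyon S).obj R ≅ psh (FibCat.toSelf 𝒳) (BasedFunctor.comp (overMap a) x)
      (BasedFunctor.comp (overMap b) y) φ h𝒳 hS) :
    ∃ (G : PairRep x y R) (π : R ⟶ W), π ≫ a = G.s ∧ π ≫ b = G.t ∧
      α.hom ≫ toBase _ _ _ φ h𝒳 hS = (AlgSp.pyon S).map π := by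
  let r₀ : Sec (FibCat.toSelf 𝒳) (BasedFunctor.comp (overMap a) x) (BasedFunctor.comp (overMap b) y) φ R :=
    α.hom.app (op R) ⟨𝟙 R⟩
  have nat : ∀ {T : Over S} (r : T ⟶ R), IsRes r r₀ (α.hom.app (op T) ⟨r⟩) := fun {T} r => by
    rw [← map_eq_iff h𝒳 hS r r₀]
    have := NatTrans.naturality_apply α.hom r.op (⟨𝟙 R⟩ : ((AlgSp.pyon S).obj R).obj (op R))
    refine this.symm.trans ?_
    congr 1
  refine ⟨⟨r₀.u ≫ a, r₀.u ≫ b, r₀.ψ, sec_vert r₀, ?_⟩, r₀.u, rfl, rfl, ?_⟩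
  · intro T u v ψ hψ
    obtain ⟨w, rfl, rfl⟩ := hW u v
    let s₁ : Sec (FibCat.toSelf 𝒳) (BasedFunctor.comp (overMap a) x) (BasedFunctor.comp (overMap b) y) φ T :=
      mkSec w ψ hψ
    have key : ∀ r : T ⟶ R, (∃ (hs : r ≫ r₀.u ≫ a = w ≫ a) (ht : r ≫ r₀.u ≫ b = w ≫ b),
        ψ ≫ rs y r ht = rs x r hs ≫ r₀.ψ) ↔ α.hom.app (op T) ⟨r⟩ = s₁ := fun r => by
      constructor
      · rintro ⟨hs, ht, hw⟩
        have h1 : r ≫ r₀.u = w := hW' _ _ (by simpa using hs) (by simpa using ht)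
        exact (nat r).unique h𝒳 ⟨h1, hw.symm⟩
      · intro h
        have h1 := nat r
        rw [h] at h1
        obtain ⟨h2, h3⟩ := h1
        have h4 : r ≫ r₀.u = w := h2
        exact ⟨by rw [← Category.assoc, h4], by rw [← Category.assoc, h4], h3.symm⟩
    refine ⟨(α.inv.app (op T) s₁).down, (key _).2 ?_, fun r hr => ?_⟩
    · exact congrArg (fun f => f.app (op T) s₁) α.inv_hom_id
    · have h1 := (key r).1 hr
      have h2 : α.inv.app (op T) (α.hom.app (op T) ⟨r⟩) = ⟨r⟩ :=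
        congrArg (fun f => f.app (op T) (⟨r⟩ : ((AlgSp.pyon S).obj R).obj (op T))) α.hom_inv_id
      rw [h1] at h2
      rw [h2]
  · ext T r
    obtain ⟨r⟩ := r
    exact congrArg ULift.up ((nat r).1).symm

include h𝒳 in
/-- Existence of `PairRep` from the diagonal: `R ⟶ U × V` is a base change of the diagonal. -/
theorem exists_pairRep_of_diag {P : MorphismProperty (AlgSp.Sp S)} [P.RespectsIso]
    (hP : ∀ {F : AlgSp.Sp S} {T : Over S} (f : F ⟶ (AlgSp.yon S).obj T), AlgSp.IsAlgSpace F → P f →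
      AlgSp.LocP (@LocallyQuasiFinite ⊓ @LocallyOfFiniteType) f ∧ AlgSp.IsSeparatedMor f)
    (hΔ : AlgSt.RepByAlgSpWith P (FibCat.diag (FibCat.toSelf 𝒳)))
    (hW : ∀ {T : Over S} (u : T ⟶ U) (v : T ⟶ V), ∃ w : T ⟶ W, w ≫ a = u ∧ w ≫ b = v)
    (hW' : ∀ {T : Over S} (w w' : T ⟶ W), w ≫ a = w' ≫ a → w ≫ b = w' ≫ b → w = w') :
    ∃ (R : Over S) (G : PairRep x y R) (π : R ⟶ W), π ≫ a = G.s ∧ π ≫ b = G.t ∧ P ((AlgSp.yon S).map π) := by
  have hS : FibCat.IsFibGrpd (FibCat.selfOver (Over S)).p := K735.Fp.isFibGrpd_selfOver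
  obtain ⟨F, β, hβ⟩ := (repByAlgSpWith_diag_iff P (FibCat.toSelf 𝒳) h𝒳 hS).1 hΔ W
    (BasedFunctor.comp (overMap a) x) (BasedFunctor.comp (overMap b) y) (selfIso _ _)
  obtain ⟨hl, hs⟩ := hP _ F.property hβ
  obtain ⟨R, ⟨γ⟩⟩ := K613.exists_iso_of_lqf F.property _ hl hs
  let γ' : (AlgSp.pyon S).obj R ≅ F.obj.obj := (sheafToPresheaf (AlgSp.J S) _).mapIso γ
  obtain ⟨G, π, h1, h2, h3⟩ := exists_pairRep_of_psh h𝒳 hW hW' hS (selfIso _ _) (γ' ≪≫ β)
  refine ⟨R, G, π, h1, h2, ?_⟩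
  have h4 : (AlgSp.yon S).map π = γ.hom ≫ ObjectProperty.homMk (β.hom ≫ toBase _ _ _ _ h𝒳 hS) := by
    apply ObjectProperty.hom_ext
    exact h3.symm.trans (Category.assoc _ _ _)
  rw [h4]
  exact (MorphismProperty.cancel_left_of_respectsIso P γ.hom _).2 hβ

end Ex

end K734.Pair
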