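import Groth.Agent.AlgSt.K734.Pair
import Groth.Agent.AlgSt.K734.FpAlg
/-!
K734.PairSp : `PairRep` and `IsRep`.

* `IsRep.precomp`, `IsRep.postcomp` : changing source and target of `f` by equivalences.
* `isRep_of_pair` : `IsRep y (toOverCat U ⋙ x) (yon.map G.s)`.
* `isRep_overMap_comp` : the base change along `x` of `overMap g ⋙ y`.
-/

set_option autoImplicit false
set_option linter.unusedVariables false
set_option backward.isDefEq.respectTransparency false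
set_option backward.isDefEq.respectTransparency.types false

universe w₁ v₁ w' v' w v₇ u₇ v₆ u₆ v₅ u₅ v₄ u₄ v₃ u₃ v₂ u₂ v u

open CategoryTheory CategoryTheory.Limits Opposite AlgebraicGeometry K734.Fib

namespace K734.Rep

open K734.Pair K746

variable {S : Scheme.{u}}

section Inv

variable {𝒳 : BasedCategory.{v₂, u₂} (Over S)} {𝒴 : BasedCategory.{v₃, u₃} (Over S)}
  {𝒵 : BasedCategory.{v₄, u₄} (Over S)} {F G : AlgSp.Sp S}

theorem IsRep.precomp {f : 𝒳 ⥤ᵇ 𝒴} {y : AlgSt.ofSp G ⥤ᵇ 𝒴} {π : F ⟶ G} {a : 𝒵 ⥤ᵇ 𝒳} (ha : FibCat.IsEquivOver a)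
    (h : IsRep (BasedFunctor.comp a f) y π) : IsRep f y π := by
  obtain ⟨e, he, ⟨α⟩⟩ := h
  exact ⟨BasedFunctor.comp e (fpPreR y a f), isEquivOver_comp he (isEquivOver_fpPreR y a ha f), ⟨α⟩⟩

theorem IsRep.postcomp {f : 𝒳 ⥤ᵇ 𝒴} {y : AlgSt.ofSp G ⥤ᵇ 𝒴} {π : F ⟶ G} {c : 𝒴 ⥤ᵇ 𝒵} (hc : FibCat.IsEquivOver c)
    (h : IsRep f y π) : IsRep (BasedFunctor.comp f c) (BasedFunctor.comp y c) π := by
  obtain ⟨e, he, ⟨α⟩⟩ := h
  exact ⟨BasedFunctor.comp e (fpPost y f c), isEquivOver_comp he (isEquivOver_fpPost y f c (full_of hc)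
    (faithful_of hc)), ⟨α⟩⟩

end Inv

section Pair

variable {𝒳 : BasedCategory.{v₂, u₂} (Over S)} {U V R : Over S} {x : FibCat.overCat U ⥤ᵇ 𝒳}
  {y : FibCat.overCat V ⥤ᵇ 𝒳} (G : PairRep x y R) (h𝒳 : FibCat.IsFibGrpd 𝒳.p)

/-- The equivalence `ofSp h_R ≃ fp (toOverCat U ⋙ x) y`. -/
noncomputable def pairSp : AlgSt.ofSp ((AlgSp.yon S).obj R) ⥤ᵇ FibCat.fp (BasedFunctor.comp (AlgSt.toOverCat U) x) y :=
  FibCat.fpLift (AlgSt.ofSpMap ((AlgSp.yon S).map G.s)) (BasedFunctor.comp (AlgSt.toOverCat R) (overMap G.t))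
    (wl (AlgSt.toOverCat R) (pairIso G h𝒳))

theorem pairSp_fst : BasedFunctor.comp (pairSp G h𝒳) (FibCat.fpFst _ _) = AlgSt.ofSpMap ((AlgSp.yon S).map G.s) := rfl

theorem pairSp_snd : BasedFunctor.comp (pairSp G h𝒳) (FibCat.fpSnd _ _) =
    BasedFunctor.comp (AlgSt.toOverCat R) (overMap G.t) := rfl

noncomputable def pairSpIso : BasedFunctor.comp (AlgSt.toOverCat R) (pairFun G h𝒳) ≅
    BasedFunctor.comp (pairSp G h𝒳) (fpPreL (AlgSt.toOverCat U) x y) :=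
  liftExt (Iso.refl _) (Iso.refl _) (fun a => by
    simp only [refl_app, Iso.refl_hom]
    erw [x.map_id, y.map_id, Category.id_comp, Category.comp_id]
    exact fpPreL_iso_hom (AlgSt.toOverCat U) x y ((pairSp G h𝒳).obj a))

theorem isEquivOver_pairSp : FibCat.IsEquivOver (pairSp G h𝒳) := by
  have h1 : FibCat.IsEquivOver (BasedFunctor.comp (AlgSt.toOverCat R) (pairFun G h𝒳)) :=
    isEquivOver_comp (K735.Rep.isEquivOver_toOverCat R) (isEquivOver_pairFun G h𝒳)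
  have h2 := isEquivOver_of_iso (pairSpIso G h𝒳) h1
  exact isEquivOver_of_comp_right (isEquivOver_fpPreL _ (K735.Rep.isEquivOver_toOverCat U) x y) h2

include h𝒳 in
theorem isRep_of_pair : IsRep y (BasedFunctor.comp (AlgSt.toOverCat U) x) ((AlgSp.yon S).map G.s) :=
  ⟨pairSp G h𝒳, isEquivOver_pairSp G h𝒳, ⟨Iso.refl _⟩⟩

/-- A pullback square of schemes over `S`, for `overMap`. -/
theorem isRep_overMap {A B D E : Over S} {fst : E ⟶ A} {snd : E ⟶ B} {f : A ⟶ D} {g : B ⟶ D}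
    (sq : IsPullback fst snd f g) : IsRep (overMap f) (BasedFunctor.comp (AlgSt.toOverCat B) (overMap g))
      ((AlgSp.yon S).map snd) := by
  have sq' := sq.map (AlgSp.yon S)
  have h1 := (isRep_ofSpMap sq').postcomp (K735.Rep.isEquivOver_toOverCat D)
  exact IsRep.precomp (a := AlgSt.toOverCat A) (K735.Rep.isEquivOver_toOverCat A) h1

include h𝒳 in
/-- The base change along `x` of `overMap g ⋙ y`. -/
theorem isRep_overMap_comp {W E : Over S} {g : W ⟶ V} {fst : E ⟶ W} {snd : E ⟶ R} (sq : IsPullback fst snd g G.t) :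
    IsRep (BasedFunctor.comp (overMap g) y) (BasedFunctor.comp (AlgSt.toOverCat U) x)
      ((AlgSp.yon S).map (snd ≫ G.s)) := by
  rw [Functor.map_comp]
  exact IsRep.comp' (e := pairSp G h𝒳) (isEquivOver_pairSp G h𝒳) (Iso.refl _) (isRep_overMap sq)

end Pair

end K734.Rep
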