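import Groth.Agent.AlgSt.K734.Cover
import Groth.Agent.AlgSt.K734.Boot
import Groth.Agent.AlgSt.K740.SpIso
import Groth.Agent.AlgSp.K609.SliceLqf
import Groth.Agent.AlgSp.K616.SmoothDim
import Groth.Agent.AlgSp.K609.SliceMain
import Groth.Agent.Grpsch.Points
import Groth.Agent.Grpsch.CMFibre
import Groth.Agent.S7508
/-!
K734.QDM : locally quasi-finite flat covers of algebraic stacks with locally quasi-finite diagonal.

* `exists_glue` : gluing slices through finite type points of a groupoid.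
* `exists_lqf_chart` : the groupoid of a smooth atlas, and the slice.
* `exists_lqf_cover` : S18333.
-/

set_option autoImplicit false
set_option linter.unusedVariables false
set_option backward.isDefEq.respectTransparency.types false

universe w₁ v₁ w' v' w v₇ u₇ v₆ u₆ v₅ u₅ v₄ u₄ v₃ u₃ v₂ u₂ v u

open CategoryTheory CategoryTheory.Limits Opposite AlgebraicGeometry

namespace K734.QDM

open K594.Elem K594.Cover K594.Basic K609.Slice

variable {S : Scheme.{u}}

/-- Glue slices through all finite type points. -/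
theorem exists_glue {R U : Over S} (s t : R ⟶ U) (e : U ⟶ R) (he1 : e ≫ s = 𝟙 U) (he2 : e ≫ t = 𝟙 U)
    (H : ∀ u : U.left, LocallyOfFiniteType (U.left.fromSpecResidueField u) →
      ∃ (V : Scheme.{u}) (g : V ⟶ U.left) (v : V), g v = u ∧ Flat (pullback.snd g t.left ≫ s.left) ∧
        LocallyOfFinitePresentation (pullback.snd g t.left ≫ s.left) ∧
        LocallyQuasiFinite (pullback.snd g t.left ≫ s.left)) :
    ∃ (W : Over S) (g : W ⟶ U), Flat (pullback.snd g t ≫ s).left ∧
      LocallyOfFinitePresentation (pullback.snd g t ≫ s).left ∧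
      LocallyQuasiFinite (pullback.snd g t ≫ s).left ∧ Surjective (pullback.snd g t ≫ s).left := by
  let ι : Type u := {u : U.left // LocallyOfFiniteType (U.left.fromSpecResidueField u)}
  choose V g₀ v hv hf hl hq using fun i : ι => H i.1 i.2
  let V' : ι → Over S := fun i => Over.mk (g₀ i ≫ U.hom)
  let gV : ∀ i, V' i ⟶ U := fun i => Over.homMk (g₀ i) rfl
  let g : sig V' ⟶ U := sigDesc gV
  have sqP := IsPullback.of_hasPullback g t
  have sqP' : IsPullback (pullback.fst g t).left (pullback.snd g t).left g.left t.left := sqP.map (Over.forget S)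
  -- the pieces
  let Q : ι → Over S := fun i => pullback (gV i) t
  let k : ∀ i, Q i ⟶ pullback g t := fun i => pullback.lift (pullback.fst _ _ ≫ sigι V' i) (pullback.snd _ _) (by
    rw [Category.assoc, sigι_desc, pullback.condition])
  have hk : ∀ i, k i ≫ pullback.snd g t = pullback.snd (gV i) t := fun i => pullback.lift_snd _ _ _
  have hk' : ∀ i, k i ≫ pullback.fst g t = pullback.fst (gV i) t ≫ sigι V' i := fun i => pullback.lift_fst _ _ _
  have sqk : ∀ i, IsPullback (pullback.fst (gV i) t) (k i) (sigι V' i) (pullback.fst g t) := by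
    intro i
    refine IsPullback.of_bot ?_ (hk' i).symm sqP
    exact isPullback_congr (IsPullback.of_hasPullback (gV i) t) rfl (hk i).symm (sigι_desc gV i).symm rfl
  have hko : ∀ i, IsOpenImmersion (k i).left := fun i =>
    MorphismProperty.of_isPullback (P := @IsOpenImmersion) ((sqk i).map (Over.forget S))
      (inferInstanceAs (IsOpenImmersion (Sigma.ι (fun i => (V' i).left) i)))
  have hcov : ∀ x : (pullback g t).left, ∃ (i : ι) (v : (Q i).left), (k i).left v = x := by
    intro x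
    obtain ⟨i, w, hw⟩ := sig_surj V' ((pullback.fst g t).left x)
    obtain ⟨z, -, hz⟩ := exists_pt ((sqk i).map (Over.forget S)) w x hw
    exact ⟨i, z, hz⟩
  have key : ∀ (P : MorphismProperty Scheme.{u}) [IsZariskiLocalAtSource P] [P.RespectsIso],
      (∀ i, P (pullback.snd (g₀ i) t.left ≫ s.left)) → P (pullback.snd g t ≫ s).left := by
    intro P _ _ hP
    refine of_openImmersion_family P (fun i => (Q i).left) (fun i => (k i).left) hcov _ fun i => ?_
    have sqi : IsPullback (pullback.fst (gV i) t).left (pullback.snd (gV i) t).left (g₀ i) t.left :=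
      (IsPullback.of_hasPullback (gV i) t).map (Over.forget S)
    have e1 : (k i).left ≫ (pullback.snd g t ≫ s).left =
        sqi.isoPullback.hom ≫ pullback.snd (g₀ i) t.left ≫ s.left := by
      rw [← Category.assoc sqi.isoPullback.hom, sqi.isoPullback_hom_snd, ← Over.comp_left, ← Category.assoc, hk,
        Over.comp_left]
    rw [e1]
    exact (P.cancel_left_of_respectsIso _ _).2 (hP i)
  have hf' : Flat (pullback.snd g t ≫ s).left := key @Flat hf
  have hl' : LocallyOfFinitePresentation (pullback.snd g t ≫ s).left := key @LocallyOfFinitePresentation hl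
  have hq' : LocallyQuasiFinite (pullback.snd g t ≫ s).left := key @LocallyQuasiFinite hq
  have hsurj : Surjective (pullback.snd g t ≫ s).left := by
    constructor
    by_contra hcon
    have hopen : IsOpen (Set.range (pullback.snd g t ≫ s).left) := (pullback.snd g t ≫ s).left.isOpenMap.isOpen_range
    have hne : ((Set.range (pullback.snd g t ≫ s).left)ᶜ).Nonempty := by
      rw [Set.nonempty_compl]
      exact fun h0 => hcon (Set.range_eq_univ.1 h0)
    obtain ⟨z, hz, hz'⟩ := Groth.Agent.S9341.aux U.left _ hopen.isClosed_compl.isLocallyClosed hne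
    let i : ι := ⟨z, hz'⟩
    have he1' : e.left ≫ s.left = 𝟙 U.left := congrArg CommaMorphism.left he1
    have he2' : e.left ≫ t.left = 𝟙 U.left := congrArg CommaMorphism.left he2
    have e1 : g.left ((sigι V' i).left (v i)) = t.left (e.left z) := by
      rw [← Scheme.Hom.comp_apply, ← Over.comp_left, sigι_desc, ← Scheme.Hom.comp_apply, he2']
      exact hv i
    obtain ⟨p, -, hp⟩ := exists_pt sqP' _ _ e1
    refine hz ⟨p, ?_⟩
    change ((pullback.snd g t).left ≫ s.left) p = z
    rw [Scheme.Hom.comp_apply, hp, ← Scheme.Hom.comp_apply, he1']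
    rfl
  exact ⟨sig V', g, hf', hl', hq', hsurj⟩

end K734.QDM

namespace K734.QDM

open K746 K734.Fib K734.Rep

variable {S : Scheme.{u}}

/-- `s` and `t` of a chart groupoid have the same properties. -/
theorem prop_t {𝒳 : BasedCategory.{v₂, u₂} (Over S)} (h𝒳 : FibCat.IsFibGrpd 𝒳.p) {U R : Over S}
    {x : FibCat.overCat U ⥤ᵇ 𝒳} (G : PairRep x x R) (P : MorphismProperty Scheme.{u}) [P.RespectsIso]
    (h : P G.s.left) : P G.t.left :=
  (Groth.Agent.Grpsch.Points.s_iff_t (ChartRep.toOGpd G h𝒳).toGpd P).1 h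

theorem cm_of_smooth {X Y : Scheme.{u}} (f : X ⟶ Y) [Smooth f] (x : X) : Grpd.IsCMAt f x :=
  (Groth.Agent.Grpsch.CMFibre.isCMAt_iff f x).2 (K616.SmoothDim.isCMAt_of_smooth f x)

/-- The slice of the groupoid of a smooth chart. -/
theorem exists_slice {𝒳 : BasedCategory.{v₂, u₂} (Over S)} (h𝒳 : FibCat.IsFibGrpd 𝒳.p) {U R : Over S}
    {x : FibCat.overCat U ⥤ᵇ 𝒳} (G : PairRep x x R) (hs : Smooth G.s.left)
    (hj : (@LocallyQuasiFinite ⊓ @LocallyOfFiniteType : MorphismProperty Scheme.{u})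
      (ChartRep.toOGpd G h𝒳).toGpd.j) :
    ∃ (W : Over S) (g : W ⟶ U), Flat (pullback.snd g G.t ≫ G.s).left ∧
      LocallyOfFinitePresentation (pullback.snd g G.t ≫ G.s).left ∧
      LocallyQuasiFinite (pullback.snd g G.t ≫ G.s).left ∧ Surjective (pullback.snd g G.t ≫ G.s).left := by
  have ht : Smooth G.t.left := prop_t h𝒳 G @Smooth hs
  refine exists_glue G.s G.t (ChartRep.toOGpd G h𝒳).e (ChartRep.toOGpd G h𝒳).e_s (ChartRep.toOGpd G h𝒳).e_t ?_
  intro u hu
  have i1 : LocallyOfFinitePresentation (ChartRep.toOGpd G h𝒳).toGpd.s :=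
    (inferInstance : LocallyOfFinitePresentation G.s.left)
  have i2 : LocallyOfFinitePresentation (ChartRep.toOGpd G h𝒳).toGpd.t :=
    (inferInstance : LocallyOfFinitePresentation G.t.left)
  have j1 : LocallyQuasiFinite (ChartRep.toOGpd G h𝒳).toGpd.j := hj.1
  have j2 : LocallyOfFiniteType (ChartRep.toOGpd G h𝒳).toGpd.j := hj.2
  have i3 : LocallyOfFiniteType (ChartRep.toOGpd G h𝒳).toGpd.stabilizerToU :=
    inferInstanceAs (LocallyOfFiniteType (pullback.snd (ChartRep.toOGpd G h𝒳).toGpd.j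
      (ChartRep.toOGpd G h𝒳).toGpd.diag))
  have i4 : LocallyQuasiFinite (ChartRep.toOGpd G h𝒳).toGpd.stabilizerToU :=
    inferInstanceAs (LocallyQuasiFinite (pullback.snd (ChartRep.toOGpd G h𝒳).toGpd.j
      (ChartRep.toOGpd G h𝒳).toGpd.diag))
  obtain ⟨V, hV, g, v, -, -, h1, ⟨h2, h3, -, h4⟩, -⟩ := Groth.Agent.S7508.result S (ChartRep.toOGpd G h𝒳).toGpd
    (fun r => cm_of_smooth G.s.left r) (fun r => cm_of_smooth G.t.left r) u hu
  exact ⟨V, g, v, h1, h2, h3, h4⟩

theorem nice_lqf : Nice (S := S) (AlgSp.LocP (@LocallyQuasiFinite ⊓ @LocallyOfFiniteType)) := by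
  have := K597.stableBC_inf @LocallyQuasiFinite.{u} @LocallyOfFiniteType.{u}
  have := K597.stableComp_inf @LocallyQuasiFinite.{u} @LocallyOfFiniteType.{u}
  exact nice_locP K597.etLoc_lqf (K627.FpqcLocPInst.lqf S)

theorem locP_yon {P : MorphismProperty Scheme.{u}} [P.IsStableUnderBaseChange] {X Y : Over S} (f : X ⟶ Y)
    (hpre : ∀ ⦃A B C : Scheme.{u}⦄ (e : A ⟶ B) (f : B ⟶ C), Etale e → P f → P (e ≫ f)) (h : P f.left) :
    AlgSp.LocP P ((AlgSp.yon S).map f) :=
  K597.locP_of_repWith hpre ((AlgSp.repWith_yon_map_iff P f).2 h)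

/-- S18333 -/
theorem exists_lqf_cover (𝒳 : AlgSt.Cat S) (h : AlgSt.IsAlgStack Scheme.fppfPrecoverage 𝒳)
    (hΔ : AlgSt.RepByAlgSpWith AlgSp.IsSeparatedMor (FibCat.diag (FibCat.toSelf 𝒳)))
    (hqf : AlgSt.IsQuasiDMOver 𝒳) :
    ∃ (W : Over S) (w : FibCat.overCat W ⥤ᵇ 𝒳),
      AlgSt.RepByAlgSpWith
        (AlgSp.LocP (@Flat ⊓ @LocallyOfFinitePresentation ⊓ @LocallyQuasiFinite) ⊓ AlgSp.IsSurjectiveMor) w := by
  have h𝒳 : FibCat.IsFibGrpd 𝒳.p := h.isStack.1
  obtain ⟨U, x, hx, hxs⟩ := h.atlas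
  have hΔ' : AlgSt.RepByAlgSpWith (AlgSp.IsSeparatedMor ⊓
      AlgSp.LocP (@LocallyQuasiFinite ⊓ @LocallyOfFiniteType)) (FibCat.diag (FibCat.toSelf 𝒳)) := by
    have := (nice_lqf (S := S)).bc.respectsIso
    exact K740.SpIso.repByAlgSpWith_inf hΔ hqf
  have hR : (AlgSp.IsSeparatedMor ⊓
      AlgSp.LocP (@LocallyQuasiFinite ⊓ @LocallyOfFiniteType) : MorphismProperty (AlgSp.Sp S)).RespectsIso := by
    have := (nice_lqf (S := S)).bc.respectsIso
    infer_instance
  let W₀ : Over S := Over.mk (pullback.fst U.hom U.hom ≫ U.hom)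
  let a : W₀ ⟶ U := Over.homMk (pullback.snd U.hom U.hom) pullback.condition.symm
  let b : W₀ ⟶ U := Over.homMk (pullback.fst U.hom U.hom) rfl
  obtain ⟨R, G, π, h1, h2, h3⟩ := K734.Pair.exists_pairRep_of_diag h𝒳 (x := x) (y := x) (a := a) (b := b)
    (fun f _ hf => ⟨hf.2, hf.1⟩) hΔ' (fun {T} u v => ⟨Over.homMk (pullback.lift v.left u.left (by
      rw [Over.w, Over.w])) (by
        change pullback.lift _ _ _ ≫ pullback.fst _ _ ≫ U.hom = T.hom
        rw [pullback.lift_fst_assoc, Over.w]), by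
        ext; exact pullback.lift_snd _ _ _, by ext; exact pullback.lift_fst _ _ _⟩)
    (fun w w' ha hb => by
      ext
      refine pullback.hom_ext ?_ ?_
      · exact congrArg CommaMorphism.left hb
      · exact congrArg CommaMorphism.left ha)
  have hπ : π.left = (ChartRep.toOGpd G h𝒳).toGpd.j := by
    refine pullback.hom_ext ?_ ?_
    · refine Eq.trans ?_ (pullback.lift_fst _ _ _).symm
      exact congrArg CommaMorphism.left h2
    · refine Eq.trans ?_ (pullback.lift_snd _ _ _).symm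
      exact congrArg CommaMorphism.left h1
  have hj : (@LocallyQuasiFinite ⊓ @LocallyOfFiniteType : MorphismProperty Scheme.{u})
      (ChartRep.toOGpd G h𝒳).toGpd.j := by
    rw [← hπ]
    exact AlgSp.locP_yon_map h3.2
  have hs : Smooth G.s.left := by
    have e1 := IsRep.prop nice_smooth.bc nice_smooth.loc hx (AlgSp.IsAlgSpace.yon_obj U) (isRep_of_pair G h𝒳)
    exact AlgSp.locP_yon_map e1
  obtain ⟨W, g, g1, g2, g3, g4⟩ := exists_slice h𝒳 G hs hj
  have hrep : AlgSt.RepByAlgSp1 (BasedFunctor.comp (overMap g) x) :=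
    (K740.DiagRep.repByAlgSp1_diag_iff h𝒳).1 h.diag W _
  have hI := isRep_overMap_comp G h𝒳 (IsPullback.of_hasPullback g G.t)
  have hN : Nice (S := S) (AlgSp.LocP @Flat ⊓ AlgSp.LocP @LocallyOfFinitePresentation ⊓
      AlgSp.LocP (@LocallyQuasiFinite ⊓ @LocallyOfFiniteType) ⊓ AlgSp.IsSurjectiveMor) :=
    ((nice_flat.inf nice_lfp).inf nice_lqf).inf nice_surj
  have hcov := hN.of_cover hrep (AlgSp.IsAlgSpace.yon_obj U) (BasedFunctor.comp (AlgSt.toOverCat U) x)
    ((repByAlgSpWith_precomp_iff (K735.Rep.isEquivOver_toOverCat U) x).2 (flat_of_smooth hx))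
    ((repByAlgSpWith_precomp_iff (K735.Rep.isEquivOver_toOverCat U) x).2 (lfp_of_smooth hx))
    ((repByAlgSpWith_precomp_iff (K735.Rep.isEquivOver_toOverCat U) x).2 hxs) hI
    ⟨⟨⟨locP_yon (P := @Flat) _ (fun _ _ _ _ _ _ _ => inferInstance) g1,
      locP_yon (P := @LocallyOfFinitePresentation) _ (fun _ _ _ _ _ _ _ => inferInstance) g2⟩, by
      rw [K597.locP_inf_iff]
      exact ⟨locP_yon (P := @LocallyQuasiFinite) _ (fun _ _ _ e f he hf => by
          have := K597.locallyQuasiFinite_of_etale e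
          exact (inferInstance : LocallyQuasiFinite (e ≫ f))) g3,
        locP_yon (P := @LocallyOfFiniteType) _ (fun _ _ _ _ _ _ _ => inferInstance) inferInstance⟩⟩,
      K609.Points.surjective_map_of_repWith_surjective ((AlgSp.repWith_yon_map_iff @Surjective _).2 g4)⟩
  refine ⟨W, BasedFunctor.comp (overMap g) x, K740.SpIso.repByAlgSpWith_imp hcov ?_⟩
  rintro F V q ⟨⟨⟨q1, q2⟩, q3⟩, q4⟩
  rw [K597.locP_inf_iff] at q3
  refine ⟨?_, q4⟩
  rw [K597.locP_inf_iff, K597.locP_inf_iff]
  exact ⟨⟨q1, q2⟩, q3.1⟩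

end K734.QDM
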