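import Groth.Agent.AlgSt.K734.QDM
import Groth.Agent.AlgSt.K741.QcqsS
import Groth.Agent.AlgSp.K634.FiniteMor
import Groth.Agent.S12972
import Groth.Agent.S12975
/-!
K734.Wna0 : an algebraic stack with finite inertia has separated, locally quasi-finite diagonal.
-/

set_option autoImplicit false
set_option linter.unusedVariables false
set_option backward.isDefEq.respectTransparency.types false

universe u

open CategoryTheory CategoryTheory.Limits Opposite AlgebraicGeometry

namespace K734.KM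

variable {S : Scheme.{u}}

theorem sep_of_finiteMor {F G : AlgSp.Sp S} {f : F ⟶ G} (h : AlgSp.IsFiniteMor f) : AlgSp.IsSeparatedMor f := by
  rw [K634.FiniteMor.isFiniteMor_iff] at h
  exact (K595.DiagBasic.isSeparatedMor_iff_repWith h.1).2 (K597.repWith_mono (fun _ _ g hg => by
    have : IsFinite g := hg
    infer_instance) h)

theorem lqf_of_finiteMor {F G : AlgSp.Sp S} {f : F ⟶ G} (h : AlgSp.IsFiniteMor f) :
    AlgSp.LocP (@LocallyQuasiFinite ⊓ @LocallyOfFiniteType) f := by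
  rw [K634.FiniteMor.isFiniteMor_iff] at h
  rw [K597.locP_inf_iff]
  have h1 : AlgSp.RepWith @LocallyQuasiFinite f := K597.repWith_mono (fun _ _ g hg => by
    have : IsFinite g := hg
    infer_instance) h
  have h2 : AlgSp.RepWith @LocallyOfFiniteType f := K597.repWith_mono (fun _ _ g hg => by
    have : IsFinite g := hg
    infer_instance) h
  exact ⟨K597.locP_of_repWith (P := @LocallyQuasiFinite) (fun _ _ _ e f he hf => by
    have := K597.locallyQuasiFinite_of_etale e
    have : LocallyQuasiFinite f := hf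
    exact (inferInstance : LocallyQuasiFinite (e ≫ f))) h1,
    K597.locP_of_repWith (P := @LocallyOfFiniteType) (fun _ _ _ e f he hf => by
      have : LocallyOfFiniteType f := hf
      exact (inferInstance : LocallyOfFiniteType (e ≫ f))) h2⟩

variable {𝒳 : AlgSt.Cat S}

theorem sep_of_inertia (h𝒳 : AlgSt.IsAlgStack Scheme.fppfPrecoverage 𝒳)
    (hI : AlgSt.RepByAlgSpWith AlgSp.IsFiniteMor (FibCat.inertiaToBase (FibCat.toSelf 𝒳))) :
    AlgSt.RepByAlgSpWith AlgSp.IsSeparatedMor (FibCat.diag (FibCat.toSelf 𝒳)) :=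
  ((Groth.Agent.S12972.result S 𝒳 (FibCat.selfOver (Over S)) h𝒳 (K741.isAlgStack_selfOver S)
    (FibCat.toSelf 𝒳)).out 0 1).1 (K740.SpIso.repByAlgSpWith_imp hI (fun _ _ _ h => sep_of_finiteMor h))

theorem lqf_of_inertia (h𝒳 : AlgSt.IsAlgStack Scheme.fppfPrecoverage 𝒳)
    (hI : AlgSt.RepByAlgSpWith AlgSp.IsFiniteMor (FibCat.inertiaToBase (FibCat.toSelf 𝒳))) :
    AlgSt.IsQuasiDMOver 𝒳 :=
  (Groth.Agent.S12975.result S 𝒳 (FibCat.selfOver (Over S)) h𝒳 (K741.isAlgStack_selfOver S)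
    (FibCat.toSelf 𝒳)).1 (K740.SpIso.repByAlgSpWith_imp hI (fun _ _ _ h => lqf_of_finiteMor h))

/-- A flat lfp lqf surjective chart of an algebraic stack with finite inertia. -/
theorem exists_cover (h𝒳 : AlgSt.IsAlgStack Scheme.fppfPrecoverage 𝒳)
    (hI : AlgSt.RepByAlgSpWith AlgSp.IsFiniteMor (FibCat.inertiaToBase (FibCat.toSelf 𝒳))) :
    ∃ (W : Over S) (w : FibCat.overCat W ⥤ᵇ 𝒳), AlgSt.RepByAlgSpWith
      (AlgSp.LocP (@Flat ⊓ @LocallyOfFinitePresentation ⊓ @LocallyQuasiFinite) ⊓ AlgSp.IsSurjectiveMor) w :=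
  K734.QDM.exists_lqf_cover 𝒳 h𝒳 (sep_of_inertia h𝒳 hI) (lqf_of_inertia h𝒳 hI)

end K734.KM
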