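import Groth.Agent.AlgSt.K734.Wna2
/-!
K734.Wna1 : the stack of finite open pieces of a (not necessarily surjective) flat lfp lqf separated chart.
-/

set_option autoImplicit false
set_option linter.unusedVariables false
set_option backward.isDefEq.respectTransparency false
set_option backward.isDefEq.respectTransparency.types false

universe u

open CategoryTheory CategoryTheory.Limits Opposite AlgebraicGeometry K735.Fib K735.Fp

namespace K734.KM

open K749.Hilb K746 AlgSp K899.OpenCrit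

variable {S : Scheme.{u}} {𝒳 : AlgSt.Cat S} {V : Over S}

theorem exists_repAt' (h𝒳 : FibCat.IsFibGrpd 𝒳.p) {v : FibCat.overCat V ⥤ᵇ 𝒳}
    (hv : AlgSt.RepByAlgSpWith (LocP (@Flat ⊓ @LocallyOfFinitePresentation ⊓ @LocallyQuasiFinite) ⊓
      IsSeparatedMor) v) (x : 𝒳.obj) :
    ∃ r : RepAt v x, Flat (str₀ v r.a).left ∧ LocallyOfFinitePresentation (str₀ v r.a).left ∧
      LocallyQuasiFinite (str₀ v r.a).left ∧ IsSeparated (str₀ v r.a).left := by
  obtain ⟨F, π, ⟨hπ₁, hπ₃⟩, ⟨R⟩⟩ := K738.repByAlgSpWith_iff_secRep.1 hv (𝒳.p.obj x) (yonF h𝒳 x rfl)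
  have hl : LocP (@LocallyQuasiFinite ⊓ @LocallyOfFiniteType) π := K597.locP_mono (fun A B f hf => by
    obtain ⟨⟨h1, h2⟩, h3⟩ := hf
    have := h1; have := h2; have := h3
    exact ⟨inferInstance, inferInstance⟩) hπ₁
  obtain ⟨W, i, w, hw⟩ := exists_iso_yon hl hπ₃
  obtain ⟨r, hA, hr⟩ := exists_repAt v h𝒳 (yonFIso h𝒳 x rfl) (vert_yonFIso h𝒳 x rfl)
    (K749.Hilb.secRepOfIso R i ((yon S).map w) hw)
  have hc : ∀ (P : MorphismProperty (Sp S)) [P.RespectsIso], P π → P ((yon S).map w) := fun P _ h =>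
    (MorphismProperty.cancel_left_of_respectsIso P i.hom _).1 (by rw [hw]; exact h)
  have hA' : IsIso (eqToHom hA).left := inferInstanceAs (IsIso ((Over.forget S).map (eqToHom hA)))
  have hr' : (str₀ v r.a).left = (eqToHom hA).left ≫ w.left := by rw [hr]; rfl
  have k1 : Flat w.left := (locP_yon_etLoc K597.etLoc_flat w).1 (hc (LocP @Flat)
    (K597.locP_mono (fun A B f hf => hf.1.1) hπ₁))
  have k2 : LocallyOfFinitePresentation w.left := (locP_yon_etLoc K597.etLoc_lfp w).1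
    (hc (LocP @LocallyOfFinitePresentation) (K597.locP_mono (fun A B f hf => hf.1.2) hπ₁))
  have k3 : LocallyQuasiFinite w.left := ((K738.locP_yon_iff (Or.inr (Or.inr (Or.inr (Or.inr (Or.inr (Or.inl
    fun A B g => Iff.rfl)))))) w).1 (hc (LocP (@LocallyQuasiFinite ⊓ @LocallyOfFiniteType)) hl)).1
  have k4 : IsSeparated w.left := (isSeparatedMor_yon_map_iff w).1 (hc _ hπ₃)
  refine ⟨r, ?_, ?_, ?_, ?_⟩
  all_goals
    rw [hr']
    infer_instance

/-- `Dat` for a chart which need not be surjective. -/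
theorem exists_dat' (h𝒳 : FibCat.IsFibGrpd 𝒳.p) {v : FibCat.overCat V ⥤ᵇ 𝒳}
    (hv : AlgSt.RepByAlgSpWith (LocP (@Flat ⊓ @LocallyOfFinitePresentation ⊓ @LocallyQuasiFinite) ⊓
      IsSeparatedMor) v) : Nonempty (Dat v) := by
  choose r h1 h2 h3 h4 using exists_repAt' h𝒳 hv
  exact ⟨⟨h𝒳, r, h1, h2, h3, h4⟩⟩

theorem repByAlgSpWith_Wf' (X : K749.Clopen.Fam 𝒳.p) :
    AlgSt.RepByAlgSpWith (AlgSp.IsEtaleMor ⊓ AlgSp.IsSeparatedMor) X.Wf := by
  refine K738.repByAlgSpWith_of_secRep fun U y => ?_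
  exact ⟨⟨(X.comap y).E, (X.comap y).isAlgSpace⟩, (X.comap y).proj, ⟨(X.comap y).isEtaleMor_proj,
    (X.comap y).isSeparatedMor_proj⟩, X.secRep_W y⟩

theorem isAlgStack_W (h𝒳 : AlgSt.IsAlgStack Scheme.fppfPrecoverage 𝒳) (X : K749.Clopen.Fam 𝒳.p) :
    AlgSt.IsAlgStack Scheme.fppfPrecoverage X.W :=
  Groth.Agent.S12768.result (X.isFibGrpd_W h𝒳.isStack.1) h𝒳 X.Wf (K739.Alg.repByAlgSp1_of (repByAlgSpWith_Wf' X))

variable {v : FibCat.overCat V ⥤ᵇ 𝒳} (d : Dat v)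

/-- `V ×_𝒳 𝒲` is a scheme, étale and separated over `V`. -/
theorem exists_P' : ∃ (W : Over S) (w : W ⟶ V) (κ : FibCat.overCat W ⥤ᵇ d.P), FibCat.IsEquivOver κ ∧
    IsSeparated w.left ∧ LocallyQuasiFinite w.left ∧ LocallyOfFiniteType w.left := by
  obtain ⟨R⟩ := d.X.secRep_W v
  have h1 : LocP (@LocallyQuasiFinite ⊓ @LocallyOfFiniteType) (d.X.comap v).proj := K597.locP_mono (fun A B f hf => by
    have := hf
    exact ⟨K597.locallyQuasiFinite_of_etale f, inferInstance⟩) (K597.locP_etale_of_isEtaleMor (d.X.comap v).isEtaleMor_proj)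
  obtain ⟨W, i, w, hw⟩ := exists_iso_yon (F := ⟨(d.X.comap v).E, (d.X.comap v).isAlgSpace⟩) h1
    (d.X.comap v).isSeparatedMor_proj
  obtain ⟨e, he, -⟩ := (K749.Hilb.secRepOfIso R i ((yon S).map w) hw).exists_equiv
  have hc : ∀ (P : MorphismProperty (Sp S)) [P.RespectsIso], P (d.X.comap v).proj → P ((yon S).map w) := fun P _ h =>
    (MorphismProperty.cancel_left_of_respectsIso P i.hom _).1 (by rw [hw]; exact h)
  have h3 := (K738.locP_yon_iff (Or.inr (Or.inr (Or.inr (Or.inr (Or.inr (Or.inl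
    fun A B g => Iff.rfl)))))) w).1 (hc (LocP (@LocallyQuasiFinite ⊓ @LocallyOfFiniteType)) h1)
  exact ⟨W, w, BasedFunctor.comp (AlgSt.ofOverCat W) e,
    K734.Fib.isEquivOver_comp (K735.Rep.isEquivOver_ofOverCat W) he,
    (isSeparatedMor_yon_map_iff w).1 (hc _ (d.X.comap v).isSeparatedMor_proj), h3.1, h3.2⟩

/-- The universal finite open piece is a scheme, separated and locally quasi-finite over `V`. -/
theorem exists_Z' : ∃ (Z : Over S) (t : Z ⟶ V) (e : FibCat.overCat Z ⥤ᵇ d.Zc), FibCat.IsEquivOver e ∧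
    IsSeparated t.left ∧ LocallyQuasiFinite t.left ∧ LocallyOfFiniteType t.left := by
  obtain ⟨W, w, κ, hκ, hw, hw2, hw3⟩ := exists_P' d
  obtain ⟨F, e, he, h⟩ := d.isOpenImm_incl W κ
  obtain ⟨Z, ⟨i⟩⟩ := K737.RepW.exists_yon_iso _ h
  have hi : RepWith @IsOpenImmersion (i.hom ≫ AlgSt.spMapOfOver (BasedFunctor.comp e (FibCat.fpFst κ d.incl))) :=
    (MorphismProperty.cancel_left_of_respectsIso _ i.hom _).2 h
  obtain ⟨z, hz⟩ := (yon S).map_surjective
    (i.hom ≫ AlgSt.spMapOfOver (BasedFunctor.comp e (FibCat.fpFst κ d.incl)))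
  rw [← hz] at hi
  have hz' : IsOpenImmersion z.left := (repWith_yon_map_iff _ z).1 hi
  refine ⟨Z, z ≫ w, BasedFunctor.comp (BasedFunctor.comp (BasedFunctor.comp (AlgSt.ofOverCat Z)
    (AlgSt.ofSpMap i.hom)) e) (FibCat.fpSnd κ d.incl), ?_, ?_, ?_, ?_⟩
  · refine K734.Fib.isEquivOver_comp (K734.Fib.isEquivOver_comp (K734.Fib.isEquivOver_comp
      (K735.Rep.isEquivOver_ofOverCat Z) ?_) he) (K734.Fib.isEquivOver_fpSnd κ d.incl hκ)
    exact (K734.Rep.isEquivOver_ofSpMap_iff i.hom).2 inferInstance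
  · change IsSeparated (z.left ≫ w.left)
    infer_instance
  · change LocallyQuasiFinite (z.left ≫ w.left)
    infer_instance
  · change LocallyOfFiniteType (z.left ≫ w.left)
    infer_instance

/-- The finite locally free chart of the stack of finite open pieces. -/
theorem exists_chart_W : ∃ (Z : Over S) (t : Z ⟶ V) (z : FibCat.overCat Z ⥤ᵇ d.X.W),
    IsSeparated t.left ∧ LocallyQuasiFinite t.left ∧ LocallyOfFiniteType t.left ∧
    AlgSt.RepByAlgSpWith (WnaP S) z := by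
  obtain ⟨Z, t, e, he, h1, h2, h3⟩ := exists_Z' d
  refine ⟨Z, t, BasedFunctor.comp e (BasedFunctor.comp d.incl (FibCat.fpSnd v d.X.Wf)), h1, h2, h3, ?_⟩
  refine (K734.Rep.repByAlgSpWith_precomp_iff he _).2 ?_
  refine K740.SpIso.repByAlgSpWith_imp d.repByAlgSpWith_incl_fpSnd ?_
  rintro F U q ⟨⟨hq1, hq2⟩, hq3⟩
  rw [K597.locP_inf_iff] at hq2
  exact ⟨⟨⟨hq3, hq2.1⟩, hq1⟩, hq2.2⟩

end K734.KM
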