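import Groth.Agent.AlgSt.K734.Wna0
import Groth.Agent.AlgSt.K749.HilbF
import Groth.Agent.AlgSt.K746.WnaRep
import Groth.Agent.S1881
/-!
K734.Wna2 : well-nigh affine open substacks.

* `exists_repAt_fin` : the fibre of a finite chart over an object.
* `exists_wna` : an algebraic stack with a finite locally free chart `Z`, all finite subsets of `Z` being contained in affine
  opens, is covered by well-nigh affine open substacks.
-/

set_option autoImplicit false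
set_option linter.unusedVariables false
set_option backward.isDefEq.respectTransparency false
set_option backward.isDefEq.respectTransparency.types false

universe u

open CategoryTheory CategoryTheory.Limits Opposite AlgebraicGeometry K735.Fib K735.Fp

namespace K734.KM

open K749.Hilb K746 AlgSp K899.OpenCrit

variable {S : Scheme.{u}} {𝒳 : AlgSt.Cat S} {V : Over S}

theorem exists_repAt_fin (h𝒳 : FibCat.IsFibGrpd 𝒳.p) {v : FibCat.overCat V ⥤ᵇ 𝒳}
    (hv : AlgSt.RepByAlgSpWith (WnaP S) v) (x : 𝒳.obj) :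
    ∃ r : RepAt v x, IsFinite (str₀ v r.a).left ∧ Surjective (str₀ v r.a).left := by
  obtain ⟨F, π, ⟨⟨⟨hπ₁, hπ₂⟩, hπ₃⟩, hπ₄⟩, ⟨R⟩⟩ := K738.repByAlgSpWith_iff_secRep.1 hv (𝒳.p.obj x) (yonF h𝒳 x rfl)
  obtain ⟨W, i, w, hw⟩ := exists_iso_yon (lqf_of_finiteMor hπ₃) (sep_of_finiteMor hπ₃)
  obtain ⟨r, hA, hr⟩ := exists_repAt v h𝒳 (yonFIso h𝒳 x rfl) (vert_yonFIso h𝒳 x rfl)
    (K749.Hilb.secRepOfIso R i ((yon S).map w) hw)
  have hA' : IsIso (eqToHom hA).left := inferInstanceAs (IsIso ((Over.forget S).map (eqToHom hA)))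
  have hr' : (str₀ v r.a).left = (eqToHom hA).left ≫ w.left := by rw [hr]; rfl
  have k1 : IsFinite w.left := by
    rw [K634.FiniteMor.isFiniteMor_iff] at hπ₃
    exact (repWith_yon_map_iff _ w).1 ((MorphismProperty.cancel_left_of_respectsIso (RepWith @IsFinite) i.hom _).1 (by
      rw [hw]; exact hπ₃))
  have k5 : Surjective w.left := surj_of_yon
    ((MorphismProperty.cancel_left_of_respectsIso IsSurjectiveMor i.hom _).1 (by rw [hw]; exact hπ₁))
  refine ⟨r, ?_, ?_⟩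
  all_goals
    rw [hr']
    infer_instance

/-- The objects whose fibre in the chart lies over the open `O` of the chart. -/
def QO (v : FibCat.overCat V ⥤ᵇ 𝒳) (O : V.left.Opens) (x : 𝒳.obj) : Prop :=
  ∀ (B : Over V) (_ : v.obj B ⟶ x), Set.range B.hom.left ⊆ (O : Set V.left)

theorem hasOpenLocus_QO (h𝒳 : FibCat.IsFibGrpd 𝒳.p) {v : FibCat.overCat V ⥤ᵇ 𝒳}
    (hv : AlgSt.RepByAlgSpWith (WnaP S) v) (O : V.left.Opens) : HasOpenLocus (QO v O) := by
  choose r hr _ using exists_repAt_fin h𝒳 hv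
  intro x
  have hf := hr x
  let p : (r x).A.left.left ⟶ (𝒳.p.obj x).left := (str₀ v (r x).a).left
  let C : Set (r x).A.left.left := ((r x).A.hom.left ⁻¹' (O : Set V.left))ᶜ
  have hC : IsClosed C := (O.isOpen.preimage (r x).A.hom.left.continuous).isClosed_compl
  have hpC : IsClosed (p '' C) := by
    have : IsFinite p := hf
    exact p.isClosedMap C hC
  refine ⟨⟨(p '' C)ᶜ, hpC.isOpen_compl⟩, fun y φ => ⟨?_, ?_⟩⟩
  · rintro hy _ ⟨s, rfl⟩ ⟨e, he, hes⟩
    obtain ⟨e', he', -⟩ := K609.Slice.exists_pt ((isPullback_str₀ h𝒳 r φ).map (Over.forget S)) e s hes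
    refine he ?_
    have h1 := hy (r y).A (r y).a
    let e'' : (r y).A.left.left := e'
    have hφ : ((radj r).map φ).left.left ≫ (r x).A.hom.left = (r y).A.hom.left :=
      congrArg CommaMorphism.left (Over.w ((radj r).map φ))
    have h2 : (r y).A.hom.left e'' = (r x).A.hom.left e := by
      rw [← hφ, Scheme.Hom.comp_apply]
      exact congrArg _ he'
    change (r x).A.hom.left e ∈ (O : Set V.left)
    rw [← h2]
    exact h1 ⟨e'', rfl⟩
  · rintro hy B b _ ⟨t, rfl⟩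
    by_contra hcon
    let k : B ⟶ (r x).A := (r x).k (b ≫ φ)
    have hk : k.left ≫ (r x).A.hom = B.hom := Over.w k
    have h1 : str₀ v (b ≫ φ) = k.left ≫ str₀ v (r x).a := by
      rw [← (r x).k_spec (b ≫ φ), str₀_comp]
    have h2 : str₀ v b ≫ 𝒳.p.map φ = k.left ≫ str₀ v (r x).a := by rw [← h1, str₀_comp']
    refine hy ⟨(str₀ v b).left t, rfl⟩ ⟨k.left.left t, ?_, ?_⟩
    · intro hmem
      refine hcon ?_
      have h3 : (r x).A.hom.left (k.left.left t) = B.hom.left t := by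
        rw [← Scheme.Hom.comp_apply, ← Over.comp_left, hk]
      rw [← h3]
      exact hmem
    · change ((str₀ v (r x).a).left) (k.left.left t) = (𝒳.p.map φ).left ((str₀ v b).left t)
      rw [← Scheme.Hom.comp_apply, ← Scheme.Hom.comp_apply, ← Over.comp_left, ← Over.comp_left, h2]

theorem exists_fin_pair (h𝒳 : FibCat.IsFibGrpd 𝒳.p) {v : FibCat.overCat V ⥤ᵇ 𝒳}
    (hv : AlgSt.RepByAlgSpWith (WnaP S) v) : ∃ (R : Over S) (G : PairRep v v R), IsFinite G.s.left ∧ Flat G.s.left ∧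
      LocallyOfFinitePresentation G.s.left := by
  obtain ⟨F, π, ⟨⟨⟨hπ₁, hπ₂⟩, hπ₃⟩, hπ₄⟩, ⟨R⟩⟩ := K738.repByAlgSpWith_iff_secRep.1 hv V v
  obtain ⟨W, i, w, hw⟩ := exists_iso_yon (lqf_of_finiteMor hπ₃) (sep_of_finiteMor hπ₃)
  obtain ⟨G, hG⟩ := exists_pairRep h𝒳 (K749.Hilb.secRepOfIso R i ((yon S).map w) hw)
  obtain rfl : w = G.s := (AlgSp.yon S).map_injective hG
  have hc : ∀ (P : MorphismProperty (Sp S)) [P.RespectsIso], P π → P ((yon S).map G.s) := fun P _ h =>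
    (MorphismProperty.cancel_left_of_respectsIso P i.hom _).1 (by rw [hw]; exact h)
  refine ⟨W, G, ?_, AlgSp.locP_yon_map (hc _ hπ₂), AlgSp.locP_yon_map (hc _ hπ₄)⟩
  rw [K634.FiniteMor.isFiniteMor_iff] at hπ₃
  exact (repWith_yon_map_iff _ G.s).1 (hc _ hπ₃)

/-- `QO` for an invariant open: the values of the chart. -/
theorem QO_iff (h𝒳 : FibCat.IsFibGrpd 𝒳.p) {v : FibCat.overCat V ⥤ᵇ 𝒳} {R : Over S} (G : PairRep v v R)
    {O : V.left.Opens} (hO : G.s.left ⁻¹ᵁ O = G.t.left ⁻¹ᵁ O) (a : Over V) :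
    QO v O (v.obj a) ↔ Set.range a.hom.left ⊆ (O : Set V.left) := by
  constructor
  · intro h
    exact h a (𝟙 _)
  · intro h B b
    -- the arrow `b` lies over `g`
    let g : B.left ⟶ a.left := eqToHom (v.w_obj B).symm ≫ 𝒳.p.map b ≫ eqToHom (v.w_obj a)
    let a' : Over V := Over.mk (g ≫ a.hom)
    let k : a' ⟶ a := Over.homMk g rfl
    obtain ⟨χ, hχ1, hχ2⟩ := exists_hom h𝒳 (v.map k) b (eqToHom ((v.w_obj B).trans (v.w_obj a').symm)) (by
      rw [map_map]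
      change _ ≫ _ ≫ g ≫ _ = _
      simp [g])
    have hχ : K734.Fib.IsVert 𝒳 χ := by
      refine K734.Fib.isVert_iff.2 ⟨(v.w_obj B).trans (v.w_obj a').symm, ?_⟩
      exact hχ1
    obtain ⟨ρ, hρ⟩ := G.exists_pt (T := B.left) (u := B.hom) (v := g ≫ a.hom) χ hχ
    rintro _ ⟨t, rfl⟩
    have e1 : G.s.left (ρ.left t) = B.hom.left t := by
      rw [← Scheme.Hom.comp_apply, ← Over.comp_left, hρ.hs]
    have e2 : G.t.left (ρ.left t) = a.hom.left (g.left t) := by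
      rw [← Scheme.Hom.comp_apply, ← Scheme.Hom.comp_apply, ← Over.comp_left, ← Over.comp_left, hρ.ht]
    rw [← e1]
    change ρ.left t ∈ G.s.left ⁻¹ᵁ O
    rw [hO]
    change G.t.left (ρ.left t) ∈ O
    rw [e2]
    exact h ⟨_, rfl⟩

/-- Well-nigh affine open substacks. -/
theorem exists_wna (h𝒳 : AlgSt.IsAlgStack Scheme.fppfPrecoverage 𝒳) {v : FibCat.overCat V ⥤ᵇ 𝒳}
    (hv : AlgSt.RepByAlgSpWith (WnaP S) v)
    (hAF : ∀ E : Set V.left, E.Finite → ∃ O : V.left.Opens, IsAffineOpen O ∧ E ⊆ (O : Set V.left)) (x : V.left) :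
    ∃ (Q : 𝒳.obj → Prop) (O : V.left.Opens), x ∈ O ∧ HasOpenLocus Q ∧
      (∀ a : Over V, Q (v.obj a) ↔ Set.range a.hom.left ⊆ (O : Set V.left)) ∧
      AlgSt.IsWellNighAffine (AlgSt.fullSub 𝒳 Q) := by
  obtain ⟨R, G, h1, h2, h3⟩ := exists_fin_pair h𝒳.isStack.1 hv
  have t1 := K734.QDM.prop_t h𝒳.isStack.1 G @IsFinite h1
  have t2 := K734.QDM.prop_t h𝒳.isStack.1 G @Flat h2
  have t3 := K734.QDM.prop_t h𝒳.isStack.1 G @LocallyOfFinitePresentation h3
  have hfin : (G.t.left '' (G.s.left ⁻¹' {x})).Finite := (G.s.left.finite_preimage_singleton x).image _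
  obtain ⟨A, hA, hxA⟩ := hAF _ hfin
  have i1 : IsFinite (ChartRep.toOGpd G h𝒳.isStack.1).toGpd.s := h1
  have i2 : Flat (ChartRep.toOGpd G h𝒳.isStack.1).toGpd.s := h2
  have i3 : LocallyOfFinitePresentation (ChartRep.toOGpd G h𝒳.isStack.1).toGpd.s := h3
  have j1 : IsFinite (ChartRep.toOGpd G h𝒳.isStack.1).toGpd.t := t1
  have j2 : Flat (ChartRep.toOGpd G h𝒳.isStack.1).toGpd.t := t2
  have j3 : LocallyOfFinitePresentation (ChartRep.toOGpd G h𝒳.isStack.1).toGpd.t := t3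
  obtain ⟨O, hO, hxO, hinv⟩ : ∃ O : V.left.Opens, IsAffineOpen O ∧ x ∈ O ∧ G.s.left ⁻¹ᵁ O = G.t.left ⁻¹ᵁ O :=
    Groth.Agent.S1881.result S (ChartRep.toOGpd G h𝒳.isStack.1).toGpd x A hA (fun r hr => hxA ⟨r, hr, rfl⟩)
  have hQ := hasOpenLocus_QO h𝒳.isStack.1 hv O
  have hW := QO_iff h𝒳.isStack.1 G (O := O) hinv
  have hx' : ∀ a, QO v O ((BasedFunctor.comp (AlgSt.overMap (opIncl V O)) v).obj a) := fun a => by
    refine (hW _).2 ?_
    change Set.range (a.hom ≫ opIncl V O).left ⊆ O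
    rintro _ ⟨z, rfl⟩
    rw [Over.comp_left, Scheme.Hom.comp_apply]
    exact (a.hom.left z).2
  exact ⟨QO v O, O, hxO, hQ, hW, opOver V O, _, hO, repByAlgSpWith_atlas hQ v O hW hx' _ hv⟩

end K734.KM
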