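import Groth.Agent.AlgSt.K734.Wna1
/-!
K734.Wna3 : terminal objects of comma categories of functors representable by schemes; the finite scheme of automorphisms
of an object.

* `RepAtF F x` : a terminal object of the category of pairs `(B, F B ⟶ x)`.
* `exists_repAtF` : it exists as soon as the base change of `F` to `x` is a scheme.
* `exists_aut` : the scheme of automorphisms of an object of a stack with finite inertia.
-/

set_option autoImplicit false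
set_option linter.unusedVariables false
set_option backward.isDefEq.respectTransparency false
set_option backward.isDefEq.respectTransparency.types false

universe w' v' w v u

open CategoryTheory CategoryTheory.Limits Opposite AlgebraicGeometry K735.Fib K735.Fp

namespace K734.KM

open K749.Hilb K746 AlgSp K899.OpenCrit

variable {S : Scheme.{u}}

section RepAtF

variable {𝒳 : BasedCategory.{v', w'} (Over S)} {𝒜 : BasedCategory.{v, w} (Over S)} (F : 𝒜 ⥤ᵇ 𝒳)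

/-- A terminal object of the category of pairs `(B, F B ⟶ x)`. -/
structure RepAtF (x : 𝒳.obj) where
  A : 𝒜.obj
  a : F.obj A ⟶ x
  lift : ∀ (B : 𝒜.obj) (b : F.obj B ⟶ x), ∃! k : B ⟶ A, F.map k ≫ a = b

/-- The structure morphism of a member. -/
def strF {x : 𝒳.obj} {A : 𝒜.obj} (a : F.obj A ⟶ x) : 𝒜.p.obj A ⟶ 𝒳.p.obj x := eqToHom (F.w_obj A).symm ≫ 𝒳.p.map a

theorem strF_comp {x : 𝒳.obj} {A B : 𝒜.obj} (k : B ⟶ A) (a : F.obj A ⟶ x) :
    strF F (F.map k ≫ a) = 𝒜.p.map k ≫ strF F a := by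
  rw [strF, strF, Functor.map_comp, map_map]
  simp

theorem strF_comp' {x x' : 𝒳.obj} {A : 𝒜.obj} (a : F.obj A ⟶ x) (f : x ⟶ x') :
    strF F (a ≫ f) = strF F a ≫ 𝒳.p.map f := by
  rw [strF, strF, Functor.map_comp, Category.assoc]

theorem exists_repAtF (h𝒳 : FibCat.IsFibGrpd 𝒳.p) {x : 𝒳.obj} {y : FibCat.overCat (𝒳.p.obj x) ⥤ᵇ 𝒳}
    (ex : y.obj (idObj _) ≅ x) (hex : Vert 𝒳.p ex.hom) {W : Over S} {w : W ⟶ 𝒳.p.obj x}
    (R : K738.SecRep (FibCat.fpFst y F) ((yon S).obj W) ((yon S).map w)) :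
    ∃ (r : RepAtF F x) (hA : 𝒜.p.obj r.A = W), strF F r.a = eqToHom hA ≫ w := by
  obtain ⟨z₀, h, hz₀⟩ := R.surj (T := W) ⟨𝟙 W⟩
  have hz₀' : eqToHom h ≫ (R.sec z₀).down = 𝟙 W := congrArg ULift.down hz₀
  have hs₀ : (R.sec z₀).down = eqToHom h.symm := by
    rw [← cancel_epi (eqToHom h), hz₀', eqToHom_trans, eqToHom_refl]
  have hp₀ : (R.sec z₀).down ≫ w = z₀.obj.fst.hom := by
    have := congrArg ULift.down (R.proj z₀)
    exact this.trans (Category.id_comp _)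
  let A : 𝒜.obj := z₀.obj.snd
  let a : F.obj A ⟶ x := z₀.obj.iso.inv ≫ y.map (toId z₀.obj.fst) ≫ ex.hom
  have hAW : 𝒜.p.obj A = W := (fp_snd_eq z₀).trans h.symm
  have ha : strF F a = eqToHom (fp_snd_eq z₀) ≫ z₀.obj.fst.hom := by
    change _ ≫ 𝒳.p.map (_ ≫ _ ≫ _) = _
    rw [Functor.map_comp, Functor.map_comp, (Vert.iso_inv (fp_vert z₀)).map_eq, map_map, hex.map_eq]
    simp
    rfl
  have hlift : ∀ (B : 𝒜.obj) (b : F.obj B ⟶ x), ∃! k : B ⟶ A, F.map k ≫ a = b := by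
    intro B b
    let fB : Over (𝒳.p.obj x) := Over.mk (strF F b)
    obtain ⟨χ, hχ1, hχ2⟩ := exists_hom h𝒳 b (y.map (toId fB) ≫ ex.hom)
      (eqToHom ((y.w_obj fB).trans (F.w_obj B).symm)) (by
        rw [Functor.map_comp, map_map, hex.map_eq]
        change _ = (_ ≫ strF F b ≫ _) ≫ _
        simp [strF])
    have hχv : Vert 𝒳.p χ := vert_of_map_eq _ hχ1
    have := hχv.isIso h𝒳
    let z : (FibCat.fp y F).obj := mkFp y F fB B (asIso χ) hχv
    let g : (FibCat.fp y F).p.obj z ⟶ (FibCat.fp y F).p.obj z₀ := (R.sec z).down ≫ eqToHom h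
    obtain ⟨m, hm⟩ := R.full (z := z) (z' := z₀) g (by
      apply ULift.ext
      change g ≫ (R.sec z₀).down = _
      rw [hs₀]
      simp [g])
    have hmk : F.map m.hom.snd ≫ a = b := by
      have h1 : y.map m.hom.fst ≫ z₀.obj.iso.hom = χ ≫ F.map m.hom.snd := fp_w m
      rw [← cancel_epi χ, ← Category.assoc, ← h1]
      change (_ ≫ _) ≫ z₀.obj.iso.inv ≫ y.map (toId z₀.obj.fst) ≫ ex.hom = _
      rw [Category.assoc, Iso.hom_inv_id_assoc, ← Category.assoc, ← y.map_comp, hχ2]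
      congr 2
      exact Over.OverMorphism.ext (Over.w m.hom.fst)
    refine ⟨m.hom.snd, hmk, ?_⟩
    intro k' hk'
    have hk' : F.map k' ≫ a = b := hk'
    have hk1 : strF F b = 𝒜.p.map k' ≫ strF F a := by rw [← hk', strF_comp]
    let c : fB ⟶ z₀.obj.fst := Over.homMk (𝒜.p.map k' ≫ eqToHom (fp_snd_eq z₀)) (by
      change (𝒜.p.map k' ≫ eqToHom (fp_snd_eq z₀)) ≫ z₀.obj.fst.hom = strF F b
      rw [hk1, ha, Category.assoc])
    have hw : y.map c ≫ z₀.obj.iso.hom = χ ≫ F.map k' := by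
      apply hom_ext' h𝒳 a
      · rw [Functor.map_comp, Functor.map_comp, map_map, map_map, hχ1, (fp_vert z₀).map_eq]
        change (_ ≫ (𝒜.p.map k' ≫ eqToHom (fp_snd_eq z₀)) ≫ _) ≫ _ = _ ≫ _ ≫ 𝒜.p.map k' ≫ _
        simp
      · rw [Category.assoc, Category.assoc, hk', hχ2]
        change _ ≫ _ ≫ z₀.obj.iso.inv ≫ y.map (toId z₀.obj.fst) ≫ ex.hom = _
        rw [Iso.hom_inv_id_assoc, ← Category.assoc, ← y.map_comp]
        congr 2
        exact Over.OverMorphism.ext (Over.w c)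
    let m' : z ⟶ z₀ := homFp c k' hw
    have h1 : (FibCat.fp y F).p.map m' ≫ (R.sec z₀).down = (R.sec z).down := congrArg ULift.down (R.map m')
    have h2 : (FibCat.fp y F).p.map m ≫ (R.sec z₀).down = (R.sec z).down := congrArg ULift.down (R.map m)
    have h3 : m' = m := by
      apply R.faithful
      rw [hs₀] at h1 h2
      rw [← cancel_mono (eqToHom h.symm), h1, h2]
    exact congrArg (fun t => t.hom.snd) h3
  refine ⟨⟨A, a, hlift⟩, hAW, ?_⟩
  rw [ha, ← hp₀, hs₀]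
  simp

theorem exists_repAtF_fin (h𝒳 : FibCat.IsFibGrpd 𝒳.p) (hF : AlgSt.RepByAlgSpWith IsFiniteMor F) (x : 𝒳.obj) :
    ∃ r : RepAtF F x, IsFinite (strF F r.a).left := by
  obtain ⟨G, π, hπ₃, ⟨R⟩⟩ := K738.repByAlgSpWith_iff_secRep.1 hF (𝒳.p.obj x) (yonF h𝒳 x rfl)
  obtain ⟨W, i, w, hw⟩ := exists_iso_yon (lqf_of_finiteMor hπ₃) (sep_of_finiteMor hπ₃)
  obtain ⟨r, hA, hr⟩ := exists_repAtF F h𝒳 (yonFIso h𝒳 x rfl) (vert_yonFIso h𝒳 x rfl)
    (K749.Hilb.secRepOfIso R i ((yon S).map w) hw)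
  have hA' : IsIso (eqToHom hA).left := inferInstanceAs (IsIso ((Over.forget S).map (eqToHom hA)))
  have hr' : (strF F r.a).left = (eqToHom hA).left ≫ w.left := by rw [hr]; rfl
  have k1 : IsFinite w.left := by
    rw [K634.FiniteMor.isFiniteMor_iff] at hπ₃
    exact (repWith_yon_map_iff _ w).1 ((MorphismProperty.cancel_left_of_respectsIso (RepWith @IsFinite) i.hom _).1 (by
      rw [hw]; exact hπ₃))
  refine ⟨r, ?_⟩
  rw [hr']
  infer_instance

end RepAtF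

section Aut

variable {𝒳 : AlgSt.Cat S}

/-- The finite scheme of automorphisms of an object. -/
theorem exists_aut (h𝒳 : FibCat.IsFibGrpd 𝒳.p)
    (hI : AlgSt.RepByAlgSpWith AlgSp.IsFiniteMor (FibCat.inertiaToBase (FibCat.toSelf 𝒳))) (x : 𝒳.obj) :
    ∃ (y : 𝒳.obj) (f : y ⟶ x) (φ : y ⟶ y), Vert 𝒳.p φ ∧ IsFinite (𝒳.p.map f).left ∧
      ∀ (z : 𝒳.obj) (g : z ⟶ x) (ψ : z ⟶ z), Vert 𝒳.p ψ → ∃ k : z ⟶ y, k ≫ f = g ∧ ψ ≫ k = k ≫ φ := by
  obtain ⟨r, hr⟩ := exists_repAtF_fin (FibCat.inertiaToBase (FibCat.toSelf 𝒳)) h𝒳 hI x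
  refine ⟨r.A.pt, r.a, r.A.aut.hom, ?_, ?_, fun z g ψ hψ => ?_⟩
  · have h1 : 𝒳.p.map r.A.aut.hom = 𝟙 _ := r.A.map_aut
    refine vert_of_map_eq rfl ?_
    rw [h1]
    rfl
  · have h1 : strF (FibCat.inertiaToBase (FibCat.toSelf 𝒳)) r.a = 𝒳.p.map r.a := Category.id_comp _
    rw [h1] at hr
    exact hr
  · have := hψ.isIso h𝒳
    let Z : (FibCat.inertia (FibCat.toSelf 𝒳)).obj := ⟨z, asIso ψ, by
      refine hψ.map_eq.trans ?_
      simp
      rfl⟩
    obtain ⟨k, hk, -⟩ := r.lift Z g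
    exact ⟨k.hom, hk, k.comm⟩

end Aut

end K734.KM
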