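import Groth.Agent.AlgSt.K734.Wna3
import Groth.Agent.AlgSt.K746.AlgPt
/-!
K734.Wna4 : the stabilizer preserving locus of the stack of finite open pieces.

* `AutInv X w` : the finite open piece `w` is stable under all automorphisms.
* `hasOpenLocus_autInv` : it is an open condition when the inertia is finite.
* `autInv_of_geom` : it holds for a geometric object as soon as the piece is stable under the automorphisms over the
  algebraically closed field.
* `exists_orbit` : the orbit of a point is a finite open piece.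
-/

set_option autoImplicit false
set_option linter.unusedVariables false
set_option backward.isDefEq.respectTransparency false
set_option backward.isDefEq.respectTransparency.types false

universe w' v' w v u

open CategoryTheory CategoryTheory.Limits Opposite AlgebraicGeometry K735.Fib K735.Fp

namespace K734.KM

open K749.Hilb K746 AlgSp K899.OpenCrit K749.Clopen

variable {S : Scheme.{u}} {𝒳 : AlgSt.Cat S} (X : K749.Clopen.Fam 𝒳.p)

/-- The finite open piece is stable under all automorphisms. -/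
def AutInv (w : X.W.obj) : Prop :=
  ∀ (y : 𝒳.obj) (g : y ⟶ w.x) (ψ : y ⟶ y), Vert 𝒳.p ψ → X.res ψ (X.res g w.Z) = X.res g w.Z

theorem vert_map {x : 𝒳.obj} {φ : x ⟶ x} (h : Vert 𝒳.p φ) : 𝒳.p.map φ = 𝟙 _ := by
  rw [h.map_eq]
  simp

/-- Transfer of a vertical endomorphism along a morphism. -/
theorem exists_vert_res (h𝒳 : FibCat.IsFibGrpd 𝒳.p) {y z : 𝒳.obj} (k : z ⟶ y) {φ : y ⟶ y} (hφ : Vert 𝒳.p φ) :
    ∃ ψ : z ⟶ z, Vert 𝒳.p ψ ∧ ψ ≫ k = k ≫ φ := by
  obtain ⟨ψ, h1, h2⟩ := exists_hom h𝒳 k (k ≫ φ) (𝟙 _) (by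
    rw [Functor.map_comp, vert_map hφ, Category.id_comp, Category.comp_id])
  exact ⟨ψ, vert_of_map_eq rfl h1, h2⟩

theorem hasOpenLocus_autInv (h𝒳 : FibCat.IsFibGrpd 𝒳.p)
    (hI : AlgSt.RepByAlgSpWith AlgSp.IsFiniteMor (FibCat.inertiaToBase (FibCat.toSelf 𝒳))) :
    HasOpenLocus (𝒳 := X.W) (AutInv X) := by
  intro w
  obtain ⟨y₀, f, φ, hφ, hfin, huniv⟩ := exists_aut h𝒳 hI w.x
  let Zf := X.res f w.Z
  let L := X.locus Zf (X.res φ Zf)
  let p : (𝒳.p.obj y₀).left ⟶ (𝒳.p.obj w.x).left := (𝒳.p.map f).left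
  have hpC : IsClosed (p '' (L : Set (𝒳.p.obj y₀).left)ᶜ) := by
    have : IsFinite p := hfin
    exact p.isClosedMap _ L.isOpen.isClosed_compl
  refine ⟨⟨(p '' (L : Set (𝒳.p.obj y₀).left)ᶜ)ᶜ, hpC.isOpen_compl⟩, fun w' m => ⟨?_, ?_⟩⟩
  · rintro hw _ ⟨s, rfl⟩ ⟨i, hi, his⟩
    refine hi ?_
    have his' : (𝒳.p.map f).left i = (𝒳.p.map m.hom).left s := his
    have sq := IsPullback.of_hasPullback (𝒳.p.map m.hom) (𝒳.p.map f)
    obtain ⟨t, -, ht⟩ := K609.Slice.exists_pt (sq.map (Over.forget S)) s i his'.symm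
    obtain ⟨y, g, e, hg⟩ := exists_lift h𝒳 (x := w'.x) (pullback.fst (𝒳.p.map m.hom) (𝒳.p.map f))
    obtain ⟨k, hk1, hk2⟩ := exists_hom h𝒳 f (g ≫ m.hom) (eqToHom e ≫ pullback.snd _ _) (by
      rw [Functor.map_comp, hg, Category.assoc, Category.assoc, pullback.condition])
    obtain ⟨ψ, hψ, hψk⟩ := exists_vert_res h𝒳 k hφ
    have h1 := hw y g ψ hψ
    have h2 : X.res g w'.Z = X.res k Zf := by
      rw [← m.res, X.res_res, X.res_res, hk2]
    rw [h2, X.res_res, hψk, ← X.res_res] at h1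
    have h3 := (X.res_eq_iff k Zf (X.res φ Zf)).1 h1.symm
    have he : IsIso (eqToHom e).left := inferInstanceAs (IsIso ((Over.forget S).map (eqToHom e)))
    let t' : (𝒳.p.obj y).left := (inv (eqToHom e).left) t
    have h4 : (𝒳.p.map k).left t' = i := by
      rw [hk1, Over.comp_left, Scheme.Hom.comp_apply, ← Scheme.Hom.comp_apply (inv (eqToHom e).left),
        IsIso.inv_hom_id]
      exact ht
    rw [← h4]
    exact h3 ⟨t', rfl⟩
  · rintro hU y g ψ hψ
    obtain ⟨k, hk1, hk2⟩ := huniv y (g ≫ m.hom) ψ hψ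
    have h2 : X.res g w'.Z = X.res k Zf := by
      rw [← m.res, X.res_res, X.res_res, hk1]
    rw [h2, X.res_res, hk2, ← X.res_res]
    refine ((X.res_eq_iff k Zf (X.res φ Zf)).2 ?_).symm
    rintro _ ⟨t, rfl⟩
    by_contra hcon
    refine hU ⟨(𝒳.p.map g).left t, rfl⟩ ⟨(𝒳.p.map k).left t, hcon, ?_⟩
    change (𝒳.p.map f).left ((𝒳.p.map k).left t) = (𝒳.p.map m.hom).left ((𝒳.p.map g).left t)
    rw [← Scheme.Hom.comp_apply, ← Scheme.Hom.comp_apply, ← Over.comp_left, ← Over.comp_left, ← Functor.map_comp,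
      ← Functor.map_comp, hk1]

theorem isLocallyArtinian_base {Ω : Type u} [Field Ω] {s : Spec (CommRingCat.of Ω) ⟶ S} {T : Over S}
    (hT : T = Over.mk s) : IsLocallyArtinian T.left := by
  subst hT
  exact Scheme.isLocallyArtinianScheme_Spec.mpr (inferInstanceAs (IsArtinianRing Ω))

theorem exists_pt_section {Ω : Type u} [Field Ω] [IsAlgClosed Ω] {s : Spec (CommRingCat.of Ω) ⟶ S} {T I : Over S}
    (hT : T = Over.mk s) (p : I ⟶ T) [LocallyOfFiniteType p.left] (i : I.left) (hi : IsClosed {i}) :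
    ∃ σ : T ⟶ I, σ ≫ p = 𝟙 T ∧ i ∈ Set.range σ.left := by
  subst hT
  let q : I.left ⟶ Spec (CommRingCat.of Ω) := p.left
  have : LocallyOfFiniteType q := ‹_›
  refine ⟨Over.homMk (pointOfClosedPoint q i hi) ?_, ?_, ?_⟩
  · have h1 : I.hom = q ≫ s := (Over.w p).symm
    rw [h1, ← Category.assoc, pointOfClosedPoint_comp]
    rfl
  · apply Over.OverMorphism.ext
    exact pointOfClosedPoint_comp q i hi
  · exact ⟨IsLocalRing.closedPoint Ω, pointOfClosedPoint_apply q i hi _⟩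

/-- Stability under the automorphisms over an algebraically closed field. -/
theorem autInv_of_geom (h𝒳 : FibCat.IsFibGrpd 𝒳.p)
    (hI : AlgSt.RepByAlgSpWith AlgSp.IsFiniteMor (FibCat.inertiaToBase (FibCat.toSelf 𝒳)))
    {Ω : Type u} [Field Ω] [IsAlgClosed Ω] {s : Spec (CommRingCat.of Ω) ⟶ S} (w : X.W.obj)
    (hw : 𝒳.p.obj w.x = Over.mk s) (h : ∀ φ : w.x ⟶ w.x, Vert 𝒳.p φ → X.res φ w.Z = w.Z) : AutInv X w := by
  intro y g ψ hψ
  obtain ⟨y₀, f, φ, hφ, hfin, huniv⟩ := exists_aut h𝒳 hI w.x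
  obtain ⟨k, hk1, hk2⟩ := huniv y g ψ hψ
  have h2 : X.res g w.Z = X.res k (X.res f w.Z) := by
    rw [X.res_res, hk1]
  rw [h2, X.res_res, hk2, ← X.res_res]
  refine ((X.res_eq_iff k (X.res f w.Z) (X.res φ (X.res f w.Z))).2 ?_).symm
  rintro i -
  have hA : IsLocallyArtinian (𝒳.p.obj w.x).left := isLocallyArtinian_base hw
  have hfin' : IsFinite (𝒳.p.map f).left := hfin
  have hA' : IsLocallyArtinian (𝒳.p.obj y₀).left := IsLocallyArtinian.of_locallyQuasiFinite (𝒳.p.map f).left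
  have hi : IsClosed {i} := isClosed_discrete _
  obtain ⟨σ, hσ, hi'⟩ := exists_pt_section hw (𝒳.p.map f) i hi
  obtain ⟨l, hl1, hl2⟩ := exists_hom h𝒳 f (𝟙 w.x) σ (by rw [hσ]; exact (𝒳.p.map_id _).symm)
  obtain ⟨θ, hθ, hθl⟩ := exists_vert_res h𝒳 l hφ
  have h4 : X.res l (X.res f w.Z) = w.Z := by
    rw [X.res_res, hl2]
    exact X.res_id _
  have h5 : X.res l (X.res φ (X.res f w.Z)) = X.res l (X.res f w.Z) := by
    rw [X.res_res l φ, ← hθl, ← X.res_res θ l, h4]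
    exact h θ hθ
  have h6 := (X.res_eq_iff l _ _).1 h5.symm
  rw [hl1] at h6
  exact h6 hi'

theorem subsingleton_base {Ω : Type u} [Field Ω] {s : Spec (CommRingCat.of Ω) ⟶ S} {T : Over S}
    (hT : T = Over.mk s) : Subsingleton T.left := by
  subst hT
  exact inferInstanceAs (Subsingleton (PrimeSpectrum Ω))

/-- The orbit of a point under the automorphisms is a finite open piece. -/
theorem exists_orbit (h𝒳 : FibCat.IsFibGrpd 𝒳.p)
    (hI : AlgSt.RepByAlgSpWith AlgSp.IsFiniteMor (FibCat.inertiaToBase (FibCat.toSelf 𝒳)))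
    {Ω : Type u} [Field Ω] {s : Spec (CommRingCat.of Ω) ⟶ S} (x : 𝒳.obj) (hx : 𝒳.p.obj x = Over.mk s)
    (z₀ : X.X.obj x) :
    ∃ Z : X.D x, z₀ ∈ Z.1 ∧ ∀ φ : x ⟶ x, Vert 𝒳.p φ → X.res φ Z = Z := by
  obtain ⟨y₀, f, φ₀, hφ₀, hfin, huniv⟩ := exists_aut h𝒳 hI x
  let E : Set (X.X.obj x) := {z | ∃ φ : x ⟶ x, Vert 𝒳.p φ ∧ X.X.map φ z₀ = z}
  have hff : IsFinite (X.X.map f) := MorphismProperty.of_isPullback (P := @IsFinite) (X.sq f).flip hfin
  have hE : E.Finite := by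
    refine (((X.X.map f).finite_preimage_singleton z₀).image (X.X.map (φ₀ ≫ f))).subset ?_
    rintro _ ⟨φ, hφ, rfl⟩
    obtain ⟨k, hk1, hk2⟩ := huniv x (𝟙 x) φ hφ
    refine ⟨X.X.map k z₀, ?_, ?_⟩
    · change X.X.map f (X.X.map k z₀) = z₀
      rw [← Scheme.Hom.comp_apply, ← Functor.map_comp, hk1, CategoryTheory.Functor.map_id]
      rfl
    · have h1 : k ≫ φ₀ ≫ f = φ := by
        rw [← Category.assoc, ← hk2, Category.assoc, hk1, Category.comp_id]
      rw [← Scheme.Hom.comp_apply, ← Functor.map_comp, h1]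
  have hA : IsLocallyArtinian (𝒳.p.obj x).left := isLocallyArtinian_base hx
  have hA' : IsLocallyArtinian (X.X.obj x) := IsLocallyArtinian.of_locallyQuasiFinite (X.π x)
  let Zo : (X.X.obj x).Opens := ⟨E, isOpen_discrete _⟩
  have hz₀ : z₀ ∈ Zo := ⟨𝟙 x, vert_of_map_eq rfl (𝒳.p.map_id _), by rw [CategoryTheory.Functor.map_id]; rfl⟩
  have hc : CompactSpace Zo := by
    have : Finite Zo := hE.to_subtype
    infer_instance
  have hFO : FO (X.π x) Zo := by
    refine ⟨?_, ⟨fun t => ?_⟩⟩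
    · have : QuasiCompact (Zo.ι ≫ X.π x) := inferInstance
      exact IsFinite.of_locallyQuasiFinite _
    · have := subsingleton_base hx
      exact ⟨⟨z₀, hz₀⟩, Subsingleton.elim _ _⟩
  refine ⟨⟨Zo, hFO⟩, hz₀, fun φ hφ => ?_⟩
  have hφi := hφ.isIso h𝒳
  apply Fam.D.ext
  ext z
  change X.X.map φ z ∈ E ↔ z ∈ E
  constructor
  · rintro ⟨θ, hθ, h1⟩
    refine ⟨θ ≫ inv φ, hθ.comp hφ.inv, ?_⟩
    rw [Functor.map_comp, Scheme.Hom.comp_apply, h1, ← Scheme.Hom.comp_apply, ← Functor.map_comp, IsIso.hom_inv_id,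
      CategoryTheory.Functor.map_id]
    rfl
  · rintro ⟨θ, hθ, rfl⟩
    refine ⟨θ ≫ φ, hθ.comp hφ, ?_⟩
    rw [Functor.map_comp, Scheme.Hom.comp_apply]

end K734.KM
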