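import Groth.Agent.AlgSt.K734.Wna4
import Groth.Agent.AlgSt.K735.Lift
import Groth.Agent.AlgSt.K743.Comp
import Groth.Agent.AlgSt.K746.AffFin
import Groth.Prelude.Def_StGerb2
/-!
K734.Wna5 : étale covers of algebraic stacks with finite inertia by well-nigh affine stacks.

* `exists_sep_chart` : a flat, locally finitely presented, locally quasi-finite, separated chart from an affine scheme, through
  which a given geometric object factors.
-/

set_option autoImplicit false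
set_option linter.unusedVariables false
set_option backward.isDefEq.respectTransparency false
set_option backward.isDefEq.respectTransparency.types false

universe u

open CategoryTheory CategoryTheory.Limits Opposite AlgebraicGeometry K735.Fib K735.Fp

namespace K734.KM

open K749.Hilb K746 AlgSp K899.OpenCrit

variable {S : Scheme.{u}} {𝒳 : AlgSt.Cat S}

theorem isSeparated_of_isAffine {X Y : Scheme.{u}} (f : X ⟶ Y) [IsAffine X] : IsSeparated f := by
  have : IsSeparated (f ≫ terminal.from Y) := by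
    rw [terminal.comp_from]
    infer_instance
  exact IsSeparated.of_comp f (terminal.from Y)

/-- The flat lfp lqf charts restricted to an open. -/
theorem repByAlgSpWith_restr {W : Over S} {w : FibCat.overCat W ⥤ᵇ 𝒳}
    (hw : AlgSt.RepByAlgSpWith (LocP (@Flat ⊓ @LocallyOfFinitePresentation ⊓ @LocallyQuasiFinite)) w)
    {V : Over S} (j : V ⟶ W) (hj : IsOpenImmersion j.left) :
    AlgSt.RepByAlgSpWith (LocP (@Flat ⊓ @LocallyOfFinitePresentation ⊓ @LocallyQuasiFinite))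
      (BasedFunctor.comp (AlgSt.overMap j) w) := by
  have i1 := K597.stableBC_inf @LocallyQuasiFinite.{u} @LocallyOfFiniteType.{u}
  have i2 := K597.stableComp_inf @LocallyQuasiFinite.{u} @LocallyOfFiniteType.{u}
  have h1 : AlgSt.RepByAlgSpWith (LocP @Flat) (BasedFunctor.comp (AlgSt.overMap j) w) :=
    K743.Comp.locP_overMap_comp K597.etLoc_flat j (by infer_instance) w
      (K740.SpIso.repByAlgSpWith_imp hw fun _ _ _ h => K597.locP_mono (fun _ _ _ h => h.1.1) h)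
  have h2 : AlgSt.RepByAlgSpWith (LocP @LocallyOfFinitePresentation) (BasedFunctor.comp (AlgSt.overMap j) w) :=
    K743.Comp.locP_overMap_comp K597.etLoc_lfp j (by infer_instance) w
      (K740.SpIso.repByAlgSpWith_imp hw fun _ _ _ h => K597.locP_mono (fun _ _ _ h => h.1.2) h)
  have h3 : AlgSt.RepByAlgSpWith (LocP (@LocallyQuasiFinite ⊓ @LocallyOfFiniteType))
      (BasedFunctor.comp (AlgSt.overMap j) w) :=
    K743.Comp.locP_overMap_comp K597.etLoc_lqf j ⟨by infer_instance, by infer_instance⟩ w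
      (K740.SpIso.repByAlgSpWith_imp hw fun _ _ _ h => K597.locP_mono (fun _ _ f h => by
        obtain ⟨⟨h1, h2⟩, h3⟩ := h
        have := h1; have := h2; have := h3
        exact ⟨inferInstance, inferInstance⟩) h)
  have r1 := K735.Top.locP_respectsIso (S := S) @Flat
  have r2 := K735.Top.locP_respectsIso (S := S) @LocallyOfFinitePresentation
  have r3 := K735.Top.locP_respectsIso (S := S) (@LocallyQuasiFinite ⊓ @LocallyOfFiniteType)
  refine K740.SpIso.repByAlgSpWith_imp (K740.SpIso.repByAlgSpWith_inf (K740.SpIso.repByAlgSpWith_inf h1 h2) h3) ?_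
  rintro F U q ⟨⟨q1, q2⟩, q3⟩
  rw [K597.locP_inf_iff] at q3
  rw [K597.locP_inf_iff, K597.locP_inf_iff]
  exact ⟨⟨q1, q2⟩, q3.1⟩

theorem exists_sep_chart (h𝒳 : AlgSt.IsAlgStack Scheme.fppfPrecoverage 𝒳)
    (hI : AlgSt.RepByAlgSpWith AlgSp.IsFiniteMor (FibCat.inertiaToBase (FibCat.toSelf 𝒳)))
    {Ω : Type u} [Field Ω] [IsAlgClosed Ω] {s : Spec (CommRingCat.of Ω) ⟶ S} (x : 𝒳.obj)
    (hx : 𝒳.p.obj x = Over.mk s) :
    ∃ (V : Over S) (v : FibCat.overCat V ⥤ᵇ 𝒳), IsAffine V.left ∧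
      AlgSt.RepByAlgSpWith (LocP (@Flat ⊓ @LocallyOfFinitePresentation ⊓ @LocallyQuasiFinite) ⊓ IsSeparatedMor) v ∧
      ∃ (B : Over V) (_ : v.obj B ⟶ x), Nonempty B.left.left := by
  obtain ⟨W, w, hw⟩ := exists_cover h𝒳 hI
  have hs := K735.Top.surjective_of_repByAlgSpWith h𝒳.isStack.1 (K735.Fp.isFibGrpd_overCat W)
    (K740.SpIso.repByAlgSpWith_imp hw fun _ _ _ h => h.2)
  have hlft : AlgSt.RepByAlgSpWith (LocP @LocallyOfFiniteType) w :=
    K740.SpIso.repByAlgSpWith_imp hw fun _ _ _ h => K597.locP_mono (fun _ _ f h => by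
      obtain ⟨⟨h1, h2⟩, h3⟩ := h
      have := h1; have := h2; have := h3
      infer_instance) h.1
  obtain ⟨a, φ, ha, hφ⟩ := K735.Lift.exists_lift_of_mem_range h𝒳.isStack.1 (K735.Fp.isFibGrpd_overCat W) hlft x hx
    (hs _)
  have ha' : a.left = Over.mk s := ha
  have hsub : Subsingleton a.left.left := subsingleton_base ha'
  have hne : Nonempty a.left.left := by
    rw [ha']
    exact inferInstanceAs (Nonempty (PrimeSpectrum Ω))
  obtain ⟨t⟩ := hne
  obtain ⟨V₀, hV₀, ht, -⟩ := exists_isAffineOpen_mem_and_subset (X := W.left) (x := a.hom.left t) (U := ⊤) trivial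
  obtain ⟨B, e, he⟩ := exists_factor (W := V₀) a (by
    rintro _ ⟨t', rfl⟩
    rw [Subsingleton.elim t' t]
    exact ht)
  refine ⟨opOver W V₀, BasedFunctor.comp (AlgSt.overMap (opIncl W V₀)) w, hV₀, ?_, B, w.map e.hom ≫ φ,
    ⟨e.inv.left.left t⟩⟩
  have hA : IsAffine (opOver W V₀).left := hV₀
  have hsep : IsSeparated (opOver W V₀).hom := isSeparated_of_isAffine (X := (opOver W V₀).left) _
  have r1 := K735.Top.locP_respectsIso (S := S) (@Flat ⊓ @LocallyOfFinitePresentation ⊓ @LocallyQuasiFinite)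
  have r2 : (AlgSp.IsSeparatedMor (S := S)).RespectsIso :=
    have := K595.DiagRel.isSeparatedMor_isStableUnderBaseChange (S := S)
    MorphismProperty.IsStableUnderBaseChange.respectsIso
  refine K740.SpIso.repByAlgSpWith_inf (repByAlgSpWith_restr (K740.SpIso.repByAlgSpWith_imp hw fun _ _ _ h => h.1) _
    (inferInstanceAs (IsOpenImmersion V₀.ι))) ?_
  exact repByAlgSpWith_sep h𝒳.isStack.1 (sep_of_inertia h𝒳 hI) _

theorem bijective_autMap {𝒜 ℬ : AlgSt.Cat S} (F : 𝒜 ⥤ᵇ ℬ) (hF : F.toFunctor.Faithful) (x : 𝒜.obj)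
    (h : ∀ φ : F.obj x ⟶ F.obj x, Vert ℬ.p φ → ∃ χ : x ⟶ x, F.map χ = φ) : Function.Bijective (Gerb.autMap F x) := by
  constructor
  · intro α β hαβ
    apply Aut.ext
    apply Functor.Fiber.hom_ext
    have h1 : F.map α.hom.1 = F.map β.hom.1 := by
      rw [← Gerb.autMap_hom_val, hαβ, Gerb.autMap_hom_val]
    exact F.toFunctor.map_injective h1
  · intro γ
    obtain ⟨χ, hχ⟩ := h γ.hom.1 (by
      have := γ.hom.2
      exact vert_of_isHomLift this)
    obtain ⟨χ', hχ'⟩ := h γ.inv.1 (by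
      have := γ.inv.2
      exact vert_of_isHomLift this)
    have e1 : γ.hom.1 ≫ γ.inv.1 = 𝟙 _ := congrArg Subtype.val γ.hom_inv_id
    have e2 : γ.inv.1 ≫ γ.hom.1 = 𝟙 _ := congrArg Subtype.val γ.inv_hom_id
    have l1 : 𝒜.p.IsHomLift (𝟙 (𝒜.p.obj x)) χ := by
      rw [← BasedFunctor.isHomLift_iff F, hχ]
      have := γ.hom.2
      exact (vert_of_isHomLift this).isHomLift (F.w_obj x)
    have l2 : 𝒜.p.IsHomLift (𝟙 (𝒜.p.obj x)) χ' := by
      rw [← BasedFunctor.isHomLift_iff F, hχ']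
      have := γ.inv.2
      exact (vert_of_isHomLift this).isHomLift (F.w_obj x)
    refine ⟨{ hom := ⟨χ, l1⟩, inv := ⟨χ', l2⟩, hom_inv_id := ?_, inv_hom_id := ?_ }, ?_⟩
    · apply Functor.Fiber.hom_ext
      apply F.toFunctor.map_injective
      change F.map (χ ≫ χ') = F.map (𝟙 x)
      rw [F.toFunctor.map_comp, F.toFunctor.map_id]
      rw [hχ, hχ', e1]
    · apply Functor.Fiber.hom_ext
      apply F.toFunctor.map_injective
      change F.map (χ' ≫ χ) = F.map (𝟙 x)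
      rw [F.toFunctor.map_comp, F.toFunctor.map_id]
      rw [hχ, hχ', e2]
    · apply Aut.ext
      apply Functor.Fiber.hom_ext
      exact hχ

theorem nice_sep : K734.Rep.Nice (S := S) AlgSp.IsSeparatedMor where
  bc := K739.Props.bc_sep
  comp := K739.Props.comp_sep
  loc := K739.Props.isLocalOnBase_fppf_of_fpqc (Groth.Agent.S10535.result S)

theorem isEtale_of_openImm {F : AlgSp.Sp S} {U : Over S} {q : F ⟶ (yon S).obj U}
    (h : RepWith @IsOpenImmersion q) : (AlgSp.IsEtaleMor ⊓ AlgSp.IsSeparatedMor) q := by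
  refine ⟨K734.Rep.isEtaleMor_of_repWith (AlgSp.IsAlgSpace.yon_obj U) (K597.repWith_mono (fun _ _ g hg => by
    have : IsOpenImmersion g := hg
    infer_instance) h), ?_⟩
  exact (K595.DiagBasic.isSeparatedMor_iff_repWith h.1).2 (K597.repWith_mono (fun _ _ g hg => by
    have : IsOpenImmersion g := hg
    infer_instance) h)

theorem nice_etSep : K734.Rep.Nice (S := S) (AlgSp.IsEtaleMor ⊓ AlgSp.IsSeparatedMor) :=
  K734.Rep.nice_isEtaleMor.inf nice_sep

theorem exists_nhd (h𝒳 : AlgSt.IsAlgStack Scheme.fppfPrecoverage 𝒳)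
    (hI : AlgSt.RepByAlgSpWith AlgSp.IsFiniteMor (FibCat.inertiaToBase (FibCat.toSelf 𝒳)))
    {Ω : Type u} [Field Ω] [IsAlgClosed Ω] {s : Spec (CommRingCat.of Ω) ⟶ S} (ξ : 𝒳.obj)
    (hξ : 𝒳.p.obj ξ = Over.mk s) :
    ∃ (𝒳' : AlgSt.Cat S) (g : 𝒳' ⥤ᵇ 𝒳), AlgSt.Points.mk ⟨Ω, s, ξ, hξ⟩ ∈ Set.range (AlgSt.Points.map g) ∧
      AlgSt.IsAlgStack Scheme.fppfPrecoverage 𝒳' ∧ AlgSt.IsWellNighAffine 𝒳' ∧
      (∀ x' : 𝒳'.obj, Function.Bijective (Gerb.autMap g x')) ∧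
      AlgSt.RepByAlgSpWith AlgSp.IsEtaleMor g ∧ AlgSt.IsSeparatedMor g := by
  obtain ⟨V, v, hV, hv, B, b, ⟨β⟩⟩ := exists_sep_chart h𝒳 hI ξ hξ
  obtain ⟨d⟩ := exists_dat' h𝒳.isStack.1 hv
  let z₀ : d.X.X.obj ξ := ((d.r ξ).k b).left.left β
  obtain ⟨Z₁, -, hZ₁⟩ := exists_orbit d.X h𝒳.isStack.1 hI ξ hξ z₀
  let w₀ : d.X.W.obj := ⟨ξ, Z₁⟩
  have hw₀ : AutInv d.X w₀ := autInv_of_geom d.X h𝒳.isStack.1 hI w₀ hξ hZ₁
  have h𝒲 : AlgSt.IsAlgStack Scheme.fppfPrecoverage d.X.W := isAlgStack_W h𝒳 d.X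
  have hP : HasOpenLocus (𝒳 := d.X.W) (AutInv d.X) := hasOpenLocus_autInv d.X h𝒳.isStack.1 hI
  have hsub := isOpenSubstack h𝒲 hP
  obtain ⟨Z, t, z, ht1, ht2, ht3, hz⟩ := exists_chart_W d
  obtain ⟨W', hW'⟩ := exists_locus hP z
  have hx' : ∀ a, AutInv d.X ((BasedFunctor.comp (AlgSt.overMap (opIncl Z W')) z).obj a) := fun a => by
    refine (hW' _).2 ?_
    change Set.range (a.hom ≫ opIncl Z W').left ⊆ W'
    rintro _ ⟨z, rfl⟩
    rw [Over.comp_left, Scheme.Hom.comp_apply]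
    exact (a.hom.left z).2
  have hζ := repByAlgSpWith_atlas hP z W' hW' hx' _ hz
  let 𝒲₀ : AlgSt.Cat S := AlgSt.fullSub d.X.W (AutInv d.X)
  have h𝒲₀ : AlgSt.IsAlgStack Scheme.fppfPrecoverage 𝒲₀ := hsub.2.1
  let ζ : FibCat.overCat (opOver Z W') ⥤ᵇ 𝒲₀ := liftSub (AutInv d.X) (BasedFunctor.comp (AlgSt.overMap (opIncl Z W')) z) hx'
  have hAF : ∀ E : Set (opOver Z W').left, E.Finite → ∃ O : (opOver Z W').left.Opens, IsAffineOpen O ∧
      E ⊆ (O : Set (opOver Z W').left) := fun E hE => by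
    have : LocallyQuasiFinite (W'.ι ≫ t.left) := inferInstance
    exact K746.AffFin.exists_isAffineOpen (X := (W' : Scheme.{u})) (W'.ι ≫ t.left) E hE
  have hζs : Function.Surjective (AlgSt.Points.map ζ) :=
    K735.Top.surjective_of_repByAlgSpWith h𝒲₀.isStack.1 (K735.Fp.isFibGrpd_overCat _)
      (K740.SpIso.repByAlgSpWith_imp hζ fun _ _ _ h => h.1.1.1)
  let ω₀ : AlgSt.FPt 𝒲₀ := ⟨Ω, s, ⟨w₀, hw₀⟩, hξ⟩
  obtain ⟨q', hq'⟩ := hζs (AlgSt.Points.mk ω₀)
  obtain ⟨q, rfl⟩ := AlgSt.Points.mk_surjective q'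
  have hq0 : q.obj.left = Over.mk q.str := q.lies
  have hsb : Subsingleton q.obj.left.left := subsingleton_base hq0
  have hne : Nonempty q.obj.left.left := by
    rw [hq0]
    exact inferInstanceAs (Nonempty (PrimeSpectrum q.K))
  obtain ⟨τ⟩ := hne
  obtain ⟨Q, O, hu, hQ, hQ', hwna⟩ := exists_wna h𝒲₀ hζ hAF (q.obj.hom.left τ)
  have hQq : Q (ζ.obj q.obj) := (hQ' _).2 (by
    rintro _ ⟨τ', rfl⟩
    rw [Subsingleton.elim τ' τ]
    exact hu)
  have hsub2 := isOpenSubstack h𝒲₀ hQ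
  have g1 : AlgSt.RepByAlgSpWith (AlgSp.IsEtaleMor ⊓ AlgSp.IsSeparatedMor) (AlgSt.subIncl 𝒲₀ Q) :=
    K740.SpIso.repByAlgSpWith_imp hsub2.2.2 fun _ _ _ h => isEtale_of_openImm h
  have g2 : AlgSt.RepByAlgSpWith (AlgSp.IsEtaleMor ⊓ AlgSp.IsSeparatedMor) (AlgSt.subIncl d.X.W (AutInv d.X)) :=
    K740.SpIso.repByAlgSpWith_imp hsub.2.2 fun _ _ _ h => isEtale_of_openImm h
  have g3 := repByAlgSpWith_Wf' d.X
  have g4 := K734.Rep.repByAlgSpWith_comp h𝒲₀.isStack.1 h𝒲.isStack.1 nice_etSep.bc nice_etSep.comp nice_etSep.loc g2 g3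
  have g5 := K734.Rep.repByAlgSpWith_comp hsub2.2.1.isStack.1 h𝒲₀.isStack.1 nice_etSep.bc nice_etSep.comp nice_etSep.loc
    g1 g4
  let g := BasedFunctor.comp (AlgSt.subIncl 𝒲₀ Q) (BasedFunctor.comp (AlgSt.subIncl d.X.W (AutInv d.X)) d.X.Wf)
  refine ⟨AlgSt.fullSub 𝒲₀ Q, g, ?_, hsub2.2.1, hwna, ?_, ?_, ?_⟩
  · refine ⟨AlgSt.Points.mk ⟨q.K, q.str, ⟨ζ.obj q.obj, hQq⟩, (ζ.w_obj q.obj).trans q.lies⟩, ?_⟩
    exact congrArg (AlgSt.Points.map (BasedFunctor.comp (AlgSt.subIncl d.X.W (AutInv d.X)) d.X.Wf)) hq'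
  · intro x'
    refine bijective_autMap g ⟨fun {a a'} φ ψ h => ?_⟩ x' ?_
    · apply ObjectProperty.hom_ext
      apply ObjectProperty.hom_ext
      exact K749.Clopen.Fam.WObj.Hom.ext h
    · intro φ hφ
      have h1 := x'.obj.property (x'.obj.obj.x) (𝟙 _) φ hφ
      rw [K749.Clopen.Fam.res_id] at h1
      exact ⟨ObjectProperty.homMk (ObjectProperty.homMk ⟨φ, h1⟩), rfl⟩
  · exact K740.SpIso.repByAlgSpWith_imp g5 fun _ _ _ h => h.1
  · exact ((K738.tfae_separated (K735.Rep.repByAlgSp1_of_with g5)).out 0 2).1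
      (K740.SpIso.repByAlgSpWith_imp g5 fun _ _ _ h => h.2)

end K734.KM
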